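import Groth.Agent.LinSysLib.OfBundle
import Groth.Agent.MiscFlat6.AmpleFamilyRel
import Groth.Agent.MiscFlat6.RelAmpleCompPowers
import Groth.Agent.MiscFlat6.RelTwistOne
import Groth.Prelude.Def_RelProj

/-!
# A proper morphism with a relatively ample module over a qcqs base is projective
-/

set_option autoImplicit false
universe u

open CategoryTheory CategoryTheory.Limits AlgebraicGeometry TopologicalSpace Opposite
open AmpleLib AmpleThLib
open TwistLib (genSet)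

noncomputable section

namespace LinSysLib

variable {X S : Scheme.{u}}

theorem exists_isGood_of_isRelAmple [CompactSpace S] [QuasiSeparatedSpace S] (f : X ⟶ S) [IsSeparated f]
    [QuasiCompact f] [LocallyOfFiniteType f] {L : X.Modules} (hA : RelAmple.IsRelAmple f L) :
    ∃ T : LinSys f, T.IsGood := by
  classical
  have hL : PicF.IsInvertible L := MiscFlat6.isRelAmple_pb.invertible_of_restrict f hA
  obtain ⟨t, ht⟩ := isCompact_univ.elim_finite_subcover (fun V : S.affineOpens => (V.1 : Set S))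
    (fun V => V.1.isOpen) (fun x _ => by
      obtain ⟨U, hU, hxU, -⟩ := exists_isAffineOpen_mem_and_subset (x := x) (U := ⊤) trivial
      exact Set.mem_iUnion.mpr ⟨⟨U, hU⟩, hxU⟩)
  have hdata : ∀ V : t, ∃ n₀ : ℕ, ∀ n, n₀ ≤ n → ∃ (m : ℕ)
      (v : Fin (m + 1) → Γ(CohB1.tensorPow (L.restrict (f ⁻¹ᵁ V.1.1).ι) n, ⊤)) (K : Set (Fin (m + 1))),
      (∀ x, ∃ k ∈ K, x ∈ genSet (tensorPow_isInvertible (restrict_isInvertible hL _) n) (v k)) ∧
      (∀ k ∈ K, IsAffineOpen (genSet (tensorPow_isInvertible (restrict_isInvertible hL _) n) (v k))) ∧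
      ∀ k ∈ K, Subring.closure (Set.range ((f ∣_ V.1.1).appLE ⊤
        (genSet (tensorPow_isInvertible (restrict_isInvertible hL _) n) (v k)) le_top) ∪
        {c | ∃ l, c • res _ (le_top : genSet (tensorPow_isInvertible (restrict_isInvertible hL _) n) (v k) ≤ ⊤) (v k) =
          res _ le_top (v l)}) = ⊤ := fun V => by
    haveI : IsAffine (V.1.1 : Scheme.{u}) := V.1.2
    exact AmpleThLib.exists_data (f ∣_ V.1.1) (restrict_isInvertible hL _) (hA.2 V.1)
  choose n₀ hn₀ using hdata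
  let N : ℕ := (Finset.univ.sup n₀) + 1
  choose m v K hcov haff hgen using fun V : t =>
    hn₀ V N ((Finset.le_sup (Finset.mem_univ V)).trans (Nat.le_succ _))
  let M : X.Modules := CohB1.tensorPow L N
  have hM : PicF.IsInvertible M := tensorPow_isInvertible hL N
  haveI : Coh.IsQCoh M := TwistLib.isQCoh_of_isInvertible hM
  haveI : Coh.IsQCoh ((Scheme.Modules.pushforward f).obj M) := QCohLib.isQCoh_pushforward f M
  let φ := fun V : t => (exists_restrIso hL (f ⁻¹ᵁ V.1.1).ι N).choose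
  let σ' : ∀ V : t, Fin (m V + 1) → Γ(M.restrict (f ⁻¹ᵁ V.1.1).ι, ⊤) := fun V l => (φ V).hom.app ⊤ (v V l)
  have hPre : ∀ V : t, f ⁻¹ᵁ (V.1.1.ι ''ᵁ ⊤) = (f ⁻¹ᵁ V.1.1).ι ''ᵁ ⊤ := fun V => by
    rw [Scheme.Opens.ι_image_top, Scheme.Opens.ι_image_top]
  let σ : ∀ i : (Σ V : t, Fin (m V + 1)), Γ((Scheme.Modules.pushforward f).obj M, i.1.1.1.ι ''ᵁ ⊤) :=
    fun i => res M (hPre i.1).le (show Γ(M, (f ⁻¹ᵁ i.1.1.1).ι ''ᵁ ⊤) from σ' i.1 i.2)
  have hWaff : ∀ V : t, IsAffineOpen (V.1.1.ι ''ᵁ ⊤) := fun V => by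
    rw [Scheme.Opens.ι_image_top]; exact V.1.2
  obtain ⟨G, j, -, hG, hGft, hg⟩ := QCohLib.exists_ft_through_finset (K := (Scheme.Modules.pushforward f).obj M)
    (κ := Σ V : t, Fin (m V + 1)) Finset.univ (fun i => i.1.1.1.ι ''ᵁ ⊤) (fun i => hWaff i.1) σ
  choose g hgσ using fun i => hg i (Finset.mem_univ i)
  refine exists_isGood_of_bundle f j hM hGft fun y => ?_
  obtain ⟨V, hV, hyV⟩ := Set.mem_iUnion₂.mp (ht (Set.mem_univ (f y)))
  let V' : t := ⟨V, hV⟩
  let jX := (f ⁻¹ᵁ V.1).ι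
  obtain ⟨k, hk, hxk⟩ := hcov V' ⟨y, hyV⟩
  let O' := genSet (tensorPow_isInvertible (restrict_isInvertible hL _) N) (v V' k)
  have hO : jX ''ᵁ O' ≤ f ⁻¹ᵁ (V.1.ι ''ᵁ ⊤) := (jX.image_mono le_top).trans (hPre V').ge
  have hjsec : ∀ (O : (f ⁻¹ᵁ V.1 : X.Opens).toScheme.Opens) (hO : jX ''ᵁ O ≤ f ⁻¹ᵁ (V.1.ι ''ᵁ ⊤))
      (l : Fin (m V' + 1)), res M hO (jsec f j (g ⟨V', l⟩)) =
        res M (jX.image_mono le_top) (show Γ(M, jX ''ᵁ ⊤) from σ' V' l) := by
    intro O hO l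
    refine (congrArg (res M hO) (hgσ ⟨V', l⟩)).trans ?_
    exact res_res M _ _ _
  refine ⟨V.1.ι ''ᵁ ⊤, hWaff V', g ⟨V', k⟩, jX ''ᵁ O', hO, ?_, ⟨⟨y, hyV⟩, hxk, rfl⟩,
    (haff V' k hk).image_of_isOpenImmersion jX, ?_, ?_⟩
  · rw [Scheme.Opens.ι_image_top]; exact hyV
  · intro z hz
    have hz' : z ∈ f ⁻¹ᵁ V.1 := by
      rw [Scheme.Opens.ι_image_top] at hz; exact hz
    have h1 : GenAt M (jsec f j (g ⟨V', k⟩)) hz ↔
        (⟨z, hz'⟩ : (f ⁻¹ᵁ V.1 : X.Opens).toScheme) ∈ genSet (restrict_isInvertible hM jX) (σ' V' k) := by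
      refine Iff.trans ?_ (MiscFlat6.genAt_restrict_iff hM jX (σ' V' k) ⟨z, hz'⟩).symm
      refine Iff.trans ?_ (genAt_res (hPre V').le (show Γ(M, jX ''ᵁ ⊤) from σ' V' k) hz)
      exact iff_of_eq (congrArg (fun w => GenAt M w hz) (hgσ ⟨V', k⟩))
    rw [h1, genSet_iso (tensorPow_isInvertible (restrict_isInvertible hL _) N) _ (φ V')]
    constructor
    · exact fun h => ⟨_, h, rfl⟩
    · rintro ⟨w, hw, rfl⟩
      exact hw
  · refine eq_top_iff.mpr ((hgen V' k hk).ge.trans (Subring.closure_mono ?_))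
    rintro c (⟨r, rfl⟩ | ⟨l, hl⟩)
    · refine Or.inl ⟨r, ?_⟩
      rw [morphismRestrict_appLE]
      rfl
    · refine Or.inr ⟨g ⟨V', l⟩, ?_⟩
      rw [hjsec O' hO k, hjsec O' hO l]
      have h2 := congrArg ((φ V').hom.app O') hl
      rw [QCohLib.app_smul, res, res, QCohLib.app_map, QCohLib.app_map] at h2
      refine Eq.trans ?_ h2
      change _ = (show Γ(X, jX ''ᵁ O') from (jX.appIso O').inv c) • res M (jX.image_mono le_top)
        (show Γ(M, jX ''ᵁ ⊤) from σ' V' k)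
      rw [Scheme.Opens.ι_appIso]
      rfl

theorem isProjective_of_isRelAmple [CompactSpace S] [QuasiSeparatedSpace S] (f : X ⟶ S) [IsProper f]
    {L : X.Modules} (hA : RelAmple.IsRelAmple f L) : RelProj.IsProjective f := by
  obtain ⟨T, hT⟩ := exists_isGood_of_isRelAmple f hA
  exact isProjective_of_isGood T hT

/-- composites of projective morphisms over a qcqs base are projective -/
theorem isProjective_comp {Y : Scheme.{u}} [CompactSpace S] [QuasiSeparatedSpace S] {f : X ⟶ Y} {g : Y ⟶ S}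
    (hf : RelProj.IsProjective f) (hg : RelProj.IsProjective g) : RelProj.IsProjective (f ≫ g) := by
  obtain ⟨⟨-, -, L, hL⟩, _⟩ := MiscFlat6.isQuasiProjective_of_isProjective hf
  obtain ⟨⟨-, -, K, hK⟩, _⟩ := MiscFlat6.isQuasiProjective_of_isProjective hg
  obtain ⟨n₀, -, hn⟩ := MiscFlat6.relAmple_comp_tensor_pullback_powers f g L K hL hK
  exact isProjective_of_isRelAmple (f ≫ g) (hn n₀ le_rfl)

end LinSysLib

end
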