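import Groth.Agent.LinSysLib.Criterion
import Groth.Agent.BlowUpLib.Props

/-!
# A blowing up in an ideal of finite type is projective
-/

set_option autoImplicit false
universe u

open CategoryTheory CategoryTheory.Limits AlgebraicGeometry TopologicalSpace Opposite

noncomputable section

namespace LinSysLib

variable {Y : Scheme.{u}}

lemma appLE_trans {X : Scheme.{u}} (b : Y ⟶ X) {U : X.Opens} {O O' : Y.Opens} (e : O ≤ b ⁻¹ᵁ U) (h : O' ≤ O)
    (a : Γ(X, U)) : rs h ((b.appLE U O e).hom a) = (b.appLE U O' (h.trans e)).hom a := by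
  rw [rs, ← CommRingCat.comp_apply, Scheme.Hom.appLE_map]

lemma appLE_res {X : Scheme.{u}} (b : Y ⟶ X) {U V : X.Opens} (h : V ≤ U) {O : Y.Opens} (e : O ≤ b ⁻¹ᵁ V)
    (a : Γ(X, U)) : (b.appLE V O e).hom (rs h a) = (b.appLE U O (e.trans (b.preimage_mono h))).hom a := by
  rw [rs, ← CommRingCat.comp_apply, Scheme.Hom.map_appLE]

/-- an affine open with a generator of an ideal sheaf which is a nonzerodivisor -/
structure PrinPiece (𝓙 : Y.IdealSheafData) where
  /-- the open -/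
  W : Y.affineOpens
  /-- the generator -/
  γ : Γ(Y, W.1)
  nzd : γ ∈ nonZeroDivisors Γ(Y, W.1)
  ideal_eq : 𝓙.ideal W = Ideal.span {γ}

namespace PrinPiece

variable {𝓙 : Y.IdealSheafData} (P : PrinPiece 𝓙)

lemma cancel {O : Y.Opens} (h : O ≤ P.W.1) {z : Γ(Y, O)} (hz : z * rs h P.γ = 0) : z = 0 := by
  refine eq_zero_of_germ fun y hy => ?_
  obtain ⟨q, hq, hyq⟩ := P.W.2.exists_basicOpen_le (V := O) ⟨y, hy⟩ (h hy)
  haveI := P.W.2.isLocalization_basicOpen q
  have hγ : rs (hq.trans h) P.γ ∈ nonZeroDivisors Γ(Y, Y.basicOpen q) :=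
    IsLocalization.map_nonZeroDivisors_le (Submonoid.powers q) Γ(Y, Y.basicOpen q)
      (Submonoid.mem_map_of_mem _ P.nzd)
  have h1 := congrArg (rs hq) hz
  rw [map_mul, map_zero, rs_rs] at h1
  rw [← germ_rs hq z y hyq, mem_nonZeroDivisors_iff_right.mp hγ _ h1, map_zero]

lemma cancel_eq {O : Y.Opens} (h : O ≤ P.W.1) {z z' : Γ(Y, O)} (hz : z * rs h P.γ = z' * rs h P.γ) : z = z' :=
  sub_eq_zero.mp (P.cancel h (by rw [sub_mul, hz, sub_self]))

lemma exists_div {O : Y.Opens} (h : O ≤ P.W.1) (z : Γ(Y, O))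
    (hz : ∀ (V : Y.affineOpens) (hV : V.1 ≤ O), rs hV z ∈ 𝓙.ideal V) : ∃ w, w * rs h P.γ = z := by
  classical
  have hloc : ∀ y : O, ∃ V : Y.affineOpens, y.1 ∈ V.1 ∧ V.1 ≤ O := by
    rintro ⟨y, hy⟩
    obtain ⟨V, hV, hyV, hVO⟩ := Opens.isBasis_iff_nbhd.mp Y.isBasis_affineOpens hy
    exact ⟨⟨V, hV⟩, hyV, hVO⟩
  choose V hyV hVO using hloc
  have hw : ∀ y, ∃ w : Γ(Y, (V y).1), w * rs ((hVO y).trans h) P.γ = rs (hVO y) z := by
    intro y
    have h1 := hz (V y) (hVO y)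
    rw [← 𝓙.map_ideal (U := V y) (V := P.W) ((hVO y).trans h), P.ideal_eq, Ideal.map_span, Set.image_singleton,
      Ideal.mem_span_singleton'] at h1
    exact h1
  choose w hw using hw
  obtain ⟨s, hs, -⟩ := Y.sheaf.existsUnique_gluing' (fun y => (V y).1) O (fun y => homOfLE (hVO y))
    (fun y hy => Opens.mem_iSup.mpr ⟨⟨y, hy⟩, hyV ⟨y, hy⟩⟩) w (fun y y' =>
      P.cancel_eq (inf_le_left.trans ((hVO y).trans h)) (by
        show rs inf_le_left (w y) * _ = rs inf_le_right (w y') * _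
        have h1 := congrArg (rs (inf_le_left : (V y).1 ⊓ (V y').1 ≤ _)) (hw y)
        have h2 := congrArg (rs (inf_le_right : (V y).1 ⊓ (V y').1 ≤ _)) (hw y')
        simp only [map_mul, rs_rs] at h1 h2
        exact h1.trans h2.symm))
  refine ⟨s, sub_eq_zero.mp (eq_zero_of_germ fun y hy => ?_)⟩
  have h1 : rs (hVO ⟨y, hy⟩) s = w ⟨y, hy⟩ := hs ⟨y, hy⟩
  rw [← germ_rs (hVO ⟨y, hy⟩) _ y (hyV ⟨y, hy⟩), map_sub, map_mul, rs_rs, h1, hw, sub_self, map_zero]

end PrinPiece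

variable {X X' : Scheme.{u}} {b : X' ⟶ X} {𝓘 : X.IdealSheafData}

lemma exists_prinPiece (hb : BlowUp.IsEffCartierIdeal (𝓘.comap b)) (x : X') :
    ∃ P : PrinPiece (𝓘.comap b), x ∈ P.W.1 := by
  obtain ⟨W, hx, γ, hγ, hW⟩ := hb x
  exact ⟨⟨W, γ, hγ, hW⟩, hx⟩

lemma exists_transition (P Q : PrinPiece (𝓘.comap b)) :
    ∃ w : Γ(X', P.W.1 ⊓ Q.W.1), w * rs inf_le_left P.γ = rs inf_le_right Q.γ :=
  P.exists_div inf_le_left _ fun V hV => by
    rw [rs_rs, ← (𝓘.comap b).map_ideal (U := V) (V := Q.W) (hV.trans inf_le_right), Q.ideal_eq]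
    exact Ideal.mem_map_of_mem _ (Ideal.mem_span_singleton_self _)

/-- the transition functions -/
def transition (P Q : PrinPiece (𝓘.comap b)) : Γ(X', P.W.1 ⊓ Q.W.1) := (exists_transition P Q).choose

lemma transition_spec (P Q : PrinPiece (𝓘.comap b)) :
    transition P Q * rs inf_le_left P.γ = rs inf_le_right Q.γ := (exists_transition P Q).choose_spec

lemma exists_pullback_div (P : PrinPiece (𝓘.comap b)) {U : X.affineOpens} (a : Γ(X, U.1)) (ha : a ∈ 𝓘.ideal U) :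
    ∃ w : Γ(X', P.W.1 ⊓ b ⁻¹ᵁ U.1), w * rs inf_le_left P.γ = (b.appLE U.1 _ inf_le_right).hom a :=
  P.exists_div inf_le_left _ fun V hV => by
    rw [appLE_trans, Groth.Agent.S4666.ideal_comap_eq 𝓘 b U V (hV.trans inf_le_right)]
    exact Ideal.mem_map_of_mem _ ha

variable (hb : BlowUp.IsBlowUp b 𝓘) (h𝓘 : BlowUp.IsFiniteTypeIdeal 𝓘)

/-- the number of generators of the ideal over an affine open -/
def idN (U : X.affineOpens) : ℕ := (Submodule.fg_iff_exists_fin_generating_family.mp (h𝓘 U)).choose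

/-- the generators of the ideal over an affine open -/
def idGen (U : X.affineOpens) : Fin (idN h𝓘 U) → Γ(X, U.1) :=
  (Submodule.fg_iff_exists_fin_generating_family.mp (h𝓘 U)).choose_spec.choose

lemma idGen_span (U : X.affineOpens) : Ideal.span (Set.range (idGen h𝓘 U)) = 𝓘.ideal U :=
  (Submodule.fg_iff_exists_fin_generating_family.mp (h𝓘 U)).choose_spec.choose_spec

lemma idGen_mem (U : X.affineOpens) (j : Fin (idN h𝓘 U)) : idGen h𝓘 U j ∈ 𝓘.ideal U := by
  rw [← idGen_span h𝓘 U]; exact Ideal.subset_span ⟨j, rfl⟩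

/-- the family of a generator -/
def idFam (U : X.affineOpens) (j : Fin (idN h𝓘 U)) (P : PrinPiece (𝓘.comap b)) : Γ(X', P.W.1 ⊓ b ⁻¹ᵁ U.1) :=
  (exists_pullback_div P _ (idGen_mem h𝓘 U j)).choose

lemma idFam_spec (U : X.affineOpens) (j : Fin (idN h𝓘 U)) (P : PrinPiece (𝓘.comap b)) :
    idFam h𝓘 U j P * rs inf_le_left P.γ = (b.appLE U.1 _ inf_le_right).hom (idGen h𝓘 U j) :=
  (exists_pullback_div P _ (idGen_mem h𝓘 U j)).choose_spec

lemma idFam_spec' (U : X.affineOpens) (j : Fin (idN h𝓘 U)) (P : PrinPiece (𝓘.comap b)) {O : X'.Opens}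
    (h : O ≤ P.W.1 ⊓ b ⁻¹ᵁ U.1) :
    rs h (idFam h𝓘 U j P) * rs (h.trans inf_le_left) P.γ =
      (b.appLE U.1 O (h.trans inf_le_right)).hom (idGen h𝓘 U j) := by
  have := congrArg (rs h) (idFam_spec h𝓘 U j P)
  rwa [map_mul, rs_rs, appLE_trans] at this

/-- the linear system of a blowing up -/
def blowUpData : LocData b where
  ι := PrinPiece (𝓘.comap b)
  D P := P.W.1
  cover x := exists_prinPiece hb.1 x
  g := transition
  κ := X.affineOpens
  W U := U.1
  affine U := U.2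
  coverS x := by
    obtain ⟨U, hU, hxU, -⟩ := exists_isAffineOpen_mem_and_subset (x := x) (U := ⊤) trivial
    exact ⟨⟨U, hU⟩, hxU⟩
  n U := idN h𝓘 U
  t U j P := idFam h𝓘 U j P
  compat U j P Q O hc hd := by
    refine P.cancel_eq (hc.trans inf_le_left) ?_
    have h1 := congrArg (rs (le_inf (hc.trans inf_le_left) (hd.trans inf_le_left))) (transition_spec P Q)
    simp only [map_mul, rs_rs] at h1
    rw [idFam_spec' h𝓘 U j P hc, mul_right_comm, h1, mul_comm, idFam_spec' h𝓘 U j Q hd]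
  overlap U U' j x hx hx' := by
    classical
    obtain ⟨V, hV, hxV, hVle⟩ := Opens.isBasis_iff_nbhd.mp X.isBasis_affineOpens (show x ∈ U.1 ⊓ U'.1 from ⟨hx, hx'⟩)
    have hVU : V ≤ U.1 := hVle.trans inf_le_left
    have hVU' : V ≤ U'.1 := hVle.trans inf_le_right
    have hmem : rs hVU (idGen h𝓘 U j) ∈ Ideal.span (Set.range fun i => rs hVU' (idGen h𝓘 U' i)) := by
      have h1 : rs hVU (idGen h𝓘 U j) ∈ 𝓘.ideal ⟨V, hV⟩ := by
        rw [← 𝓘.map_ideal (U := ⟨V, hV⟩) (V := U) hVU]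
        exact Ideal.mem_map_of_mem _ (idGen_mem h𝓘 U j)
      rw [← 𝓘.map_ideal (U := ⟨V, hV⟩) (V := U') hVU', ← idGen_span h𝓘 U', Ideal.map_span, ← Set.range_comp] at h1
      exact h1
    obtain ⟨r, hr⟩ := Ideal.mem_span_range_iff_exists_fun.mp hmem
    refine ⟨V, hVU, hVU', r, hxV, fun P => P.cancel_eq inf_le_left ?_⟩
    rw [idFam_spec' h𝓘 U j P (inf_le_inf_left _ (b.preimage_mono hVU)), Finset.sum_mul]
    have h2 := congrArg (b.appLE V (P.W.1 ⊓ b ⁻¹ᵁ V) inf_le_right).hom hr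
    rw [appLE_res, map_sum] at h2
    rw [← h2]
    refine Finset.sum_congr rfl fun i _ => ?_
    rw [map_mul, appLE_res, mul_assoc, idFam_spec' h𝓘 U' i P (inf_le_inf_left _ (b.preimage_mono hVU'))]

include hb h𝓘 in
/-- a blowing up in an ideal of finite type is projective -/
theorem isProjective_of_isBlowUp : RelProj.IsProjective b := by
  classical
  haveI : IsProper b := BlowUpLib.isProper_of_isBlowUp hb h𝓘
  let T := blowUpData hb h𝓘
  let L := T.toLinSys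
  refine isProjective_of_isGood L (L.isGood_of_local fun y => ?_)
  obtain ⟨U, hU, hyU, -⟩ := exists_isAffineOpen_mem_and_subset (x := b y) (U := ⊤) trivial
  refine ⟨U, hU, hyU, ?_⟩
  let U₀ : X.affineOpens := ⟨U, hU⟩
  obtain ⟨a, ha, c, hc, hy, hcb⟩ := BlowUpLib.exists_chart hb U₀ y hyU
  let C := BlowUp.affineAlgebra Γ(X, U) (𝓘.ideal U₀) a
  let W₀ : X'.Opens := c.opensRange
  have hW₀ : IsAffineOpen W₀ := isAffineOpen_opensRange c
  have hW₀U : W₀ ≤ b ⁻¹ᵁ U := by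
    rintro _ ⟨q, rfl⟩
    change (c ≫ b) q ∈ U
    rw [hcb]
    exact hU.range_fromSpec.subset ⟨_, rfl⟩
  obtain ⟨r, hr⟩ := Ideal.mem_span_range_iff_exists_fun.mp ((idGen_span h𝓘 U₀).symm ▸ ha : a ∈ _)
  have fam : ∀ (x : Γ(X, U)), x ∈ 𝓘.ideal U₀ → ∃ s : L.alg U, s ∈ L.deg U 1 ∧
      ∀ P : PrinPiece (𝓘.comap b), PowerSeries.coeff 1 (s.1 P) * rs (L.pc_le P U) P.γ =
        (b.appLE U (L.pc P U) (L.pc_le_preimage P U)).hom x := by
    intro x hx
    obtain ⟨r, hr⟩ := Ideal.mem_span_range_iff_exists_fun.mp ((idGen_span h𝓘 U₀).symm ▸ hx : x ∈ _)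
    have he : T.comb U₀ (le_refl U) r ∈ L.E U := T.comb_mem_E _ r
    refine ⟨L.sec he, L.sec_mem_deg he, fun P => ?_⟩
    show PowerSeries.coeff 1 (L.mon _ P) * _ = _
    rw [L.coeff_mon, if_pos rfl]
    show T.comb U₀ (le_refl U) r P * _ = _
    rw [← hr, map_sum, LocData.comb, Finset.sum_mul]
    refine Finset.sum_congr rfl fun i _ => ?_
    rw [map_mul, mul_assoc]
    refine congrArg₂ (· * ·) rfl ?_
    exact idFam_spec' h𝓘 U₀ i P (O := P.W.1 ⊓ b ⁻¹ᵁ U) le_rfl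
  obtain ⟨e, he, hec⟩ := fam a ha
  let σ : Spec (CommRingCat.of C) ≅ W₀.toScheme := c.isoOpensRange
  let κ : Γ(X, U) →+* C := algebraMap Γ(X, U) C
  have hch : BlowUpLib.IsChart (𝓘.ideal U₀) a κ := BlowUpLib.isChart_affineAlgebra ha
  let ξ : Γ(X', W₀) →+* C :=
    ((Scheme.ΓSpecIso (CommRingCat.of C)).hom.hom).comp (c.appLE W₀ ⊤ (by rw [Scheme.Hom.preimage_opensRange])).hom
  have hξb : Function.Bijective ξ := by
    have : IsIso (c.appLE W₀ ⊤ (by rw [Scheme.Hom.preimage_opensRange])) := by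
      rw [Scheme.Hom.appLE]
      have h1 : IsIso (c.app W₀) := c.isIso_app W₀ le_rfl
      have h2 : IsIso ((Spec (CommRingCat.of C)).presheaf.map
          (homOfLE (show (⊤ : (Spec (CommRingCat.of C)).Opens) ≤ c ⁻¹ᵁ W₀ by rw [Scheme.Hom.preimage_opensRange])).op) := by
        have : IsIso (homOfLE (show (⊤ : (Spec (CommRingCat.of C)).Opens) ≤ c ⁻¹ᵁ W₀ by
            rw [Scheme.Hom.preimage_opensRange])) := ⟨homOfLE le_top, rfl, rfl⟩
        infer_instance
      infer_instance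
    exact ((ConcreteCategory.bijective_of_isIso (Scheme.ΓSpecIso (CommRingCat.of C)).hom).comp
      (ConcreteCategory.bijective_of_isIso (c.appLE W₀ ⊤ _)))
  have hξκ : ∀ x : Γ(X, U), ξ ((b.appLE U W₀ hW₀U).hom x) = κ x := by
    intro x
    show (Scheme.ΓSpecIso (CommRingCat.of C)).hom.hom _ = _
    rw [← CommRingCat.comp_apply (b.appLE U W₀ hW₀U), Scheme.Hom.appLE_comp_appLE]
    simp only [hcb]
    have h2 : (Spec.map (CommRingCat.ofHom κ) ≫ hU.fromSpec).appLE U ⊤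
        (by rw [Scheme.Hom.comp_preimage, hU.fromSpec_preimage_self]; rfl) ≫ (Scheme.ΓSpecIso (CommRingCat.of C)).hom =
        CommRingCat.ofHom κ := by
      rw [Scheme.Hom.appLE, Scheme.Hom.comp_app, hU.fromSpec_app_self]
      simp
      rw [← Functor.map_comp_assoc]
      erw [Subsingleton.elim (_ ≫ _ : (op (⊤ : (Spec (CommRingCat.of C)).Opens)) ⟶ op ⊤) (𝟙 _)]
      erw [CategoryTheory.Functor.map_id, Category.id_comp]
      erw [Scheme.ΓSpecIso_naturality]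
      exact Iso.inv_hom_id_assoc _ _
    exact DFunLike.congr_fun (congrArg CommRingCat.Hom.hom h2) x
  have hspan : (𝓘.ideal U₀).map (b.appLE U W₀ hW₀U).hom = Ideal.span {(b.appLE U W₀ hW₀U).hom a} := by
    have h0 : ξ.comp (b.appLE U W₀ hW₀U).hom = κ := RingHom.ext hξκ
    have h1 : ((𝓘.ideal U₀).map (b.appLE U W₀ hW₀U).hom).map ξ =
        (Ideal.span {(b.appLE U W₀ hW₀U).hom a}).map ξ := by
      rw [Ideal.map_map, h0, hch.span, Ideal.map_span, Set.image_singleton, hξκ]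
    have h2 := congrArg (Ideal.comap ξ) h1
    rwa [Ideal.comap_map_of_bijective ξ hξb, Ideal.comap_map_of_bijective ξ hξb] at h2
  have hsub : W₀ ≤ L.loc U 1 e := by
    intro z hz
    obtain ⟨P, hzP⟩ := exists_prinPiece hb.1 z
    refine (L.mem_loc_iff (c := P) (⟨hzP, hW₀U hz⟩ : z ∈ L.pc P U)).mpr ?_
    obtain ⟨V, hV, hzV, hVle⟩ := Opens.isBasis_iff_nbhd.mp X'.isBasis_affineOpens (show z ∈ W₀ ⊓ L.pc P U from ⟨hz, hzP, hW₀U hz⟩)
    have h1 := Groth.Agent.S4666.ideal_comap_eq 𝓘 b U₀ ⟨V, hV⟩ ((hVle.trans inf_le_left).trans hW₀U)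
    have h2 : (b.appLE U V ((hVle.trans inf_le_left).trans hW₀U)).hom =
        (rs (hVle.trans inf_le_left)).comp (b.appLE U W₀ hW₀U).hom := RingHom.ext fun x => (appLE_trans b _ _ x).symm
    have h3 : (𝓘.comap b).ideal ⟨V, hV⟩ = Ideal.span {rs (hVle.trans inf_le_right) (rs (L.pc_le P U) P.γ)} := by
      rw [← (𝓘.comap b).map_ideal (U := ⟨V, hV⟩) (V := P.W) ((hVle.trans inf_le_right).trans (L.pc_le P U)),
        P.ideal_eq, Ideal.map_span, Set.image_singleton, rs_rs]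
      rfl
    rw [h3, h2, ← Ideal.map_map, hspan, Ideal.map_span, Set.image_singleton, appLE_trans] at h1
    have h4 := (Ideal.ext_iff.mp h1 _).mp (Ideal.mem_span_singleton_self _)
    obtain ⟨w, hw⟩ := Ideal.mem_span_singleton'.mp h4
    have h5 := congrArg (rs (hVle.trans inf_le_right)) (hec P)
    rw [map_mul, appLE_trans] at h5
    rw [← h5, ← mul_assoc] at hw
    rw [rs_rs] at hw h5
    have h6 : w * rs (hVle.trans inf_le_right) (PowerSeries.coeff 1 (e.1 P)) = 1 :=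
      P.cancel_eq ((hVle.trans inf_le_right).trans (L.pc_le P U)) (by rw [one_mul]; exact hw)
    exact L.le_basicOpen_of_isUnit (hVle.trans inf_le_right) (IsUnit.of_mul_eq_one_right _ h6) hzV
  have hsup : L.loc U 1 e ≤ W₀ := by
    intro z hz
    obtain ⟨P, hzP⟩ := Opens.mem_iSup.mp hz
    obtain ⟨V, hV, hzV, hVle⟩ := Opens.isBasis_iff_nbhd.mp X'.isBasis_affineOpens hzP
    have hVpc : V ≤ L.pc P U := hVle.trans (X'.basicOpen_le _)
    have hVU : V ≤ b ⁻¹ᵁ U := hVpc.trans (L.pc_le_preimage P U)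
    let φ : Γ(X, U) →+* Γ(X', V) := (b.appLE U V hVU).hom
    have hu : IsUnit (rs hVpc (PowerSeries.coeff 1 (e.1 P))) := by
      rw [← rs_rs hVle (X'.basicOpen_le _)]
      exact (RingedSpace.isUnit_res_basicOpen X'.toRingedSpace _).map _
    have h5 := congrArg (rs hVpc) (hec P)
    rw [map_mul, appLE_trans, rs_rs] at h5
    have hnz : φ a ∈ nonZeroDivisors Γ(X', V) := by
      refine mem_nonZeroDivisors_iff_right.mpr fun w hw => ?_
      refine P.cancel (hVpc.trans (L.pc_le P U)) ?_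
      change w * (b.appLE U V hVU).hom a = 0 at hw
      rw [← h5, mul_left_comm, hu.mul_right_eq_zero] at hw
      exact hw
    have hJ : (𝓘.ideal U₀).map φ = Ideal.span {φ a} := by
      have h1 := Groth.Agent.S4666.ideal_comap_eq 𝓘 b U₀ ⟨V, hV⟩ hVU
      rw [← h1, ← (𝓘.comap b).map_ideal (U := ⟨V, hV⟩) (V := P.W) (hVpc.trans (L.pc_le P U)),
        P.ideal_eq, Ideal.map_span, Set.image_singleton]
      show _ = Ideal.span {(b.appLE U V hVU).hom a}
      rw [← h5, Ideal.span_singleton_mul_left_unit hu]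
      rfl
    obtain ⟨ψ, hψ, -⟩ := hch.lift Γ(X', V) φ hnz hJ
    let k : Spec Γ(X', V) ⟶ X' := Spec.map (CommRingCat.ofHom ψ) ≫ c
    have hk : k ≫ b = hV.fromSpec ≫ b := by
      show (Spec.map (CommRingCat.ofHom ψ) ≫ c) ≫ b = _
      rw [Category.assoc, hcb, ← Category.assoc, ← Spec.map_comp, ← CommRingCat.ofHom_comp,
        show ψ.comp κ = φ from hψ, ← IsAffineOpen.SpecMap_appLE_fromSpec b hU hV hVU]
      rfl
    have hcart : BlowUp.IsEffCartierIdeal (𝓘.comap (hV.fromSpec ≫ b)) := by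
      rw [Scheme.IdealSheafData.comap_comp]
      exact BlowUpLib.isEffCartier_comap_of_flat _ hb.1
    have hkk : k = hV.fromSpec := BlowUpLib.hom_ext hb _ hcart hk rfl
    obtain ⟨q, rfl⟩ : z ∈ Set.range hV.fromSpec := hV.range_fromSpec.symm ▸ hzV
    rw [← hkk]
    exact ⟨_, rfl⟩
  have hloc : L.loc U 1 e = W₀ := le_antisymm hsup hsub
  refine ⟨e, he, hloc ▸ hy, hloc ▸ hW₀, ?_⟩
  refine L.gen_of_generators he {h | ∃ x, x ∈ 𝓘.ideal U₀ ∧
      h * (b.appLE U _ (L.loc_le 1 e)).hom a = (b.appLE U _ (L.loc_le 1 e)).hom x} ?_ ?_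
  · rw [eq_top_iff]
    intro h _
    let ξ' : Γ(X', L.loc U 1 e) →+* C := ξ.comp (rs hloc.ge)
    have hξ'inj : Function.Injective ξ' := hξb.1.comp fun p q hpq => by
      have := congrArg (rs hloc.le) hpq
      rwa [rs_rs, rs_rs, rs_refl, rs_refl] at this
    have hξ'κ : ∀ x, ξ' ((b.appLE U _ (L.loc_le 1 e)).hom x) = κ x := fun x => by
      show ξ (rs hloc.ge _) = _
      rw [appLE_trans, hξκ]
    have hsurj : ∀ w : C, ∃ h', ξ' h' = w ∧ h' ∈ Subring.closure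
        (Set.range (b.appLE U (L.loc U 1 e) (L.loc_le 1 e)).hom ∪ {h | ∃ x, x ∈ 𝓘.ideal U₀ ∧
          h * (b.appLE U _ (L.loc_le 1 e)).hom a = (b.appLE U _ (L.loc_le 1 e)).hom x}) := by
      rintro ⟨w, hw⟩
      induction hw using Algebra.adjoin_induction with
      | mem w hw =>
        obtain ⟨x, hx, rfl⟩ := hw
        have hxC : IsLocalization.mk' (Localization.Away a) x ⟨a, Submonoid.mem_powers a⟩ ∈ C :=
          Algebra.subset_adjoin ⟨x, hx, rfl⟩
        obtain ⟨h₀, hh₀⟩ := hξb.2 ⟨_, hxC⟩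
        refine ⟨rs hloc.le h₀, ?_, Subring.subset_closure (Or.inr ⟨x, hx, hξ'inj ?_⟩)⟩
        · show ξ (rs hloc.ge (rs hloc.le h₀)) = _
          rw [rs_rs, rs_refl, hh₀]
        · rw [map_mul, hξ'κ, hξ'κ]
          have h7 : ξ' (rs hloc.le h₀) = ⟨_, hxC⟩ := by
            show ξ (rs hloc.ge (rs hloc.le h₀)) = _
            rw [rs_rs, rs_refl, hh₀]
          rw [h7]
          exact Subtype.ext (IsLocalization.mk'_spec (Localization.Away a) x ⟨a, Submonoid.mem_powers a⟩)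
      | algebraMap x =>
        exact ⟨_, hξ'κ x, Subring.subset_closure (Or.inl ⟨x, rfl⟩)⟩
      | add p q _ _ hp hq =>
        obtain ⟨h₁, e₁, m₁⟩ := hp
        obtain ⟨h₂, e₂, m₂⟩ := hq
        exact ⟨h₁ + h₂, by rw [map_add, e₁, e₂]; rfl, add_mem m₁ m₂⟩
      | mul p q _ _ hp hq =>
        obtain ⟨h₁, e₁, m₁⟩ := hp
        obtain ⟨h₂, e₂, m₂⟩ := hq
        exact ⟨h₁ * h₂, by rw [map_mul, e₁, e₂]; rfl, mul_mem m₁ m₂⟩
    obtain ⟨h', hh', hm⟩ := hsurj (ξ' h)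
    exact hξ'inj hh' ▸ hm
  · rintro h ⟨x, hx, hxh⟩
    obtain ⟨s, hs, hsc⟩ := fam x hx
    refine ⟨1, s, hs, fun P => ?_⟩
    rw [pow_one]
    let B := X'.basicOpen (PowerSeries.coeff 1 (e.1 P))
    have hB : B ≤ L.pc P U := X'.basicOpen_le _
    show rs (L.loc_sub 1 e P) h * rs hB _ = rs hB _
    refine P.cancel_eq (hB.trans (L.pc_le P U)) ?_
    have h1 := congrArg (rs hB) (hec P)
    have h2 := congrArg (rs hB) (hsc P)
    have h3 := congrArg (rs (L.loc_sub 1 e P)) hxh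
    rw [map_mul, appLE_trans, rs_rs] at h1 h2
    rw [map_mul, appLE_trans, appLE_trans] at h3
    exact (mul_assoc _ _ _).trans ((congrArg (_ * ·) h1).trans (h3.trans h2.symm))

end LinSysLib

end
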