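import Groth.Agent.LinSysLib.Proj
import Groth.Agent.MiscFlat6.RelProjExist

/-!
# A good linear system gives an open immersion into a projective scheme
-/

set_option autoImplicit false
universe u

open CategoryTheory CategoryTheory.Limits AlgebraicGeometry TopologicalSpace Opposite

noncomputable section

namespace LinSysLib.LinSys

variable {X S : Scheme.{u}} {f : X ⟶ S} [QuasiCompact f] (L : LinSys f) (hg : L.IsGood)

theorem isOpenImmersion_chartHom {U : S.Opens} (hU : IsAffineOpen U) [GradedRing (L.deg U)] :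
    IsOpenImmersion (L.chartHom hU hg) := by
  classical
  let i := L.chartHom hU hg
  let K : Type u := {e : L.alg U // e ∈ L.deg U 1 ∧ IsAffineOpen (L.loc U 1 e) ∧ L.Gen U e}
  let O : K → (Proj (L.deg U)).Opens := fun e => Proj.basicOpen (L.deg U) e.1
  let W : (Proj (L.deg U)).Opens := ⨆ e, O e
  have hW : i ⁻¹ᵁ W = ⊤ := eq_top_iff.mpr fun z _ => by
    obtain ⟨e, he, hye, ha, hgen⟩ := hg U hU z.1 z.2
    refine Opens.mem_iSup.mpr ⟨⟨e, he, ha, hgen⟩, ?_⟩
    change z ∈ L.chartHom hU hg ⁻¹ᵁ Proj.basicOpen (L.deg U) e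
    rw [L.chartHom_preimage hU hg he one_pos]
    exact hye
  have hc : IsOpenImmersion (i ∣_ W) := by
    refine IsZariskiLocalAtTarget.of_iSup_eq_top (P := @IsOpenImmersion) (fun a => W.ι ⁻¹ᵁ O a) ?_ fun a => ?_
    · rw [← Scheme.Hom.preimage_iSup]
      exact eq_top_iff.mpr fun x _ => x.2
    · refine (MorphismProperty.arrow_mk_iso_iff @IsOpenImmersion (morphismRestrictRestrict i W _)).mpr ?_
      have e : W.ι ''ᵁ (W.ι ⁻¹ᵁ O a) = O a := by
        rw [Scheme.Hom.image_preimage_eq_opensRange_inf, Scheme.Opens.opensRange_ι]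
        exact inf_eq_right.mpr (le_iSup O a)
      rw [e]
      haveI : IsIso (i ∣_ O a) := L.isIso_chartHom_restrict hU hg a.2.1 a.2.2.1 a.2.2.2
      infer_instance
  have hiso : IsIso (i ⁻¹ᵁ W).ι := by
    rw [hW]
    exact ((f ⁻¹ᵁ U : X.Opens).toScheme.topIso).isIso_hom
  have : i = inv (i ⁻¹ᵁ W).ι ≫ (i ∣_ W) ≫ W.ι := by
    rw [morphismRestrict_ι, IsIso.inv_hom_id_assoc]
  change IsOpenImmersion i
  rw [this]
  infer_instance

variable {P : Scheme.{u}} {p : P ⟶ S}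
  (chart : ∀ (U : S.Opens) (hU : IsAffineOpen U), (((p ⁻¹ᵁ U : P.Opens) : Scheme.{u}) ≅ Proj (L.coordAlg.deg U hU)))

/-- the chart morphism, with values in the `Proj` of the coordinate algebra -/
def cH (U : S.Opens) (hU : IsAffineOpen U) : (f ⁻¹ᵁ U).toScheme ⟶ Proj (L.coordAlg.deg U hU) :=
  letI := L.gradedRing hU
  L.chartHom hU hg

lemma cH_res {U : S.Opens} (hU : IsAffineOpen U) (r : Γ(S, U)) :
    X.homOfLE (f.preimage_mono (S.basicOpen_le r)) ≫ L.cH hg U hU =
      L.cH hg (S.basicOpen r) (hU.basicOpen r) ≫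
        Proj.map (L.coordAlg.res hU (hU.basicOpen r) (S.basicOpen_le r)) (L.coordAlg.irrelevant_le_map U hU r) :=
  letI := L.gradedRing hU
  letI := L.gradedRing (hU.basicOpen r)
  L.chartHom_res hU hg (hU.basicOpen r) (S.basicOpen_le r) _ (fun _ => rfl) _

lemma cH_over {U : S.Opens} (hU : IsAffineOpen U) :
    L.cH hg U hU ≫ Proj.toSpecZero (L.coordAlg.deg U hU) ≫ Spec.map (L.coordAlg.strZero U hU) ≫ hU.fromSpec =
      (f ⁻¹ᵁ U).ι ≫ f :=
  letI := L.gradedRing hU
  L.chartHom_over hU hg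

/-- the morphism to the relative `Proj` over an affine open -/
def toPart (U : S.Opens) (hU : IsAffineOpen U) : (f ⁻¹ᵁ U).toScheme ⟶ P :=
  L.cH hg U hU ≫ (chart U hU).inv ≫ (p ⁻¹ᵁ U).ι

variable (hP : RelProj.IsRelProj L.coordAlg p chart)

lemma toPart_congr {U V : S.Opens} (e : U = V) (hU : IsAffineOpen U) (hV : IsAffineOpen V) :
    L.toPart hg chart U hU = X.homOfLE (f.preimage_mono e.le) ≫ L.toPart hg chart V hV := by
  subst e
  rw [Scheme.homOfLE_rfl, Category.id_comp]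

include hP in
lemma toPart_basic {U : S.Opens} (hU : IsAffineOpen U) (r : Γ(S, U)) :
    X.homOfLE (f.preimage_mono (S.basicOpen_le r)) ≫ L.toPart hg chart U hU =
      L.toPart hg chart (S.basicOpen r) (hU.basicOpen r) := by
  have h2 := hP.chart_res U hU r
  rw [← Iso.eq_comp_inv] at h2
  rw [toPart, ← Category.assoc, L.cH_res hg hU r, toPart]
  simp only [Category.assoc]
  refine congrArg (_ ≫ ·) ?_
  rw [← Scheme.homOfLE_ι P (p.preimage_mono (S.basicOpen_le r)), h2]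
  simp only [Category.assoc, Iso.inv_hom_id_assoc]

include hP in
lemma toPart_over {U : S.Opens} (hU : IsAffineOpen U) : L.toPart hg chart U hU ≫ p = (f ⁻¹ᵁ U).ι ≫ f := by
  rw [toPart, Category.assoc, Category.assoc, ← hP.chart_over U hU, Iso.inv_hom_id_assoc]
  exact L.cH_over hg hU

include hg hP in
theorem exists_openImmersion : ∃ j : X ⟶ P, IsOpenImmersion j ∧ j ≫ p = f := by
  classical
  let V : S.affineOpens → X.Opens := fun U => f ⁻¹ᵁ U.1
  have hV : TopologicalSpace.IsOpenCover V := by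
    refine eq_top_iff.mpr fun x _ => ?_
    obtain ⟨U, hU, hxU, -⟩ := exists_isAffineOpen_mem_and_subset (x := f x) (U := ⊤) trivial
    exact Opens.mem_iSup.mpr ⟨⟨U, hU⟩, hxU⟩
  let 𝒰 := X.openCoverOfIsOpenCover V hV
  let a : ∀ U : S.affineOpens, (V U).toScheme ⟶ P := fun U => L.toPart hg chart U.1 U.2
  have hcompat : ∀ (U U' : S.affineOpens) {T : Scheme.{u}} (l : T ⟶ (V U).toScheme) (l' : T ⟶ (V U').toScheme),
      l ≫ (V U).ι = l' ≫ (V U').ι → l ≫ a U = l' ≫ a U' := by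
    intro U U' T l l' hl
    refine Scheme.hom_ext_of_forall _ _ fun t => ?_
    let m := l ≫ (V U).ι
    have ht' : f (m t) ∈ U'.1 := by
      show f ((l ≫ (V U).ι) t) ∈ U'.1
      rw [hl]
      exact (l' t).2
    obtain ⟨r, r', e, hxr⟩ := exists_basicOpen_le_affine_inter U.2 U'.2 (f (m t)) ⟨(l t).2, ht'⟩
    let D := f ⁻¹ᵁ S.basicOpen r
    let T₀ : T.Opens := m ⁻¹ᵁ D
    refine ⟨T₀, hxr, ?_⟩
    have hr : Set.range (T₀.ι ≫ m) ⊆ Set.range D.ι := by
      rintro _ ⟨z, rfl⟩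
      rw [Scheme.Opens.range_ι]
      exact z.2
    let q := IsOpenImmersion.lift D.ι (T₀.ι ≫ m) hr
    have hq : q ≫ D.ι = T₀.ι ≫ m := IsOpenImmersion.lift_fac _ _ _
    have h1 : T₀.ι ≫ l = q ≫ X.homOfLE (f.preimage_mono (S.basicOpen_le r) : D ≤ V U) := by
      rw [← cancel_mono (V U).ι, Category.assoc, Category.assoc, Scheme.homOfLE_ι, hq]
    have h2 : T₀.ι ≫ l' = q ≫ X.homOfLE (f.preimage_mono (e.le.trans (S.basicOpen_le r')) : D ≤ V U') := by
      rw [← cancel_mono (V U').ι, Category.assoc, Category.assoc, Scheme.homOfLE_ι, hq, ← hl]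
    rw [← Category.assoc, ← Category.assoc, h1, h2, Category.assoc, Category.assoc]
    refine congrArg (q ≫ ·) ?_
    refine (L.toPart_basic hg chart hP U.2 r).trans ?_
    rw [← Scheme.homOfLE_homOfLE X (f.preimage_mono e.le) (f.preimage_mono (S.basicOpen_le r')), Category.assoc,
      L.toPart_basic hg chart hP U'.2 r']
    exact L.toPart_congr hg chart e _ _
  let j : X ⟶ P := 𝒰.glueMorphisms a fun U U' => hcompat U U' _ _ pullback.condition
  have hj : ∀ U : S.affineOpens, (V U).ι ≫ j = a U := fun U => 𝒰.ι_glueMorphisms _ _ U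
  have hjp : j ≫ p = f := 𝒰.hom_ext _ _ fun U => by
    change (V U).ι ≫ j ≫ p = (V U).ι ≫ f
    rw [← Category.assoc, hj]
    exact L.toPart_over hg chart hP U.2
  refine ⟨j, ?_, hjp⟩
  refine IsZariskiLocalAtTarget.of_iSup_eq_top (P := @IsOpenImmersion) (fun U : S.affineOpens => p ⁻¹ᵁ U.1) ?_ fun U => ?_
  · rw [← Scheme.Hom.preimage_iSup, iSup_affineOpens_eq_top]
    rfl
  · have e : j ⁻¹ᵁ (p ⁻¹ᵁ U.1) = V U := by
      rw [← Scheme.Hom.comp_preimage, hjp]
    have h1 : (j ⁻¹ᵁ (p ⁻¹ᵁ U.1)).ι ≫ j = (X.isoOfEq e).hom ≫ a U := by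
      rw [← hj U, Scheme.isoOfEq_hom_ι_assoc]
    haveI : IsOpenImmersion (a U) := by
      haveI : IsOpenImmersion (L.cH hg U.1 U.2) :=
        letI := L.gradedRing U.2
        L.isOpenImmersion_chartHom hg U.2
      show IsOpenImmersion (L.cH hg U.1 U.2 ≫ (chart U.1 U.2).inv ≫ (p ⁻¹ᵁ U.1).ι)
      infer_instance
    haveI : IsOpenImmersion ((j ∣_ (p ⁻¹ᵁ U.1)) ≫ (p ⁻¹ᵁ U.1).ι) := by
      rw [morphismRestrict_ι, h1]; infer_instance
    exact IsOpenImmersion.of_comp _ (p ⁻¹ᵁ U.1).ι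

end LinSysLib.LinSys

namespace LinSysLib

variable {X S : Scheme.{u}} {f : X ⟶ S} [QuasiCompact f]

/-- a good linear system gives an open immersion into a projective scheme -/
theorem exists_openImmersion_projective (L : LinSys f) (hg : L.IsGood) :
    ∃ (P : Scheme.{u}) (j : X ⟶ P) (g : P ⟶ S), IsOpenImmersion j ∧ RelProj.IsProjective g ∧ j ≫ g = f := by
  obtain ⟨P, p, chart, hP⟩ := MiscFlat6.exists_relProj L.coordAlg
  obtain ⟨j, hj, hjp⟩ := L.exists_openImmersion hg chart hP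
  exact ⟨P, j, p, hj, ⟨L.coordAlg, P, p, chart, Iso.refl P, L.coordAlg_isGenDegOne, L.coordAlg_isFTDeg, hP,
    Category.id_comp p⟩, hjp⟩

end LinSysLib

end
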