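import Groth.Agent.LinSysLib.Ops

/-!
# The product of two linear systems
-/

set_option autoImplicit false
universe u

open CategoryTheory CategoryTheory.Limits AlgebraicGeometry TopologicalSpace Opposite

noncomputable section

namespace LinSysLib

variable {X₁ X₂ X' S : Scheme.{u}} {f₁ : X₁ ⟶ S} {f₂ : X₂ ⟶ S} {f' : X' ⟶ S}

lemma appLE_base {h : X' ⟶ X₁} (w : h ≫ f₁ = f') {U V : S.Opens} {P : X₁.Opens} {O : X'.Opens} (hV : V ≤ U)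
    (hP : P ≤ f₁ ⁻¹ᵁ U) (hO : O ≤ h ⁻¹ᵁ P) (hO' : O ≤ f' ⁻¹ᵁ V) (r : Γ(S, U)) :
    (f'.appLE V O hO').hom (rs hV r) = (h.appLE P O hO).hom ((f₁.appLE U P hP).hom r) := by
  rw [appLE_rs, ← CommRingCat.comp_apply, Scheme.Hom.appLE_comp_appLE]
  simp only [w]

lemma preimage_le_of_comp {h : X' ⟶ X₁} (w : h ≫ f₁ = f') {V W : S.Opens} (i : V ≤ W) :
    f' ⁻¹ᵁ V ≤ h ⁻¹ᵁ (f₁ ⁻¹ᵁ W) := by
  intro y hy
  show (h ≫ f₁) y ∈ W
  rw [w]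
  exact i hy

variable (T₁ : LocData f₁) (T₂ : LocData f₂) (h₁ : X' ⟶ X₁) (h₂ : X' ⟶ X₂)
  (w₁ : h₁ ≫ f₁ = f') (w₂ : h₂ ≫ f₂ = f')

/-- a generator of the product -/
def prodFam (a : T₁.κ) (b : T₂.κ) (V : S.Opens) (hV : V ≤ T₁.W a ⊓ T₂.W b) (i : Fin (T₁.n a)) (j : Fin (T₂.n b))
    (c : T₁.ι × T₂.ι) : Γ(X', (h₁ ⁻¹ᵁ T₁.D c.1 ⊓ h₂ ⁻¹ᵁ T₂.D c.2) ⊓ f' ⁻¹ᵁ V) :=
  (h₁.appLE (T₁.D c.1 ⊓ f₁ ⁻¹ᵁ T₁.W a) _
      (le_inf (inf_le_left.trans inf_le_left) (inf_le_right.trans (preimage_le_of_comp w₁ (hV.trans inf_le_left))))).hom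
    (T₁.t a i c.1) *
  (h₂.appLE (T₂.D c.2 ⊓ f₂ ⁻¹ᵁ T₂.W b) _
      (le_inf (inf_le_left.trans inf_le_right) (inf_le_right.trans (preimage_le_of_comp w₂ (hV.trans inf_le_right))))).hom
    (T₂.t b j c.2)

/-- the product -/
def LocData.prod : LocData f' where
  ι := T₁.ι × T₂.ι
  D c := h₁ ⁻¹ᵁ T₁.D c.1 ⊓ h₂ ⁻¹ᵁ T₂.D c.2
  cover y :=
    let ⟨c, hc⟩ := T₁.cover (h₁ y)
    let ⟨d, hd⟩ := T₂.cover (h₂ y)
    ⟨(c, d), hc, hd⟩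
  g c d :=
    (h₁.appLE (T₁.D c.1 ⊓ T₁.D d.1) _ (le_inf (inf_le_left.trans inf_le_left) (inf_le_right.trans inf_le_left))).hom
      (T₁.g c.1 d.1) *
    (h₂.appLE (T₂.D c.2 ⊓ T₂.D d.2) _ (le_inf (inf_le_left.trans inf_le_right) (inf_le_right.trans inf_le_right))).hom
      (T₂.g c.2 d.2)
  κ := Σ a : T₁.κ × T₂.κ, {V : S.affineOpens // V.1 ≤ T₁.W a.1 ⊓ T₂.W a.2}
  W p := p.2.1.1
  affine p := p.2.1.2
  coverS x := by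
    obtain ⟨a, ha⟩ := T₁.coverS x
    obtain ⟨b, hb⟩ := T₂.coverS x
    obtain ⟨V, hV, hxV, hVle⟩ := Opens.isBasis_iff_nbhd.mp S.isBasis_affineOpens
      (show x ∈ T₁.W a ⊓ T₂.W b from ⟨ha, hb⟩)
    exact ⟨⟨(a, b), ⟨⟨V, hV⟩, hVle⟩⟩, hxV⟩
  n p := T₁.n p.1.1 * T₂.n p.1.2
  t p j := prodFam T₁ T₂ h₁ h₂ w₁ w₂ p.1.1 p.1.2 p.2.1.1 p.2.2
    (finProdFinEquiv.symm j).1 (finProdFinEquiv.symm j).2
  compat p j c d O hc hd := by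
    let i := (finProdFinEquiv.symm j).1
    let l := (finProdFinEquiv.symm j).2
    have hO1 : O ≤ h₁ ⁻¹ᵁ (T₁.D c.1 ⊓ f₁ ⁻¹ᵁ T₁.W p.1.1 ⊓ (T₁.D d.1 ⊓ f₁ ⁻¹ᵁ T₁.W p.1.1)) := by
      have hb : O ≤ h₁ ⁻¹ᵁ (f₁ ⁻¹ᵁ T₁.W p.1.1) :=
        hc.trans (inf_le_right.trans (preimage_le_of_comp w₁ (p.2.2.trans inf_le_left)))
      exact le_inf (le_inf ((hc.trans inf_le_left).trans inf_le_left) hb)
        (le_inf ((hd.trans inf_le_left).trans inf_le_left) hb)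
    have hO2 : O ≤ h₂ ⁻¹ᵁ (T₂.D c.2 ⊓ f₂ ⁻¹ᵁ T₂.W p.1.2 ⊓ (T₂.D d.2 ⊓ f₂ ⁻¹ᵁ T₂.W p.1.2)) := by
      have hb : O ≤ h₂ ⁻¹ᵁ (f₂ ⁻¹ᵁ T₂.W p.1.2) :=
        hc.trans (inf_le_right.trans (preimage_le_of_comp w₂ (p.2.2.trans inf_le_right)))
      exact le_inf (le_inf ((hc.trans inf_le_left).trans inf_le_right) hb)
        (le_inf ((hd.trans inf_le_left).trans inf_le_right) hb)
    have e1 := congrArg (h₁.appLE _ O hO1).hom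
      (T₁.compat p.1.1 i c.1 d.1 _ inf_le_left inf_le_right)
    have e2 := congrArg (h₂.appLE _ O hO2).hom
      (T₂.compat p.1.2 l c.2 d.2 _ inf_le_left inf_le_right)
    simp only [map_mul, appLE_rs] at e1 e2
    simp only [prodFam, map_mul, rs_appLE]
    rw [e1, e2]
    ring
  overlap p q j x hxp hxq := by
    obtain ⟨V₁, ha₁, hb₁, r₁, hx₁, hr₁⟩ :=
      T₁.overlap p.1.1 q.1.1 (finProdFinEquiv.symm j).1 x (p.2.2 hxp).1 (q.2.2 hxq).1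
    obtain ⟨V₂, ha₂, hb₂, r₂, hx₂, hr₂⟩ :=
      T₂.overlap p.1.2 q.1.2 (finProdFinEquiv.symm j).2 x (p.2.2 hxp).2 (q.2.2 hxq).2
    let V : S.Opens := p.2.1.1 ⊓ q.2.1.1 ⊓ (V₁ ⊓ V₂)
    have hV₁ : V ≤ V₁ := inf_le_right.trans inf_le_left
    have hV₂ : V ≤ V₂ := inf_le_right.trans inf_le_right
    refine ⟨V, inf_le_left.trans inf_le_left, inf_le_left.trans inf_le_right,
      fun k => rs hV₁ (r₁ (finProdFinEquiv.symm k).1) * rs hV₂ (r₂ (finProdFinEquiv.symm k).2),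
      ⟨⟨hxp, hxq⟩, hx₁, hx₂⟩, fun c => ?_⟩
    have hO1 : (h₁ ⁻¹ᵁ T₁.D c.1 ⊓ h₂ ⁻¹ᵁ T₂.D c.2) ⊓ f' ⁻¹ᵁ V ≤ h₁ ⁻¹ᵁ (T₁.D c.1 ⊓ f₁ ⁻¹ᵁ V₁) :=
      le_inf (inf_le_left.trans inf_le_left) (inf_le_right.trans (preimage_le_of_comp w₁ hV₁))
    have hO2 : (h₁ ⁻¹ᵁ T₁.D c.1 ⊓ h₂ ⁻¹ᵁ T₂.D c.2) ⊓ f' ⁻¹ᵁ V ≤ h₂ ⁻¹ᵁ (T₂.D c.2 ⊓ f₂ ⁻¹ᵁ V₂) :=
      le_inf (inf_le_left.trans inf_le_right) (inf_le_right.trans (preimage_le_of_comp w₂ hV₂))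
    have e1 := congrArg (h₁.appLE _ _ hO1).hom (hr₁ c.1)
    have e2 := congrArg (h₂.appLE _ _ hO2).hom (hr₂ c.2)
    simp only [map_sum, map_mul, appLE_rs] at e1 e2
    simp only [prodFam, map_mul, rs_appLE]
    rw [e1, e2, Finset.sum_mul_sum, ← finProdFinEquiv.sum_comp, Fintype.sum_prod_type]
    refine Finset.sum_congr rfl fun k _ => Finset.sum_congr rfl fun k' _ => ?_
    simp only [Equiv.symm_apply_apply]
    rw [appLE_base w₁ hV₁ inf_le_right hO1, appLE_base w₂ hV₂ inf_le_right hO2]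
    ring

theorem LocData.prod_isGood [QuasiCompact f₁] [QuasiCompact f₂] [QuasiCompact f']
    [IsClosedImmersion (pullback.lift h₁ h₂ (w₁.trans w₂.symm))] (hg₁ : T₁.toLinSys.IsGood) (hg₂ : T₂.toLinSys.IsGood) :
    (T₁.prod T₂ h₁ h₂ w₁ w₂).toLinSys.IsGood := by
  refine LinSys.isGood_of_local _ fun y => ?_
  obtain ⟨V, hV, hyV, -⟩ := exists_isAffineOpen_mem_and_subset (x := f' y) (U := ⊤) trivial
  refine ⟨V, hV, hyV, ?_⟩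
  let T' := T₁.prod T₂ h₁ h₂ w₁ w₂
  let L₁ := T₁.toLinSys
  let L₂ := T₂.toLinSys
  let L' := T'.toLinSys
  have hp₁ : ∀ c : L'.ι, L'.pc c V ≤ h₁ ⁻¹ᵁ L₁.pc c.1 V := fun c =>
    le_inf (inf_le_left.trans inf_le_left) (inf_le_right.trans (preimage_le_of_comp w₁ le_rfl))
  have hp₂ : ∀ c : L'.ι, L'.pc c V ≤ h₂ ⁻¹ᵁ L₂.pc c.2 V := fun c =>
    le_inf (inf_le_left.trans inf_le_right) (inf_le_right.trans (preimage_le_of_comp w₂ le_rfl))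
  obtain ⟨e₁, he₁, hy₁, ha₁, hgen₁⟩ := hg₁ V hV (h₁ y) (preimage_le_of_comp w₁ le_rfl hyV)
  obtain ⟨e₂, he₂, hy₂, ha₂, hgen₂⟩ := hg₂ V hV (h₂ y) (preimage_le_of_comp w₂ le_rfl hyV)
  let μ₁ : ∀ c : L'.ι, Γ(X', L'.pc c V) := fun c => (h₁.appLE _ _ (hp₁ c)).hom (PowerSeries.coeff 1 (e₁.1 c.1))
  let μ₂ : ∀ c : L'.ι, Γ(X', L'.pc c V) := fun c => (h₂.appLE _ _ (hp₂ c)).hom (PowerSeries.coeff 1 (e₂.1 c.2))
  have key : ∀ (W : S.Opens) (hW : W ≤ V) (u₁ : T₁.Fam W) (u₂ : T₂.Fam W), T₁.IsLoc u₁ → T₂.IsLoc u₂ →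
      ∀ (p₁ : ∀ c : L'.ι, L'.pc c W ≤ h₁ ⁻¹ᵁ L₁.pc c.1 W) (p₂ : ∀ c : L'.ι, L'.pc c W ≤ h₂ ⁻¹ᵁ L₂.pc c.2 W),
      T'.IsLoc (V := W) (fun c => (h₁.appLE _ _ (p₁ c)).hom (u₁ c.1) * (h₂.appLE _ _ (p₂ c)).hom (u₂ c.2)) := by
    intro W hW u₁ u₂ hu₁ hu₂ p₁ p₂ x hx
    obtain ⟨V₁, i₁, a, ha, hxV₁, r₁, hr₁⟩ := hu₁ x hx
    obtain ⟨V₂, i₂, b, hb, hxV₂, r₂, hr₂⟩ := hu₂ x hx
    obtain ⟨V₀, hV₀, hxV₀, hle⟩ := Opens.isBasis_iff_nbhd.mp S.isBasis_affineOpens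
      (show x ∈ V₁ ⊓ V₂ from ⟨hxV₁, hxV₂⟩)
    have hV₀₁ : V₀ ≤ V₁ := hle.trans inf_le_left
    have hV₀₂ : V₀ ≤ V₂ := hle.trans inf_le_right
    refine ⟨V₀, hV₀₁.trans i₁, ⟨(a, b), ⟨⟨V₀, hV₀⟩, le_inf (hV₀₁.trans ha) (hV₀₂.trans hb)⟩⟩, le_rfl, hxV₀,
      fun k => rs hV₀₁ (r₁ (finProdFinEquiv.symm k).1) * rs hV₀₂ (r₂ (finProdFinEquiv.symm k).2), funext fun c => ?_⟩
    have hO1 : T'.base.pc c V₀ ≤ h₁ ⁻¹ᵁ T₁.base.pc c.1 V₁ :=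
      le_inf (inf_le_left.trans inf_le_left) (inf_le_right.trans (preimage_le_of_comp w₁ hV₀₁))
    have hO2 : T'.base.pc c V₀ ≤ h₂ ⁻¹ᵁ T₂.base.pc c.2 V₂ :=
      le_inf (inf_le_left.trans inf_le_right) (inf_le_right.trans (preimage_le_of_comp w₂ hV₀₂))
    have e1 := congrArg (h₁.appLE _ _ hO1).hom (congrFun hr₁ c.1)
    have e2 := congrArg (h₂.appLE _ _ hO2).hom (congrFun hr₂ c.2)
    simp only [LocData.fres, LocData.comb, map_sum, map_mul, appLE_rs] at e1 e2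
    show rs _ (_ * _) = ∑ k, _ * rs _ _
    rw [map_mul]
    refine ((congrArg₂ (· * ·) ((rs_appLE _ _ _ _).trans e1) ((rs_appLE _ _ _ _).trans e2)).trans ?_)
    rw [Finset.sum_mul_sum, ← Fintype.sum_prod_type', ← finProdFinEquiv.symm.sum_comp]
    refine Finset.sum_congr rfl fun k _ => ?_
    show _ = T'.base.str c V₀ (_ * _) * rs _ (prodFam T₁ T₂ h₁ h₂ w₁ w₂ a b V₀ (le_inf (hV₀₁.trans ha) (hV₀₂.trans hb)) _ _ c)
    simp only [prodFam, map_mul, rs_appLE]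
    simp only [LinSys.str, LocData.gn]
    rw [appLE_base w₁ hV₀₁ (T₁.base.pc_le_preimage c.1 V₁) hO1,
      appLE_base w₂ hV₀₂ (T₂.base.pc_le_preimage c.2 V₂) hO2]
    exact mul_mul_mul_comm _ _ _ _
  have hl₁ : T₁.IsLoc (V := V) (fun c => PowerSeries.coeff 1 (e₁.1 c)) := T₁.isLoc_coeff_one hV he₁
  have hl₂ : T₂.IsLoc (V := V) (fun c => PowerSeries.coeff 1 (e₂.1 c)) := T₂.isLoc_coeff_one hV he₂
  have tr₁ : ∀ (k : ℕ) (s : L₁.alg V), s ∈ L₁.deg V k → ∃ s' : L'.alg V, s' ∈ L'.deg V k ∧ ∀ c,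
      PowerSeries.coeff k (s'.1 c) = μ₂ c ^ k * (h₁.appLE _ _ (hp₁ c)).hom (PowerSeries.coeff k (s.1 c.1)) := by
    intro k s hs
    obtain ⟨s', hs', hc⟩ := LinSys.exists_transfer L₁ L' h₁ (𝟙 S) (w₁.trans (Category.comp_id f').symm)
      (fun c => c.1) (fun c => inf_le_left) (show V ≤ (𝟙 S) ⁻¹ᵁ V from le_rfl) μ₂
      (fun W W' hW hW' hgW e he hle => by
        have hle' : W' ≤ W := hgW
        have := key W' hW' (T₁.fres hle' e) (T₂.fres hW' (fun c => PowerSeries.coeff 1 (e₂.1 c)))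
          (LocData.IsLoc.res T₁ hle' he) (LocData.IsLoc.res T₂ hW' hl₂)
          (fun c => le_inf (inf_le_left.trans inf_le_left) (inf_le_right.trans (preimage_le_of_comp w₁ le_rfl)))
          (fun c => le_inf (inf_le_left.trans inf_le_right) (inf_le_right.trans (preimage_le_of_comp w₂ le_rfl)))
        show T'.IsLoc (V := W') _
        refine (congrArg (T'.IsLoc (V := W')) (funext fun c => ?_)).mp this
        show (h₁.appLE _ _ _).hom (rs _ (e c.1)) * (h₂.appLE _ _ _).hom (rs _ _) = _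
        rw [appLE_rs, appLE_rs, mul_comm (rs (L'.pc_mono c hW') (μ₂ c))]
        exact congrArg (_ * ·) (rs_appLE _ _ _ _).symm) hs
    exact ⟨s', hs', fun c => hc c (hp₁ c)⟩
  have tr₂ : ∀ (k : ℕ) (s : L₂.alg V), s ∈ L₂.deg V k → ∃ s' : L'.alg V, s' ∈ L'.deg V k ∧ ∀ c,
      PowerSeries.coeff k (s'.1 c) = μ₁ c ^ k * (h₂.appLE _ _ (hp₂ c)).hom (PowerSeries.coeff k (s.1 c.2)) := by
    intro k s hs
    obtain ⟨s', hs', hc⟩ := LinSys.exists_transfer L₂ L' h₂ (𝟙 S) (w₂.trans (Category.comp_id f').symm)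
      (fun c => c.2) (fun c => inf_le_right) (show V ≤ (𝟙 S) ⁻¹ᵁ V from le_rfl) μ₁
      (fun W W' hW hW' hgW e he hle => by
        have hle' : W' ≤ W := hgW
        have := key W' hW' (T₁.fres hW' (fun c => PowerSeries.coeff 1 (e₁.1 c))) (T₂.fres hle' e)
          (LocData.IsLoc.res T₁ hW' hl₁) (LocData.IsLoc.res T₂ hle' he)
          (fun c => le_inf (inf_le_left.trans inf_le_left) (inf_le_right.trans (preimage_le_of_comp w₁ le_rfl)))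
          (fun c => le_inf (inf_le_left.trans inf_le_right) (inf_le_right.trans (preimage_le_of_comp w₂ le_rfl)))
        show T'.IsLoc (V := W') _
        refine (congrArg (T'.IsLoc (V := W')) (funext fun c => ?_)).mp this
        show (h₁.appLE _ _ _).hom (rs _ _) * (h₂.appLE _ _ _).hom (rs _ (e c.2)) = _
        rw [appLE_rs, appLE_rs]
        exact congrArg (· * _) (rs_appLE _ _ _ _).symm) hs
    exact ⟨s', hs', fun c => hc c (hp₂ c)⟩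
  obtain ⟨e', he', hec⟩ := tr₁ 1 e₁ he₁
  have hec' : ∀ c, PowerSeries.coeff 1 (e'.1 c) = μ₁ c * μ₂ c := fun c => by
    rw [hec c, pow_one, mul_comm]
  have hbo : ∀ c, X'.basicOpen (PowerSeries.coeff 1 (e'.1 c)) =
      h₁ ⁻¹ᵁ X₁.basicOpen (PowerSeries.coeff 1 (e₁.1 c.1)) ⊓
        h₂ ⁻¹ᵁ X₂.basicOpen (PowerSeries.coeff 1 (e₂.1 c.2)) ⊓ L'.pc c V := by
    intro c
    rw [hec' c, Scheme.basicOpen_mul, Scheme.basicOpen_appLE, Scheme.basicOpen_appLE]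
    refine TopologicalSpace.Opens.ext (Set.ext fun z => ?_)
    exact ⟨fun hz => ⟨⟨hz.1.2, hz.2.2⟩, hz.1.1⟩, fun hz => ⟨⟨hz.2, hz.1.1⟩, hz.2, hz.1.2⟩⟩
  have hloc : L'.loc V 1 e' = h₁ ⁻¹ᵁ L₁.loc V 1 e₁ ⊓ h₂ ⁻¹ᵁ L₂.loc V 1 e₂ := by
    refine TopologicalSpace.Opens.ext (Set.ext fun z => ?_)
    constructor
    · intro hz
      obtain ⟨c, hc⟩ := Opens.mem_iSup.mp hz
      rw [hbo] at hc
      exact ⟨Opens.mem_iSup.mpr ⟨c.1, hc.1.1⟩, Opens.mem_iSup.mpr ⟨c.2, hc.1.2⟩⟩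
    · rintro ⟨hz1, hz2⟩
      obtain ⟨c, hc⟩ := Opens.mem_iSup.mp hz1
      obtain ⟨d, hd⟩ := Opens.mem_iSup.mp hz2
      refine Opens.mem_iSup.mpr ⟨(c, d), ?_⟩
      rw [hbo]
      have h1 : h₁ z ∈ L₁.pc c V := X₁.basicOpen_le _ hc
      refine ⟨⟨hc, hd⟩, ⟨h1.1, (L₂.pc_le d V (X₂.basicOpen_le _ hd) : _)⟩, ?_⟩
      show f' z ∈ V
      rw [← w₁]
      exact h1.2
  obtain ⟨haff, hclo⟩ := affine_and_generated h₁ h₂ (w₁.trans w₂.symm) hV ha₁ (L₁.loc_le 1 e₁) ha₂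
    (L₂.loc_le 1 e₂) hloc
  refine ⟨e', he', by rw [hloc]; exact ⟨hy₁, hy₂⟩, haff, L'.gen_of_generators he'
    (Set.range (h₁.appLE (L₁.loc V 1 e₁) (L'.loc V 1 e') (hloc.le.trans inf_le_left)).hom ∪
      Set.range (h₂.appLE (L₂.loc V 1 e₂) (L'.loc V 1 e') (hloc.le.trans inf_le_right)).hom) ?_ ?_⟩
  · exact eq_top_iff.mpr (hclo.ge.trans (Subring.closure_mono Set.subset_union_right))
  rintro _ (⟨z, rfl⟩ | ⟨z, rfl⟩)
  · obtain ⟨k, s, hs, hks0⟩ := hgen₁ z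
    have hks : ∀ c, rs (L₁.loc_sub 1 e₁ c) z * rs (X₁.basicOpen_le _) (PowerSeries.coeff 1 (e₁.1 c)) ^ k =
        rs (X₁.basicOpen_le _) (PowerSeries.coeff k (s.1 c)) := hks0
    obtain ⟨s', hs', hsc⟩ := tr₁ k s hs
    refine ⟨k, s', hs', fun c => ?_⟩
    let B' := X'.basicOpen (PowerSeries.coeff 1 (e'.1 c))
    have hB' : B' ≤ L'.pc c V := X'.basicOpen_le _
    have hB : B' ≤ h₁ ⁻¹ᵁ X₁.basicOpen (PowerSeries.coeff 1 (e₁.1 c.1)) :=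
      (hbo c).le.trans (inf_le_left.trans inf_le_left)
    show rs (L'.loc_sub 1 e' c) _ * rs hB' (PowerSeries.coeff 1 (e'.1 c)) ^ k = rs hB' _
    have he1 : rs hB' (PowerSeries.coeff 1 (e'.1 c)) = rs hB' (μ₂ c) *
        (h₁.appLE _ B' (hB'.trans (hp₁ c))).hom (PowerSeries.coeff 1 (e₁.1 c.1)) := by
      refine (congrArg (rs hB') ((hec' c).trans (mul_comm _ _))).trans ?_
      rw [map_mul]
      exact congrArg (_ * ·) (rs_appLE _ _ _ _)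
    rw [he1, hsc c, map_mul, map_pow, mul_pow]
    have h1 := congrArg (h₁.appLE _ _ hB).hom (hks c.1)
    simp only [map_mul, map_pow, appLE_rs] at h1
    simp only [rs_appLE]
    refine (mul_left_comm _ _ _).trans ?_
    refine congrArg (_ * ·) ?_
    exact h1
  · obtain ⟨k, s, hs, hks0⟩ := hgen₂ z
    have hks : ∀ c, rs (L₂.loc_sub 1 e₂ c) z * rs (X₂.basicOpen_le _) (PowerSeries.coeff 1 (e₂.1 c)) ^ k =
        rs (X₂.basicOpen_le _) (PowerSeries.coeff k (s.1 c)) := hks0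
    obtain ⟨s', hs', hsc⟩ := tr₂ k s hs
    refine ⟨k, s', hs', fun c => ?_⟩
    let B' := X'.basicOpen (PowerSeries.coeff 1 (e'.1 c))
    have hB' : B' ≤ L'.pc c V := X'.basicOpen_le _
    have hB : B' ≤ h₂ ⁻¹ᵁ X₂.basicOpen (PowerSeries.coeff 1 (e₂.1 c.2)) :=
      (hbo c).le.trans (inf_le_left.trans inf_le_right)
    show rs (L'.loc_sub 1 e' c) _ * rs hB' (PowerSeries.coeff 1 (e'.1 c)) ^ k = rs hB' _
    have he1 : rs hB' (PowerSeries.coeff 1 (e'.1 c)) = rs hB' (μ₁ c) *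
        (h₂.appLE _ B' (hB'.trans (hp₂ c))).hom (PowerSeries.coeff 1 (e₂.1 c.2)) := by
      refine (congrArg (rs hB') (hec' c)).trans ?_
      rw [map_mul]
      exact congrArg (_ * ·) (rs_appLE _ _ _ _)
    rw [he1, hsc c, map_mul, map_pow, mul_pow]
    have h1 := congrArg (h₂.appLE _ _ hB).hom (hks c.2)
    simp only [map_mul, map_pow, appLE_rs] at h1
    simp only [rs_appLE]
    refine (mul_left_comm _ _ _).trans ?_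
    refine congrArg (_ * ·) ?_
    exact h1

end LinSysLib

end
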