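import Groth.Agent.LinSysLib.OfRelProj
import Groth.Agent.LinSysLib.Prod
import Mathlib.AlgebraicGeometry.Morphisms.Finite

/-!
# Operations on projective morphisms
-/

set_option autoImplicit false
universe u

open CategoryTheory CategoryTheory.Limits AlgebraicGeometry TopologicalSpace Opposite

noncomputable section

namespace LinSysLib

variable {X Y Z Y' X' S : Scheme.{u}}

theorem isProjective_of_comap {f : X ⟶ Y} {f' : X' ⟶ Y'} (h : X' ⟶ X) (g : Y' ⟶ Y) (w : h ≫ f = f' ≫ g)
    [IsClosedImmersion (pullback.lift h f' w)] [UniversallyClosed f'] (hf : RelProj.IsProjective f) :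
    RelProj.IsProjective f' := by
  haveI := RelProjLib.isProper_of_isProjective hf
  obtain ⟨T, -, hT⟩ := exists_isGood_of_isProjective hf
  exact isProjective_of_isGood _ (T.comap_isGood h g f' w hT)

theorem isProjective_baseChange {f : X ⟶ Y} (hf : RelProj.IsProjective f) (g : Y' ⟶ Y) :
    RelProj.IsProjective (pullback.snd f g) := by
  haveI := RelProjLib.isProper_of_isProjective hf
  haveI : IsClosedImmersion (pullback.lift (pullback.fst f g) (pullback.snd f g) pullback.condition) := by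
    rw [show pullback.lift (pullback.fst f g) (pullback.snd f g) pullback.condition = 𝟙 _ from
      pullback.hom_ext (by simp) (by simp)]
    infer_instance
  exact isProjective_of_comap (pullback.fst f g) g pullback.condition hf

theorem isProjective_closedImmersion_comp (i : X' ⟶ X) [IsClosedImmersion i] {f : X ⟶ Y}
    (hf : RelProj.IsProjective f) : RelProj.IsProjective (i ≫ f) := by
  haveI := RelProjLib.isProper_of_isProjective hf
  have w : i ≫ f = (i ≫ f) ≫ 𝟙 Y := (Category.comp_id _).symm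
  haveI : IsClosedImmersion (pullback.lift i (i ≫ f) w) := by
    have : IsClosedImmersion (pullback.lift i (i ≫ f) w ≫ pullback.fst f (𝟙 Y)) := by
      rw [pullback.lift_fst]; infer_instance
    exact IsClosedImmersion.of_comp _ (pullback.fst f (𝟙 Y))
  exact isProjective_of_comap i (𝟙 Y) w hf

theorem isProjective_of_comp (f : X ⟶ Y) (g : Y ⟶ Z) [IsSeparated g] (h : RelProj.IsProjective (f ≫ g)) :
    RelProj.IsProjective f := by
  let j : X ⟶ pullback (f ≫ g) g := pullback.lift (𝟙 X) f (by simp)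
  haveI : IsClosedImmersion j := by
    have : IsClosedImmersion (j ≫ pullback.fst (f ≫ g) g) := by
      rw [pullback.lift_fst]; infer_instance
    exact IsClosedImmersion.of_comp _ (pullback.fst (f ≫ g) g)
  have h1 := isProjective_closedImmersion_comp j (isProjective_baseChange h g)
  rwa [pullback.lift_snd] at h1

theorem isProjective_prod {X₁ X₂ : Scheme.{u}} {f₁ : X₁ ⟶ S} {f₂ : X₂ ⟶ S} {f' : X' ⟶ S} (h₁ : X' ⟶ X₁)
    (h₂ : X' ⟶ X₂) (w₁ : h₁ ≫ f₁ = f') (w₂ : h₂ ≫ f₂ = f')
    [IsClosedImmersion (pullback.lift h₁ h₂ (w₁.trans w₂.symm))] [UniversallyClosed f']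
    (hf₁ : RelProj.IsProjective f₁) (hf₂ : RelProj.IsProjective f₂) : RelProj.IsProjective f' := by
  haveI := RelProjLib.isProper_of_isProjective hf₁
  haveI := RelProjLib.isProper_of_isProjective hf₂
  obtain ⟨T₁, -, hT₁⟩ := exists_isGood_of_isProjective hf₁
  obtain ⟨T₂, -, hT₂⟩ := exists_isGood_of_isProjective hf₂
  exact isProjective_of_isGood _ (T₁.prod_isGood T₂ h₁ h₂ w₁ w₂ hT₁ hT₂)

theorem isProjective_pullback_map (a : Y ⟶ S) (a' : Y' ⟶ S) (f : X ⟶ Y) (f' : X' ⟶ Y')
    (hf : RelProj.IsProjective f) (hf' : RelProj.IsProjective f') :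
    RelProj.IsProjective (pullback.map (f ≫ a) (f' ≫ a') a a' f f' (𝟙 S) (Category.comp_id (f ≫ a))
      (Category.comp_id (f' ≫ a'))) := by
  set m := pullback.map (f ≫ a) (f' ≫ a') a a' f f' (𝟙 S) (Category.comp_id (f ≫ a))
    (Category.comp_id (f' ≫ a'))
  let p₁ := pullback.snd f (pullback.fst a a')
  let p₂ := pullback.snd f' (pullback.snd a a')
  have hp₁ : RelProj.IsProjective p₁ := isProjective_baseChange hf _
  have hp₂ : RelProj.IsProjective p₂ := isProjective_baseChange hf' _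
  haveI := RelProjLib.isProper_of_isProjective hp₁
  haveI := RelProjLib.isProper_of_isProjective hp₂
  let k₁ : pullback (f ≫ a) (f' ≫ a') ⟶ pullback f (pullback.fst a a') :=
    pullback.lift (pullback.fst _ _) m (pullback.lift_fst _ _ _).symm
  let k₂ : pullback (f ≫ a) (f' ≫ a') ⟶ pullback f' (pullback.snd a a') :=
    pullback.lift (pullback.snd _ _) m (pullback.lift_snd _ _ _).symm
  have w₁ : k₁ ≫ p₁ = m := pullback.lift_snd _ _ _
  have w₂ : k₂ ≫ p₂ = m := pullback.lift_snd _ _ _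
  have c₁ : pullback.fst f (pullback.fst a a') ≫ f = p₁ ≫ pullback.fst a a' := pullback.condition
  have c₂ : pullback.fst f' (pullback.snd a a') ≫ f' = p₂ ≫ pullback.snd a a' := pullback.condition
  have c : pullback.fst p₁ p₂ ≫ p₁ = pullback.snd p₁ p₂ ≫ p₂ := pullback.condition
  let e : pullback p₁ p₂ ⟶ pullback (f ≫ a) (f' ≫ a') :=
    pullback.lift (pullback.fst p₁ p₂ ≫ pullback.fst _ _) (pullback.snd p₁ p₂ ≫ pullback.fst _ _) (by
      rw [Category.assoc, Category.assoc, reassoc_of% c₁, reassoc_of% c₂,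
        pullback.condition (f := a) (g := a'), reassoc_of% c])
  let u := pullback.lift k₁ k₂ (w₁.trans w₂.symm)
  have hue : u ≫ e = 𝟙 _ := by
    apply pullback.hom_ext
    · rw [Category.assoc, pullback.lift_fst, ← Category.assoc, pullback.lift_fst, pullback.lift_fst, Category.id_comp]
    · rw [Category.assoc, pullback.lift_snd, ← Category.assoc, pullback.lift_snd, pullback.lift_fst, Category.id_comp]
  have hmf : m ≫ pullback.fst a a' = pullback.fst (f ≫ a) (f' ≫ a') ≫ f := pullback.lift_fst _ _ _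
  have hms : m ≫ pullback.snd a a' = pullback.snd (f ≫ a) (f' ≫ a') ≫ f' := pullback.lift_snd _ _ _
  have hm₁ : e ≫ m = pullback.fst p₁ p₂ ≫ p₁ := by
    apply pullback.hom_ext
    · rw [Category.assoc, hmf, pullback.lift_fst_assoc, Category.assoc, c₁, Category.assoc]
    · rw [Category.assoc, hms, pullback.lift_snd_assoc, Category.assoc, c₂, c, Category.assoc]
  have heu : e ≫ u = 𝟙 _ := by
    apply pullback.hom_ext
    · rw [Category.id_comp, Category.assoc, pullback.lift_fst]
      apply pullback.hom_ext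
      · rw [Category.assoc, pullback.lift_fst, pullback.lift_fst]
      · rw [Category.assoc, pullback.lift_snd]; exact hm₁
    · rw [Category.id_comp, Category.assoc, pullback.lift_snd]
      apply pullback.hom_ext
      · rw [Category.assoc, pullback.lift_fst, pullback.lift_snd]
      · rw [Category.assoc, pullback.lift_snd]
        exact hm₁.trans c
  haveI : IsIso u := ⟨e, hue, heu⟩
  haveI : UniversallyClosed m := by
    rw [← w₁, show k₁ = u ≫ pullback.fst p₁ p₂ from (pullback.lift_fst _ _ _).symm]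
    infer_instance
  exact isProjective_prod k₁ k₂ w₁ w₂ hp₁ hp₂

theorem isProjective_reduced (f : X ⟶ Y) (hf : RelProj.IsProjective f) (j : X' ⟶ X) [IsClosedImmersion j]
    (k : Y' ⟶ Y) [IsSeparated k] (f₀ : X' ⟶ Y') (hcomm : j ≫ f = f₀ ≫ k) : RelProj.IsProjective f₀ :=
  isProjective_of_comp f₀ k (hcomm ▸ isProjective_closedImmersion_comp j hf)

/-! ### finite morphisms -/

variable (f : X ⟶ Y) [IsFinite f]

/-- module generators of the functions over an affine open -/
theorem exists_finite_gens (U : Y.affineOpens) :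
    ∃ (n : ℕ) (t : Fin n → Γ(X, f ⁻¹ᵁ U.1)), ∀ h, ∃ r : Fin n → Γ(Y, U.1), h = ∑ l, (f.app U.1).hom (r l) * t l := by
  letI := (f.app U.1).hom.toAlgebra
  have : Module.Finite Γ(Y, U.1) Γ(X, f ⁻¹ᵁ U.1) := (f.finite_app U.1 U.2)
  obtain ⟨n, t, ht⟩ := Module.Finite.exists_fin (R := Γ(Y, U.1)) (M := Γ(X, f ⁻¹ᵁ U.1))
  refine ⟨n, t, fun h => ?_⟩
  obtain ⟨r, hr⟩ := (Submodule.mem_span_range_iff_exists_fun Γ(Y, U.1)).mp (ht ▸ Submodule.mem_top : h ∈ _)
  exact ⟨r, hr.symm⟩

/-- the linear system of a finite morphism -/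
def finiteData : LocData f where
  ι := PUnit.{u+1}
  D _ := ⊤
  cover _ := ⟨PUnit.unit, trivial⟩
  g _ _ := 1
  κ := Y.affineOpens
  W U := U.1
  affine U := U.2
  coverS x := by
    obtain ⟨U, hU, hxU, -⟩ := exists_isAffineOpen_mem_and_subset (x := x) (U := ⊤) trivial
    exact ⟨⟨U, hU⟩, hxU⟩
  n U := (exists_finite_gens f U).choose
  t U l _ := rs inf_le_right ((exists_finite_gens f U).choose_spec.choose l)
  compat U l c d O hc hd := by rw [map_one, one_mul]
  overlap U U' l x hx hx' := by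
    obtain ⟨r₁, r₀, e, hxr⟩ := exists_basicOpen_le_affine_inter U.2 U'.2 x ⟨hx, hx'⟩
    have hle : Y.basicOpen r₀ ≤ U.1 := e.symm.le.trans (Y.basicOpen_le r₁)
    let g := (f.app U'.1).hom r₀
    have hg : f ⁻¹ᵁ Y.basicOpen r₀ = X.basicOpen g := Scheme.preimage_basicOpen f r₀
    haveI := (U'.2.preimage f).isLocalization_basicOpen g
    obtain ⟨⟨y, _, m, rfl⟩, hy⟩ := IsLocalization.surj (Submonoid.powers g)
      (rs (hg.ge.trans (f.preimage_mono hle)) ((exists_finite_gens f U).choose_spec.choose l) : Γ(X, X.basicOpen g))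
    obtain ⟨r, hr⟩ := (exists_finite_gens f U').choose_spec.choose_spec y
    obtain ⟨v, hv⟩ : ∃ v : Γ(Y, Y.basicOpen r₀), v * rs (Y.basicOpen_le r₀) r₀ = 1 :=
      (RingedSpace.isUnit_res_basicOpen Y.toRingedSpace r₀).exists_left_inv
    refine ⟨Y.basicOpen r₀, hle, Y.basicOpen_le r₀, fun i => v ^ m * rs (Y.basicOpen_le r₀) (r i), e ▸ hxr, fun c => ?_⟩
    have h1 := congrArg (rs ((inf_le_right : (⊤ : X.Opens) ⊓ f ⁻¹ᵁ Y.basicOpen r₀ ≤ _).trans hg.le)) hy
    simp only [RingHom.algebraMap_toAlgebra, map_mul, map_pow, rs_rs] at h1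
    rw [hr, map_sum] at h1
    simp only [rs_rs]
    simp only [map_mul, Scheme.Hom.app_eq_appLE, rs_appLE, appLE_rs, map_pow, g] at h1 ⊢
    simp only [mul_assoc, ← Finset.mul_sum, ← h1]
    have h2 := congrArg (f.appLE (Y.basicOpen r₀) ((⊤ : X.Opens) ⊓ f ⁻¹ᵁ Y.basicOpen r₀) inf_le_right).hom hv
    rw [map_mul, map_one, appLE_rs] at h2
    rw [mul_left_comm, ← mul_pow, h2, one_pow, mul_one]

/-- a finite morphism is projective -/
theorem isProjective_of_isFinite : RelProj.IsProjective f := by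
  let T := finiteData f
  let L := T.toLinSys
  refine isProjective_of_isGood L (L.isGood_of_local fun y => ?_)
  obtain ⟨U, hU, hyU, -⟩ := exists_isAffineOpen_mem_and_subset (x := f y) (U := ⊤) trivial
  refine ⟨U, hU, hyU, ?_⟩
  let U₀ : Y.affineOpens := ⟨U, hU⟩
  have fam : ∀ h : Γ(X, f ⁻¹ᵁ U), ∃ s : L.alg U, s ∈ L.deg U 1 ∧ ∀ c,
      PowerSeries.coeff 1 (s.1 c) = rs (L.pc_le_preimage c U) h := by
    intro h
    obtain ⟨r, hr⟩ := (exists_finite_gens f U₀).choose_spec.choose_spec h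
    have he : T.comb U₀ (le_refl U) r ∈ L.E U := T.comb_mem_E _ r
    refine ⟨L.sec he, L.sec_mem_deg he, fun c => ?_⟩
    show PowerSeries.coeff 1 (L.mon _ c) = _
    rw [L.coeff_mon, if_pos rfl]
    show T.comb U₀ (le_refl U) r c = _
    rw [hr]
    refine Eq.trans ?_ (map_sum _ _ _).symm
    refine Finset.sum_congr rfl fun n _ => ?_
    refine Eq.trans ?_ (map_mul _ _ _).symm
    refine congrArg₂ (· * ·) ?_ (rs_rs _ _ _)
    rw [LinSys.str, Scheme.Hom.app_eq_appLE]
    exact (rs_appLE f _ _ _).symm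
  obtain ⟨e, he, hec⟩ := fam 1
  have hbo : ∀ c, X.basicOpen (PowerSeries.coeff 1 (e.1 c)) = L.pc c U := fun c => by
    rw [hec c, map_one, Scheme.basicOpen_of_isUnit X isUnit_one]
  have hloc : L.loc U 1 e = f ⁻¹ᵁ U := le_antisymm (L.loc_le 1 e) fun z hz => by
    obtain ⟨c, hc⟩ := L.exists_mem_pc (W := U) hz
    exact Opens.mem_iSup.mpr ⟨c, (hbo c).ge hc⟩
  refine ⟨e, he, hloc.ge hyU, hloc ▸ hU.preimage f, fun h => ?_⟩
  obtain ⟨s, hs, hsc⟩ := fam (rs hloc.ge h)
  refine ⟨1, s, hs, fun c => ?_⟩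
  rw [pow_one]
  let B := X.basicOpen (PowerSeries.coeff 1 (e.1 c))
  have hB : B ≤ L.pc c U := X.basicOpen_le _
  show rs (L.loc_sub 1 e c) h * rs hB _ = rs hB _
  rw [congrArg (rs hB) (hec c), congrArg (rs hB) (hsc c), map_one, map_one, mul_one, rs_rs, rs_rs]

end LinSysLib

end
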