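import Groth.Agent.LinSysLib.AmpleProj
import Groth.Agent.LinSysLib.Compactify
import Groth.Agent.LinSysLib.BlowUp
import Groth.Agent.LinSysLib.Projective
import Groth.Agent.ModPairLib.Basic
import Groth.Agent.MiscFlat6.RelTwistOne

/-!
# Projective compactifications of quasi-projective morphisms
-/

set_option autoImplicit false
universe u

open CategoryTheory CategoryTheory.Limits AlgebraicGeometry TopologicalSpace Opposite

noncomputable section

namespace LinSysLib

variable {X S : Scheme.{u}}

/-- a quasi-projective morphism over a qcqs base has a projective compactification -/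
theorem exists_projective_compactification [CompactSpace S] [QuasiSeparatedSpace S] {f : X ⟶ S}
    (hf : RelProj.IsQuasiProjective f) :
    ∃ (P : Scheme.{u}) (j : X ⟶ P) (g : P ⟶ S), IsOpenImmersion j ∧ QuasiCompact j ∧
      IsSchemeTheoreticallyDominant j ∧ RelProj.IsProjective g ∧ j ≫ g = f := by
  obtain ⟨hl, hq, L, hL⟩ := hf
  haveI := hl
  haveI := hq
  haveI := MiscFlat6.isSeparated_of_isRelAmple f hL
  obtain ⟨T, hT⟩ := exists_isGood_of_isRelAmple f hL
  obtain ⟨P, j, g, hj, hg, hjg⟩ := exists_openImmersion_projective T hT
  haveI := hj
  haveI := RelProjLib.isProper_of_isProjective hg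
  haveI : QuasiCompact (j ≫ g) := hjg ▸ hq
  haveI : QuasiCompact j := QuasiCompact.of_comp j g
  refine ⟨j.image, j.toImage, j.imageι ≫ g, inferInstance, inferInstance, ModPairLib.isDominant_toImage,
    isProjective_closedImmersion_comp j.imageι hg, ?_⟩
  rw [Scheme.Hom.toImage_imageι_assoc, hjg]

/-- projectivity over Noetherian targets -/
def projOverNoetherian : MorphismProperty Scheme.{u} := fun _ B f => IsNoetherian B → RelProj.IsProjective f

instance : (projOverNoetherian.{u}).IsMultiplicative where
  id_mem _ _ := isProjective_of_isFinite (𝟙 _)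
  comp_mem b c hb hc hC := by
    haveI := hC
    have hc' := hc hC
    haveI := RelProjLib.isProper_of_isProjective hc'
    haveI : IsLocallyNoetherian _ := LocallyOfFiniteType.isLocallyNoetherian c
    haveI : CompactSpace _ := QuasiCompact.compactSpace_of_compactSpace c
    exact isProjective_comp (hb { }) hc'

end LinSysLib

end
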