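import Groth.Agent.LinSysLib.ImmPn
import Groth.Agent.MiscFlat6.RelTwistOne
import Groth.Agent.AmpleLib.Ample
import Groth.Agent.RelProjLib.HProj

/-!
# Quasi-projective and projective morphisms over a base with an ample module
-/

set_option autoImplicit false
universe u

open CategoryTheory CategoryTheory.Limits AlgebraicGeometry TopologicalSpace Opposite

noncomputable section

namespace LinSysLib

variable {X Y : Scheme.{u}}

theorem exists_immersion_of_ample_base [QuasiSeparatedSpace Y] (hY : ∃ M : Y.Modules, CohB1.IsAmple M)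
    {f : X ⟶ Y} (hf : RelProj.IsQuasiProjective f) :
    ∃ (r : ℕ) (i : X ⟶ CohB1.ProjSpaceOver r Y), IsImmersion i ∧ i ≫ CohB1.ProjSpaceOver.toBase r Y = f := by
  obtain ⟨M, hM⟩ := hY
  obtain ⟨hl, hq, L, hL⟩ := hf
  haveI := hl
  haveI := hq
  haveI : CompactSpace Y := hM.2.1
  haveI : CompactSpace X := QuasiCompact.compactSpace_of_compactSpace f
  haveI := MiscFlat6.isSeparated_of_isRelAmple f hL
  haveI : QuasiSeparatedSpace X := quasiSeparatedSpace_of_quasiSeparated f
  obtain ⟨n₀, hn⟩ := MiscFlat6.exists_isAmple_tensor_pullback f hL hM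
  obtain ⟨N, hN⟩ := eventually_veryAmple_gen f (hn n₀ le_rfl)
  obtain ⟨r, i, hi, hif, -⟩ := hN N le_rfl
  exact ⟨r, i, hi, hif⟩

theorem isHProjective_of_ample_base [QuasiSeparatedSpace Y] (hY : ∃ M : Y.Modules, CohB1.IsAmple M)
    {f : X ⟶ Y} (hf : RelProj.IsProjective f) : RelProj.IsHProjective f := by
  obtain ⟨hq, hp⟩ := MiscFlat6.isQuasiProjective_of_isProjective hf
  obtain ⟨r, i, hi, hif⟩ := exists_immersion_of_ample_base hY hq
  haveI := hi
  haveI : IsSeparated (CohB1.ProjSpaceOver.toBase r Y) := inferInstance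
  haveI : IsProper (i ≫ CohB1.ProjSpaceOver.toBase r Y) := hif ▸ hp
  haveI : IsProper i := IsProper.of_comp i (CohB1.ProjSpaceOver.toBase r Y)
  exact ⟨r, i, IsClosedImmersion.of_isPreimmersion i i.isClosedMap.isClosed_range, hif⟩

end LinSysLib

end
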