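import Groth.Agent.AmpleThLib.VeryAmple
import Groth.Agent.MiscFlat6.RelAmpleCompPowers

/-!
# Immersions into projective space over an arbitrary base from an ample module
-/

set_option autoImplicit false
universe u

open CategoryTheory CategoryTheory.Limits AlgebraicGeometry TopologicalSpace Opposite
open ChowLib RelProjLib AmpleLib AmpleThLib
open TwistLib (genSet)

noncomputable section

namespace LinSysLib

variable {X Y : Scheme.{u}}

lemma isAffineOpen_Pk_inf {m : ℕ} (k : Fin (m + 1)) {U : Y.Opens} (hU : IsAffineOpen U) :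
    IsAffineOpen (Pk Y k ⊓ CohB1.ProjSpaceOver.toBase m Y ⁻¹ᵁ U) := by
  have hsq : IsPullback ((toPZ m Y) ∣_ Dplus k) ((Pk Y k).ι ≫ CohB1.ProjSpaceOver.toBase m Y)
      ((Dplus k).ι ≫ CohB1.ProjSpace.toSpec m (ULift.{u} ℤ)) (specULiftZIsTerminal.from Y) :=
    (isPullback_morphismRestrict (toPZ m Y) (Dplus k)).paste_vert (IsPullback.of_hasPullback _ _)
  haveI : IsAffine (Dplus.{u} k : (PZ.{u} m).Opens).toScheme := isAffineOpen_Dplus k
  have : IsAffineHom ((Pk Y k).ι ≫ CohB1.ProjSpaceOver.toBase m Y) :=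
    MorphismProperty.of_isPullback (P := @IsAffineHom) hsq (isAffineHom_of_isAffine _)
  have h := (hU.preimage ((Pk Y k).ι ≫ CohB1.ProjSpaceOver.toBase m Y)).image_of_isOpenImmersion (Pk Y k).ι
  rwa [Scheme.Hom.comp_preimage, Scheme.Hom.image_preimage_eq_opensRange_inf, Scheme.Opens.opensRange_ι] at h

theorem exists_immersion_gen (q : X ⟶ Y) {M : X.Modules} (hM : PicF.IsInvertible M) {m : ℕ}
    (v : Fin (m + 1) → Γ(M, ⊤)) (K : Set (Fin (m + 1)))
    (hcov : ∀ x : X, ∃ k ∈ K, x ∈ genSet hM (v k))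
    (haff : ∀ k ∈ K, IsAffineOpen (genSet hM (v k)))
    (hsurj : ∀ k ∈ K, ∃ (U : Y.Opens) (_ : IsAffineOpen U) (hle : genSet hM (v k) ≤ q ⁻¹ᵁ U),
      Subring.closure (Set.range (q.appLE U (genSet hM (v k)) hle) ∪
      {c | ∃ l, c • res M (le_top : genSet hM (v k) ≤ ⊤) (v k) = res M le_top (v l)}) = ⊤) :
    RelAmple.IsRelVeryAmplePn q M := by
  obtain ⟨r, τ, hpre, hcoef⟩ := exists_toPZ hM v (fun x => (hcov x).imp fun k hk => hk.2)
  let i : X ⟶ CohB1.ProjSpaceOver m Y := pullback.lift r q (specULiftZIsTerminal.hom_ext _ _)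
  have hfst : i ≫ toPZ m Y = r := pullback.lift_fst _ _ _
  have hsnd : i ≫ CohB1.ProjSpaceOver.toBase m Y = q := pullback.lift_snd _ _ _
  refine ⟨m, i, ?_, hsnd, ?_⟩
  · choose U hUaff hUle hU using hsurj
    let O : K → (CohB1.ProjSpaceOver m Y).Opens := fun k =>
      Pk Y k.1 ⊓ CohB1.ProjSpaceOver.toBase m Y ⁻¹ᵁ U k.1 k.2
    refine isImmersion_of_local i O (fun x => ?_) (fun ⟨k, hk⟩ => ?_)
    · obtain ⟨k, hk, hx⟩ := hcov x
      refine ⟨⟨k, hk⟩, ?_, ?_⟩
      · change (i ≫ toPZ m Y) x ∈ Dplus k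
        rw [hfst]
        exact (hpre k).ge hx
      · change (i ≫ CohB1.ProjSpaceOver.toBase m Y) x ∈ U k hk
        rw [hsnd]
        exact hUle k hk hx
    · have hP : i ⁻¹ᵁ O ⟨k, hk⟩ = genSet hM (v k) := by
        refine le_antisymm (fun x hx => ?_) fun x hx => ⟨?_, ?_⟩
        · rw [← hpre k, ← hfst]; exact hx.1
        · change (i ≫ toPZ m Y) x ∈ Dplus k
          rw [hfst]
          exact (hpre k).ge hx
        · change (i ≫ CohB1.ProjSpaceOver.toBase m Y) x ∈ U k hk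
          rw [hsnd]
          exact hUle k hk hx
      have : IsAffine (i ⁻¹ᵁ O ⟨k, hk⟩).toScheme := hP ▸ haff k hk
      have : IsAffine (O ⟨k, hk⟩).toScheme := isAffineOpen_Pk_inf k (hUaff k hk)
      refine IsClosedImmersion.of_surjective_of_isAffine _ ?_
      rw [Scheme.Hom.appTop, morphismRestrict_app']
      refine surjective_appLE_congr i (O ⟨k, hk⟩).ι_image_top.symm (hP.symm.trans (Scheme.Opens.ι_image_top _).symm) hP.ge _ ?_
      have hsur : Function.Surjective (i.appLE (O ⟨k, hk⟩) (genSet hM (v k)) hP.ge) := by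
        intro a
        suffices h : a ∈ (i.appLE (O ⟨k, hk⟩) (genSet hM (v k)) hP.ge).hom.range from h
        refine (show Subring.closure _ ≤ _ from Subring.closure_le.mpr ?_) ((hU k hk).ge (Subring.mem_top a))
        rintro _ (⟨y, rfl⟩ | ⟨l, hl⟩)
        · refine ⟨(CohB1.ProjSpaceOver.toBase m Y).appLE (U k hk) (O ⟨k, hk⟩) inf_le_right y, ?_⟩
          rw [← CommRingCat.comp_apply, Scheme.Hom.appLE_comp_appLE]
          simp only [hsnd]
        · refine ⟨(toPZ m Y).appLE (Dplus k) (O ⟨k, hk⟩) inf_le_left (cj k l), ?_⟩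
          rw [← CommRingCat.comp_apply, Scheme.Hom.appLE_comp_appLE]
          simp only [hfst]
          refine (TwistLib.genSet_genOn hM (v k) _ le_rfl).1 ?_
          dsimp only
          rw [res_res, hl]
          have h1 := congrArg (res M (hpre k).ge) (hcoef k l)
          rw [res_smul, res_res, res_res] at h1
          refine Eq.trans ?_ h1
          congr 1
      exact hsur
  · exact ⟨τ.symm ≪≫ ((Scheme.Modules.pullbackCongr hfst).app _).symm ≪≫
      ((Scheme.Modules.pullbackComp i (toPZ m Y)).app _).symm⟩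

theorem exists_data_gen (q : X ⟶ Y) [LocallyOfFiniteType q] {L : X.Modules} (hL : PicF.IsInvertible L) (hA : CohB1.IsAmple L) :
    ∃ n₀ : ℕ, ∀ n, n₀ ≤ n → ∃ (m : ℕ) (v : Fin (m + 1) → Γ(CohB1.tensorPow L n, ⊤)) (K : Set (Fin (m + 1))),
      (∀ x : X, ∃ k ∈ K, x ∈ genSet (tensorPow_isInvertible hL n) (v k)) ∧
      (∀ k ∈ K, IsAffineOpen (genSet (tensorPow_isInvertible hL n) (v k))) ∧
      ∀ k ∈ K, ∃ (U : Y.Opens) (_ : IsAffineOpen U) (hle : genSet (tensorPow_isInvertible hL n) (v k) ≤ q ⁻¹ᵁ U),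
        Subring.closure (Set.range (q.appLE U (genSet (tensorPow_isInvertible hL n) (v k)) hle) ∪
        {c | ∃ l, c • res _ (le_top : genSet (tensorPow_isInvertible hL n) (v k) ≤ ⊤) (v k) =
          res _ le_top (v l)}) = ⊤ := by
  classical
  have : CompactSpace X := hA.2.1
  have : QuasiSeparatedSpace X := quasiSeparatedSpace_of_isAmple hA
  have hloc : ∀ x : X, ∃ (d : ℕ) (V : X.Opens) (W : Y.Opens), 0 < d ∧ IsLocus hL d V ∧ x ∈ V ∧ IsAffineOpen V ∧
      (IsAffineOpen W ∧ V ≤ q ⁻¹ᵁ W) ∧ ∃ e : Γ(L, V), GenOn L e := by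
    intro x
    obtain ⟨U, e, hxU, he⟩ := TwistLib.exists_genOn hL x
    obtain ⟨W, hW, hxW, -⟩ := exists_isAffineOpen_mem_and_subset (x := q x) (U := ⊤) trivial
    obtain ⟨d, V, hd, hV, hxV, haff, hle⟩ := exists_locus_le hL hA (W := U ⊓ q ⁻¹ᵁ W) ⟨hxU, hxW⟩
    exact ⟨d, V, W, hd, hV, hxV, haff, ⟨hW, hle.trans inf_le_right⟩, res L (hle.trans inf_le_left) e,
      he.res (hle.trans inf_le_left)⟩
  choose d V W hd hV hmem haff hWle e₀ he₀ using hloc
  obtain ⟨S, hS⟩ := isCompact_univ.elim_finite_subcover (fun x => (V x : Set X))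
    (fun x => (V x).2) fun x _ => Set.mem_iUnion.mpr ⟨x, hmem x⟩
  let D := ∏ i : S, d i.1
  have hD : 0 < D := Finset.prod_pos fun i _ => hd i.1
  have hVD : ∀ i : S, IsLocus hL D (V i.1) := fun i => by
    have h := (hV i.1).mul_right (k := ∏ j ∈ Finset.univ.erase i, d j.1) (Finset.prod_pos fun j _ => hd j.1)
    rwa [Finset.mul_prod_erase Finset.univ (fun j : S => d j.1) (Finset.mem_univ i)] at h
  choose t ht using hVD
  have hft : ∀ i : S, (q.appLE (W i.1) (V i.1) (hWle i.1).2).hom.FiniteType := fun i =>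
    q.finiteType_appLE (hWle i.1).1 (haff i.1) (hWle i.1).2
  have hgens : ∀ i : S, ∃ G : Finset Γ(X, V i.1),
      Subring.closure (Set.range (q.appLE (W i.1) (V i.1) (hWle i.1).2) ∪ G) = ⊤ := by
    intro i
    let := (q.appLE (W i.1) (V i.1) (hWle i.1).2).hom.toAlgebra
    obtain ⟨G, hG⟩ := (hft i : Algebra.FiniteType _ _).out
    refine ⟨G, ?_⟩
    rw [← show (Algebra.adjoin Γ(Y, W i.1) (G : Set Γ(X, V i.1))).toSubring = ⊤ by rw [hG]; rfl,
      Algebra.adjoin_eq_ring_closure]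
    rfl
  choose G hG using hgens
  have hext : ∀ (i : S) (r : ℕ) (a : Γ(X, V i.1)), ∃ N, ∀ k, N ≤ k →
      ∃ w : Γ(CohB1.tensorPow L (r + D * k + D), ⊤),
        genSet (tensorPow_isInvertible hL _) w ≤ V i.1 ∧
        res _ (le_top : V i.1 ≤ ⊤) w =
          a • mul hL (mul hL (pS (e₀ i.1) r) (res _ le_top (tPow hL (t i) k))) (res _ le_top (t i)) := by
    intro i r a
    obtain ⟨N, hN⟩ := exists_extend hL (t i) (r := r)
      (res _ (ht i).le (a • pS (e₀ i.1) r))
    refine ⟨N, fun k hk => ?_⟩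
    obtain ⟨u, hu⟩ := hN k hk
    refine ⟨mul hL u (t i), ?_, ?_⟩
    · rw [genSet_mul]
      exact inf_le_right.trans (ht i).le
    · have h1 := congrArg (res _ (ht i).ge) hu
      rw [mul_res, res_res, res_res, res_res] at h1
      erw [res_refl] at h1
      rw [mul_res, h1]
      have e2 := mul_smul_smul hL a 1 (pS (e₀ i.1) r) (res _ le_top (tPow hL (t i) k))
      rw [one_smul, mul_one] at e2
      rw [e2]
      have e3 := mul_smul_smul hL a 1 (mul hL (pS (e₀ i.1) r) (res _ le_top (tPow hL (t i) k)))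
        (res _ (le_top : V i.1 ≤ ⊤) (t i))
      rw [one_smul, mul_one] at e3
      exact e3
  choose N hN using hext
  let N₀ := ∑ i : S, ∑ r ∈ Finset.range D, (N i r 1 + ∑ a ∈ G i, N i r a)
  refine ⟨D * (N₀ + 2), fun n hn => ?_⟩
  obtain ⟨r, k, hr, hk, rfl⟩ : ∃ r k, r < D ∧ N₀ ≤ k ∧ n = r + D * k + D := by
    refine ⟨n % D, n / D - 1, Nat.mod_lt _ hD, ?_, ?_⟩
    · have : N₀ + 2 ≤ n / D := (Nat.le_div_iff_mul_le hD).mpr (by rwa [mul_comm] at hn)
      omega
    · have h1 : 1 ≤ n / D := by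
        have : N₀ + 2 ≤ n / D := (Nat.le_div_iff_mul_le hD).mpr (by rwa [mul_comm] at hn)
        omega
      obtain ⟨c, hc⟩ := Nat.exists_eq_add_of_le h1
      have := Nat.mod_add_div n D
      rw [hc] at this ⊢
      rw [Nat.add_sub_cancel_left]
      linarith
  have hNle : ∀ i : S, N i r 1 ≤ k ∧ ∀ a ∈ G i, N i r a ≤ k := by
    intro i
    have h1 : N i r 1 + ∑ a ∈ G i, N i r a ≤ N₀ :=
      le_trans (Finset.single_le_sum (f := fun r => N i r 1 + ∑ a ∈ G i, N i r a)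
        (fun _ _ => Nat.zero_le _) (Finset.mem_range.mpr hr))
        (Finset.single_le_sum (f := fun i => ∑ r ∈ Finset.range D, (N i r 1 + ∑ a ∈ G i, N i r a))
          (fun _ _ => Nat.zero_le _) (Finset.mem_univ i))
    exact ⟨by omega, fun a ha => (Finset.single_le_sum (fun _ _ => Nat.zero_le _) ha).trans (by omega)⟩
  choose w hwle hw using fun (i : S) (a : Γ(X, V i.1)) (ha : N i r a ≤ k) => hN i r a k ha
  let J := Option (Σ i : S, Option {a // a ∈ G i})
  let vJ : J → Γ(CohB1.tensorPow L (r + D * k + D), ⊤)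
    | none => 0
    | some ⟨i, none⟩ => w i 1 (hNle i).1
    | some ⟨i, some a⟩ => w i a.1 ((hNle i).2 a.1 a.2)
  obtain ⟨m, hm⟩ : ∃ m, Fintype.card J = m + 1 := ⟨_, (Nat.succ_pred_eq_of_pos Fintype.card_pos).symm⟩
  let ε : J ≃ Fin (m + 1) := Fintype.equivFinOfCardEq hm
  let M := CohB1.tensorPow L (r + D * k + D)
  have hM := tensorPow_isInvertible hL (r + D * k + D)
  let g : ∀ i : S, Γ(M, V i.1) := fun i =>
    mul hL (mul hL (pS (e₀ i.1) r) (res _ le_top (tPow hL (t i) k))) (res _ le_top (t i))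
  have hg : ∀ i : S, GenOn M (g i) := fun i => by
    refine mul_genOn hL (mul_genOn hL (pS_genOn (he₀ i.1) r) (tPow_genOn hL (t i) (ht i).ge k)) ?_
    have h := (TwistLib.genSet_genOn (tensorPow_isInvertible hL D) (t i)).res (ht i).ge
    rwa [res_res] at h
  have hlocus : ∀ i : S, genSet hM (vJ (some ⟨i, none⟩)) = V i.1 := fun i => by
    refine le_antisymm (hwle i 1 (hNle i).1) fun x hx => ?_
    have h1 := (hg i).genAt hx
    rw [show g i = res M le_top (w i 1 (hNle i).1) from ((hw i 1 (hNle i).1).trans (one_smul _ _)).symm] at h1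
    exact (genAt_res _ _ hx).mp h1
  refine ⟨m, fun l => vJ (ε.symm l), Set.range fun i : S => ε (some ⟨i, none⟩), fun x => ?_, ?_, ?_⟩
  · obtain ⟨i, hi, hx⟩ := Set.mem_iUnion₂.mp (hS (Set.mem_univ x))
    refine ⟨_, ⟨⟨i, hi⟩, rfl⟩, ?_⟩
    simp only [Equiv.symm_apply_apply]
    rw [hlocus]
    exact hx
  · rintro _ ⟨i, rfl⟩
    simp only [Equiv.symm_apply_apply]
    rw [hlocus]
    exact haff i.1
  rintro _ ⟨i, rfl⟩
  dsimp only
  refine ⟨W i.1, (hWle i.1).1, ?_, ?_⟩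
  · simp only [Equiv.symm_apply_apply]
    exact (hlocus i).le.trans (hWle i.1).2
  have key : ∀ (U : X.Opens) (hU : U = V i.1) (hle : U ≤ q ⁻¹ᵁ W i.1), Subring.closure (Set.range (q.appLE (W i.1) U hle) ∪
      {c | ∃ l, c • res M (le_top : U ≤ ⊤) (vJ (some ⟨i, none⟩)) = res M le_top (vJ (ε.symm l))}) = ⊤ := by
    intro U hU hle
    subst hU
    refine eq_top_iff.mpr ((hG i).ge.trans (Subring.closure_mono (Set.union_subset_union_right _ ?_)))
    intro a ha
    refine ⟨ε (some ⟨i, some ⟨a, ha⟩⟩), ?_⟩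
    rw [Equiv.symm_apply_apply]
    change a • res M _ (w i 1 _) = res M _ (w i a _)
    rw [hw, hw, one_smul]
  have key' : ∀ (z : J), z = some ⟨i, none⟩ → ∀ hle : genSet hM (vJ z) ≤ q ⁻¹ᵁ W i.1,
      Subring.closure (Set.range (q.appLE (W i.1) (genSet hM (vJ z)) hle) ∪
      {c | ∃ l, c • res M (le_top : genSet hM (vJ z) ≤ ⊤) (vJ z) = res M le_top (vJ (ε.symm l))}) = ⊤ := by
    rintro z rfl hle
    exact key _ (hlocus i) hle
  exact key' _ (ε.symm_apply_apply _) _

theorem eventually_veryAmple_gen (q : X ⟶ Y) [LocallyOfFiniteType q] {L : X.Modules} (hA : CohB1.IsAmple L) :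
    ∃ n₀ : ℕ, ∀ n, n₀ ≤ n → RelAmple.IsRelVeryAmplePn q (CohB1.tensorPow L n) := by
  obtain ⟨n₀, h⟩ := exists_data_gen q hA.1 hA
  refine ⟨n₀, fun n hn => ?_⟩
  obtain ⟨m, v, K, hc, ha, hs⟩ := h n hn
  exact exists_immersion_gen q _ v K hc ha hs

end LinSysLib

end
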