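import Groth.Agent.LinSysLib.Alg

/-!
# Linear systems from finitely many generators over the members of an affine covering
-/

set_option autoImplicit false
universe u

open CategoryTheory CategoryTheory.Limits AlgebraicGeometry TopologicalSpace Opposite

noncomputable section

namespace LinSysLib

/-- pieces and transition functions without any sections -/
@[reducible]
def LinSys.bare {X S : Scheme.{u}} (f : X ⟶ S) (ι : Type u) (D : ι → X.Opens) (cover : ∀ x : X, ∃ c, x ∈ D c)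
    (g : ∀ c d, Γ(X, D c ⊓ D d)) : LinSys f where
  ι := ι
  D := D
  cover := cover
  g := g
  E _ := ∅
  res _ _ h := h.elim
  compat _ h := h.elim
  gens _ := ⟨0, fun j => j.elim0, fun j => j.elim0, fun _ _ h => h.elim⟩

/-- generators of a linear system over an affine covering, spanning the same locally -/
structure LocData {X S : Scheme.{u}} (f : X ⟶ S) where
  /-- the index of the pieces -/
  ι : Type u
  /-- the pieces -/
  D : ι → X.Opens
  cover : ∀ x : X, ∃ c, x ∈ D c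
  /-- the transition functions -/
  g : ∀ c d, Γ(X, D c ⊓ D d)
  /-- the index of the covering of the base -/
  κ : Type u
  /-- the covering of the base -/
  W : κ → S.Opens
  affine : ∀ a, IsAffineOpen (W a)
  coverS : ∀ x : S, ∃ a, x ∈ W a
  /-- the number of generators -/
  n : κ → ℕ
  /-- the generators -/
  t : ∀ a, Fin (n a) → ∀ c : ι, Γ(X, D c ⊓ f ⁻¹ᵁ W a)
  compat : ∀ a j (c d : ι) (O : X.Opens) (hc : O ≤ D c ⊓ f ⁻¹ᵁ W a) (hd : O ≤ D d ⊓ f ⁻¹ᵁ W a),
    rs hc (t a j c) = rs (le_inf (hc.trans inf_le_left) (hd.trans inf_le_left)) (g c d) * rs hd (t a j d)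
  overlap : ∀ (a b : κ) (j : Fin (n a)) (x : S), x ∈ W a → x ∈ W b →
    ∃ (V : S.Opens) (ha : V ≤ W a) (hb : V ≤ W b) (r : Fin (n b) → Γ(S, V)), x ∈ V ∧ ∀ c,
      rs (inf_le_inf_left (D c) (f.preimage_mono ha)) (t a j c) =
        ∑ i, (f.appLE V (D c ⊓ f ⁻¹ᵁ V) inf_le_right).hom (r i) *
          rs (inf_le_inf_left (D c) (f.preimage_mono hb)) (t b i c)

namespace LocData

variable {X S : Scheme.{u}} {f : X ⟶ S} (T : LocData f)

/-- the pieces and transition functions -/
abbrev base : LinSys f := LinSys.bare f T.ι T.D T.cover T.g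

/-- families over an open of the base -/
abbrev Fam (V : S.Opens) : Type u := ∀ c : T.ι, Γ(X, T.base.pc c V)

/-- restriction of families -/
def fres {V W : S.Opens} (h : V ≤ W) (e : T.Fam W) : T.Fam V := fun c => rs (T.base.pc_mono c h) (e c)

lemma fres_fres {U V W : S.Opens} (h : U ≤ V) (h' : V ≤ W) (e : T.Fam W) :
    T.fres h (T.fres h' e) = T.fres (h.trans h') e := funext fun _ => rs_rs _ _ _

lemma fres_refl {W : S.Opens} (e : T.Fam W) : T.fres (le_refl W) e = e := funext fun _ => rs_refl _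

/-- the generators as families -/
def gn (a : T.κ) (i : Fin (T.n a)) : T.Fam (T.W a) := T.t a i

/-- multiplication by functions of the base -/
def fsmul {V : S.Opens} (r : Γ(S, V)) (e : T.Fam V) : T.Fam V := fun c => T.base.str c V r * e c

lemma fres_fsmul {V W : S.Opens} (h : V ≤ W) (r : Γ(S, W)) (e : T.Fam W) :
    T.fres h (T.fsmul r e) = T.fsmul (rs h r) (T.fres h e) := by
  funext c
  simp only [fres, fsmul, map_mul]
  rw [T.base.rs_str c h]

/-- linear combinations of generators -/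
def comb (a : T.κ) {V : S.Opens} (h : V ≤ T.W a) (r : Fin (T.n a) → Γ(S, V)) : T.Fam V :=
  fun c => ∑ i, T.base.str c V (r i) * T.fres h (T.gn a i) c

lemma fres_comb (a : T.κ) {V V' : S.Opens} (h : V ≤ T.W a) (i : V' ≤ V) (r : Fin (T.n a) → Γ(S, V)) :
    T.fres i (T.comb a h r) = T.comb a (i.trans h) fun j => rs i (r j) := by
  funext c
  simp only [fres, comb, map_sum, map_mul, rs_rs]
  refine Finset.sum_congr rfl fun j _ => ?_
  rw [T.base.rs_str c i]

lemma fsmul_comb (a : T.κ) {V : S.Opens} (h : V ≤ T.W a) (q : Γ(S, V)) (r : Fin (T.n a) → Γ(S, V)) :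
    T.fsmul q (T.comb a h r) = T.comb a h fun j => q * r j := by
  funext c
  simp only [fsmul, comb, Finset.mul_sum, map_mul, mul_assoc]

/-- the transformation rule -/
def Compat {V : S.Opens} (e : T.Fam V) : Prop :=
  ∀ (c d : T.ι) (O : X.Opens) (hc : O ≤ T.base.pc c V) (hd : O ≤ T.base.pc d V),
    rs hc (e c) = T.base.tf c d (hc.trans (T.base.pc_le c V)) (hd.trans (T.base.pc_le d V)) ^ 1 * rs hd (e d)

lemma compat_comb (a : T.κ) {V : S.Opens} (h : V ≤ T.W a) (r : Fin (T.n a) → Γ(S, V)) :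
    T.Compat (T.comb a h r) := by
  intro c d O hc hd
  simp only [comb, map_sum, map_mul, Finset.mul_sum, pow_one]
  refine Finset.sum_congr rfl fun i _ => ?_
  have hs : rs hc (T.base.str c V (r i)) = rs hd (T.base.str d V (r i)) := by
    rw [LinSys.str, LinSys.str, rs, rs, ← CommRingCat.comp_apply, ← CommRingCat.comp_apply,
      Scheme.Hom.appLE_map, Scheme.Hom.appLE_map]
  have ht : rs (hc.trans (T.base.pc_mono c h)) (T.gn a i c) =
      T.base.tf c d (hc.trans (T.base.pc_le c V)) (hd.trans (T.base.pc_le d V)) *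
        rs (hd.trans (T.base.pc_mono d h)) (T.gn a i d) :=
    T.compat a i c d O (hc.trans (T.base.pc_mono c h)) (hd.trans (T.base.pc_mono d h))
  rw [fres, fres, rs_rs, rs_rs, ht, hs]
  exact mul_left_comm _ _ _

/-- in the span of the generators of one member -/
def InSpan (a : T.κ) {V : S.Opens} (h : V ≤ T.W a) (e : T.Fam V) : Prop := ∃ r, e = T.comb a h r

lemma InSpan.res {a : T.κ} {V V' : S.Opens} {h : V ≤ T.W a} {e : T.Fam V} (he : T.InSpan a h e) (i : V' ≤ V) :
    T.InSpan a (i.trans h) (T.fres i e) :=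
  let ⟨r, hr⟩ := he
  ⟨fun j => rs i (r j), by rw [hr, T.fres_comb]⟩

lemma InSpan.add {a : T.κ} {V : S.Opens} {h : V ≤ T.W a} {e e' : T.Fam V} (he : T.InSpan a h e)
    (he' : T.InSpan a h e') : T.InSpan a h (fun c => e c + e' c) := by
  obtain ⟨r, rfl⟩ := he
  obtain ⟨r', rfl⟩ := he'
  exact ⟨fun j => r j + r' j, funext fun c => by simp only [comb, map_add, add_mul, Finset.sum_add_distrib]⟩

/-- locally in the span of generators -/
def IsLoc {V : S.Opens} (e : T.Fam V) : Prop :=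
  ∀ x ∈ V, ∃ (V' : S.Opens) (i : V' ≤ V) (a : T.κ) (h : V' ≤ T.W a), x ∈ V' ∧ T.InSpan a h (T.fres i e)

lemma isLoc_of_inSpan {a : T.κ} {V : S.Opens} {h : V ≤ T.W a} {e : T.Fam V} (he : T.InSpan a h e) : T.IsLoc e :=
  fun _ hx => ⟨V, le_rfl, a, h, hx, by rw [T.fres_refl]; exact he⟩

lemma IsLoc.res {V W : S.Opens} (h : V ≤ W) {e : T.Fam W} (he : T.IsLoc e) : T.IsLoc (T.fres h e) := by
  intro x hx
  obtain ⟨V', i, a, ha, hxV, hs⟩ := he x (h hx)
  refine ⟨V' ⊓ V, inf_le_right, a, inf_le_left.trans ha, ⟨hxV, hx⟩, ?_⟩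
  have := InSpan.res T hs (inf_le_left : V' ⊓ V ≤ V')
  rwa [T.fres_fres] at this ⊢

lemma IsLoc.compat {V : S.Opens} {e : T.Fam V} (he : T.IsLoc e) : T.Compat e := by
  intro c d O hc hd
  refine sub_eq_zero.mp (eq_zero_of_germ fun y hy => ?_)
  obtain ⟨V', i, a, ha, hyV, r, hr⟩ := he (f y) (T.base.pc_le_preimage c V (hc hy))
  have h1 := T.compat_comb a ha r c d (O ⊓ f ⁻¹ᵁ V')
    (le_inf (inf_le_left.trans (hc.trans (T.base.pc_le c V))) inf_le_right)
    (le_inf (inf_le_left.trans (hd.trans (T.base.pc_le d V))) inf_le_right)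
  rw [← hr, fres, fres, rs_rs, rs_rs] at h1
  have hyO : y ∈ O ⊓ f ⁻¹ᵁ V' := ⟨hy, hyV⟩
  rw [← germ_rs (inf_le_left : O ⊓ f ⁻¹ᵁ V' ≤ O) _ y hyO, map_sub, map_mul, map_pow, rs_rs, rs_rs,
    LinSys.rs_tf, h1, sub_self, map_zero]

variable [QuasiCompact f]

/-- a family vanishing on a basic open of an affine open is killed by a power -/
lemma exists_kill {V : S.Opens} (hV : IsAffineOpen V) (q : Γ(S, V)) {e : T.Fam V} (he : T.Compat e)
    (h0 : ∀ c, T.fres (S.basicOpen_le q) e c = 0) :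
    ∃ m, ∀ m', m ≤ m' → ∀ c, T.base.str c V q ^ m' * e c = 0 :=
  T.base.exists_pow_mul_eq_zero hV (j := 0) (k := 1) (fun c => T.base.str c V q) e
    (fun c d O hc hd => by
      rw [pow_zero, one_mul, LinSys.str, LinSys.str, rs, rs, ← CommRingCat.comp_apply, ← CommRingCat.comp_apply,
        Scheme.Hom.appLE_map, Scheme.Hom.appLE_map])
    he fun c => by
      have hb : X.basicOpen (T.base.str c V q) ≤ T.base.pc c (S.basicOpen q) := fun w hw => by
        refine ⟨T.base.pc_le c V (X.basicOpen_le _ hw), ?_⟩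
        rw [LinSys.str, Scheme.basicOpen_appLE] at hw
        exact hw.2
      rw [← rs_rs hb (T.base.pc_mono c (S.basicOpen_le q))]
      exact (congrArg (rs hb) (h0 c)).trans (map_zero _)

lemma IsLoc.exists_basic {V : S.Opens} (hV : IsAffineOpen V) {e : T.Fam V} (he : T.IsLoc e) (a : T.κ)
    (hVa : V ≤ T.W a) (x : S) (hx : x ∈ V) :
    ∃ q : Γ(S, V), x ∈ S.basicOpen q ∧
      T.InSpan a ((S.basicOpen_le q).trans hVa) (T.fres (S.basicOpen_le q) e) := by
  classical
  obtain ⟨V', i, b, hb, hxV', r, hr⟩ := he x hx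
  choose Vj hja hjb rj hxj hj using fun j : Fin (T.n b) => T.overlap b a j x (hb hxV') (hVa hx)
  obtain ⟨q, hq, hxq⟩ := hV.exists_basicOpen_le
    (V := V' ⊓ Finset.univ.inf Vj) ⟨x, hxV', by
      rw [Opens.coe_finset_inf]; simp only [Finset.inf_set_eq_iInter, Set.mem_iInter]
      exact fun j _ => hxj j⟩ hx
  refine ⟨q, hxq, fun i' => ∑ j, rs (hq.trans inf_le_left) (r j) *
    rs (hq.trans (inf_le_right.trans (Finset.inf_le (Finset.mem_univ j)))) (rj j i'), ?_⟩
  have h1 : T.fres (S.basicOpen_le q) e = T.fres (hq.trans inf_le_left) (T.fres i e) := (T.fres_fres _ _ _).symm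
  rw [h1, hr, T.fres_comb]
  funext c
  simp only [comb, map_sum, Finset.sum_mul]
  rw [Finset.sum_comm]
  refine Finset.sum_congr rfl fun j _ => ?_
  have hq' : S.basicOpen q ≤ Vj j := hq.trans (inf_le_right.trans (Finset.inf_le (Finset.mem_univ j)))
  have h2 : T.fres hq' (T.fres (hja j) (T.gn b j)) = T.fres hq' (T.comb a (hjb j) (rj j)) :=
    congrArg (T.fres hq') (funext (hj j))
  rw [T.fres_fres, T.fres_comb] at h2
  rw [congrFun h2 c, comb, Finset.mul_sum]
  refine Finset.sum_congr rfl fun i' _ => ?_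
  rw [map_mul, mul_assoc]

/-- over an affine open inside one member the local span is the span -/
theorem IsLoc.inSpan {V : S.Opens} (hV : IsAffineOpen V) {e : T.Fam V} (he : T.IsLoc e) (a : T.κ)
    (hVa : V ≤ T.W a) : T.InSpan a hVa e := by
  classical
  let I : Ideal Γ(S, V) :=
    { carrier := {q | T.InSpan a hVa (T.fsmul q e)}
      zero_mem' := ⟨fun _ => 0, funext fun c => by simp [fsmul, comb]⟩
      add_mem' := fun {p q} hp hq => by
        have := InSpan.add T hp hq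
        simp only [fsmul, ← add_mul, ← map_add] at this
        exact this
      smul_mem' := fun p q hq => by
        obtain ⟨r, hr⟩ := hq
        refine ⟨fun j => p * r j, ?_⟩
        rw [← T.fsmul_comb, ← hr]
        funext c
        simp only [fsmul, smul_eq_mul, map_mul, mul_assoc] }
  choose q hxq hq using fun x : V => IsLoc.exists_basic T hV he a hVa x.1 x.2
  have hmem : ∀ x : V, ∃ m, q x ^ m ∈ I := by
    intro x
    obtain ⟨r, hr⟩ := hq x
    haveI := hV.isLocalization_basicOpen (q x)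
    obtain ⟨⟨_, k, rfl⟩, hk⟩ := IsLocalization.exist_integer_multiples_of_finite
      (M := Submonoid.powers (q x)) (S := Γ(S, S.basicOpen (q x))) r
    choose b hb using hk
    let z : T.Fam V := fun c => T.base.str c V (q x ^ k) * e c - T.comb a hVa b c
    have hz : T.Compat z := by
      intro c d O hc hd
      simp only [z, map_sub, map_mul]
      rw [IsLoc.compat T he c d O hc hd, T.compat_comb a hVa b c d O hc hd,
        show rs hc (T.base.str c V (q x ^ k)) = rs hd (T.base.str d V (q x ^ k)) by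
          rw [LinSys.str, LinSys.str, rs, rs, ← CommRingCat.comp_apply, ← CommRingCat.comp_apply,
            Scheme.Hom.appLE_map, Scheme.Hom.appLE_map]]
      ring
    have hz0 : ∀ c, T.fres (S.basicOpen_le (q x)) z c = 0 := by
      intro c
      show rs _ (T.base.str c V (q x ^ k) * e c - T.comb a hVa b c) = 0
      rw [map_sub, map_mul, T.base.rs_str c (S.basicOpen_le (q x))]
      have h2 := congrFun hr c
      have h3 := congrFun (T.fres_comb a hVa (S.basicOpen_le (q x)) b) c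
      simp only [fres] at h2 h3
      rw [h2, h3, comb, comb, Finset.mul_sum, ← Finset.sum_sub_distrib]
      refine Finset.sum_eq_zero fun j _ => ?_
      rw [show rs (S.basicOpen_le (q x)) (b j) = rs (S.basicOpen_le (q x)) (q x ^ k) * r j from hb j, map_mul,
        mul_assoc, sub_self]
    obtain ⟨m, hm⟩ := T.exists_kill hV (q x) hz hz0
    refine ⟨m + k, fun j => q x ^ m * b j, funext fun c => ?_⟩
    rw [← T.fsmul_comb]
    have h4 := hm m le_rfl c
    simp only [z, mul_sub, sub_eq_zero] at h4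
    simp only [fsmul]
    rw [pow_add, map_mul, mul_assoc, map_pow, ← h4]
  choose m hm using hmem
  suffices h : (1 : Γ(S, V)) ∈ I by
    obtain ⟨r, hr⟩ := h
    refine ⟨r, ?_⟩
    rw [← hr]
    funext c
    simp [fsmul]
  rw [← Ideal.eq_top_iff_one, ← Ideal.radical_eq_top, eq_top_iff,
    ← (hV.self_le_iSup_basicOpen_iff (s := Set.range q)).mp
      (fun x hx => Opens.mem_iSup.mpr ⟨⟨q ⟨x, hx⟩, ⟨x, hx⟩, rfl⟩, hxq ⟨x, hx⟩⟩), Ideal.span_le]
  rintro _ ⟨x, rfl⟩
  exact ⟨m x, hm x⟩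

/-- families over a basic open extend after multiplication by a power -/
theorem IsLoc.exists_extend {U : S.Opens} (hU : IsAffineOpen U) (r : Γ(S, U)) {e : T.Fam (S.basicOpen r)}
    (he : T.IsLoc e) :
    ∃ (M : ℕ) (e₀ : T.Fam U), T.IsLoc e₀ ∧
      T.fres (S.basicOpen_le r) e₀ = T.fsmul (rs (S.basicOpen_le r) (r ^ M)) e := by
  classical
  have hloc : ∀ x : U, ∃ q : Γ(S, U), x.1 ∈ S.basicOpen q ∧ ∃ a, S.basicOpen q ≤ T.W a := by
    rintro ⟨x, hx⟩
    obtain ⟨a, ha⟩ := T.coverS x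
    obtain ⟨q, hq, hxq⟩ := hU.exists_basicOpen_le ⟨x, ha⟩ hx
    exact ⟨q, hxq, a, hq⟩
  choose q hxq a ha using hloc
  obtain ⟨l, hl⟩ := hU.isCompact.elim_finite_subcover (fun x : U => (S.basicOpen (q x) : Set S))
    (fun x => (S.basicOpen (q x)).isOpen) (fun x hx => Set.mem_iUnion.mpr ⟨⟨x, hx⟩, hxq ⟨x, hx⟩⟩)
  let V : l → S.Opens := fun x => S.basicOpen (q x)
  have hVU : ∀ x, V x ≤ U := fun x => S.basicOpen_le _
  have hext : ∀ x : l, ∃ (m : ℕ) (b : Fin (T.n (a x)) → Γ(S, V x)),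
      T.fres (S.basicOpen_le (rs (hVU x) r)) (T.comb (a x) (ha x) b) =
        T.fsmul (rs ((S.basicOpen_le (rs (hVU x) r)).trans (hVU x)) (r ^ m))
          (T.fres ((Scheme.basicOpen_res S r (homOfLE (hVU x)).op).le.trans inf_le_right) e) := by
    intro x
    have hi : S.basicOpen (rs (hVU x) r) ≤ S.basicOpen r :=
      (Scheme.basicOpen_res S r (homOfLE (hVU x)).op).le.trans inf_le_right
    obtain ⟨c, hc⟩ := IsLoc.inSpan T ((hU.basicOpen (q x)).basicOpen (rs (hVU x) r)) (IsLoc.res T hi he) (a x)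
      ((S.basicOpen_le _).trans (ha x))
    haveI := (hU.basicOpen (q x)).isLocalization_basicOpen (rs (hVU x) r)
    obtain ⟨⟨_, m, rfl⟩, hm⟩ := IsLocalization.exist_integer_multiples_of_finite
      (M := Submonoid.powers (rs (hVU x) r)) (S := Γ(S, S.basicOpen (rs (hVU x) r))) c
    choose b hb using hm
    refine ⟨m, b, ?_⟩
    rw [T.fres_comb, hc, T.fsmul_comb]
    congr 1
    funext j
    rw [show rs (S.basicOpen_le (rs (hVU x) r)) (b j) =
      rs (S.basicOpen_le (rs (hVU x) r)) (rs (hVU x) r ^ m) * c j from hb j, ← map_pow, rs_rs]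
  choose m b hb using hext
  let M₁ := Finset.univ.sup m
  let w : ∀ x : l, T.Fam (V x) := fun x =>
    T.fsmul (rs (hVU x) (r ^ (M₁ - m x))) (T.comb (a x) (ha x) (b x))
  have hw : ∀ x : l, T.IsLoc (w x) := fun x =>
    T.isLoc_of_inSpan ⟨_, T.fsmul_comb _ _ _ _⟩
  have hwr : ∀ x : l, ∀ (V' : S.Opens) (h1 : V' ≤ V x) (h2 : V' ≤ S.basicOpen r),
      T.fres h1 (w x) = T.fsmul (rs (h2.trans (S.basicOpen_le r)) (r ^ M₁)) (T.fres h2 e) := by
    intro x V' h1 h2
    have h3 : V' ≤ S.basicOpen (rs (hVU x) r) := fun y hy => by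
      rw [Scheme.basicOpen_res S r (homOfLE (hVU x)).op]; exact ⟨h1 hy, h2 hy⟩
    have h4 := congrArg (T.fres h3) (hb x)
    rw [T.fres_fres, T.fres_fsmul, T.fres_fres, rs_rs] at h4
    simp only [w]
    rw [T.fres_fsmul, h4, rs_rs]
    funext c
    simp only [fsmul]
    rw [← mul_assoc, ← map_mul, ← map_mul, ← pow_add, Nat.sub_add_cancel (Finset.le_sup (Finset.mem_univ x))]
  have hkill : ∀ x y : l, ∃ k, ∀ k', k ≤ k' →
      T.fsmul (rs (inf_le_left.trans (hVU x) : V x ⊓ V y ≤ U) (r ^ k')) (T.fres (inf_le_left : V x ⊓ V y ≤ V x) (w x)) =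
        T.fsmul (rs (inf_le_left.trans (hVU x) : V x ⊓ V y ≤ U) (r ^ k')) (T.fres (inf_le_right : V x ⊓ V y ≤ V y) (w y)) := by
    intro x y
    have hV : IsAffineOpen (V x ⊓ V y) := by
      rw [← Scheme.basicOpen_mul]; exact hU.basicOpen _
    let z : T.Fam (V x ⊓ V y) := fun c =>
      T.fres (inf_le_left : V x ⊓ V y ≤ V x) (w x) c - T.fres (inf_le_right : V x ⊓ V y ≤ V y) (w y) c
    have hz : T.Compat z := by
      intro c d O hc hd
      simp only [z, map_sub]
      rw [IsLoc.compat T (IsLoc.res T inf_le_left (hw x)) c d O hc hd,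
        IsLoc.compat T (IsLoc.res T inf_le_right (hw y)) c d O hc hd, mul_sub]
    let r' := rs (inf_le_left.trans (hVU x) : V x ⊓ V y ≤ U) r
    have hr' : S.basicOpen r' ≤ S.basicOpen r :=
      (Scheme.basicOpen_res S r (homOfLE _).op).le.trans inf_le_right
    obtain ⟨k, hk⟩ := T.exists_kill hV r' hz fun c => by
      have h1 := congrFun (hwr x _ ((S.basicOpen_le r').trans inf_le_left) hr') c
      have h2 := congrFun (hwr y _ ((S.basicOpen_le r').trans inf_le_right) hr') c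
      simp only [fres] at h1 h2 ⊢
      simp only [z, fres, map_sub, rs_rs]
      rw [h1, h2, sub_self]
    refine ⟨k, fun k' hk' => funext fun c => ?_⟩
    have h3 := hk k' hk' c
    simp only [z, mul_sub, sub_eq_zero, r', ← map_pow] at h3
    exact h3
  choose k hk using hkill
  let K := Finset.univ.sup fun p : l × l => k p.1 p.2
  let v : ∀ x : l, T.Fam (V x) := fun x => T.fsmul (rs (hVU x) (r ^ K)) (w x)
  have hv : ∀ c, ∃! z : Γ(X, T.base.pc c U), ∀ x : l, rs (T.base.pc_mono c (hVU x)) z = v x c := by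
    intro c
    refine X.sheaf.existsUnique_gluing' (fun x : l => T.base.pc c (V x)) _
      (fun x => homOfLE (T.base.pc_mono c (hVU x))) ?_ _ ?_
    · intro z hz
      obtain ⟨x, hx, hzx⟩ := Set.mem_iUnion₂.mp (hl (T.base.pc_le_preimage c U hz))
      exact Opens.mem_iSup.mpr ⟨⟨x, hx⟩, T.base.pc_le c U hz, hzx⟩
    · intro x y
      have h0 : T.fres (inf_le_left : V x ⊓ V y ≤ V x) (v x) = T.fres (inf_le_right : V x ⊓ V y ≤ V y) (v y) := by
        refine (T.fres_fsmul _ _ _).trans (Eq.trans ?_ (T.fres_fsmul _ _ _).symm)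
        rw [rs_rs, rs_rs]
        exact hk x y K (Finset.le_sup (f := fun p : l × l => k p.1 p.2) (Finset.mem_univ (x, y)))
      have hle : T.base.pc c (V x) ⊓ T.base.pc c (V y) ≤ T.base.pc c (V x ⊓ V y) :=
        fun z hz => ⟨hz.1.1, hz.1.2, hz.2.2⟩
      have h1 := congrArg (rs hle) (congrFun h0 c)
      simp only [fres, rs_rs] at h1
      exact h1
  choose z hz _ using hv
  have hz' : ∀ x : l, T.fres (hVU x) z = v x := fun x => funext fun c => hz c x
  refine ⟨K + M₁, z, ?_, ?_⟩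
  · intro x hx
    obtain ⟨i, hi, hxi⟩ := Set.mem_iUnion₂.mp (hl hx)
    refine ⟨V ⟨i, hi⟩, hVU _, a i, ha i, hxi, ?_⟩
    rw [hz' ⟨i, hi⟩]
    refine ⟨fun j => rs (hVU ⟨i, hi⟩) (r ^ K) * (rs (hVU ⟨i, hi⟩) (r ^ (M₁ - m ⟨i, hi⟩)) * b ⟨i, hi⟩ j), ?_⟩
    simp only [v, w, T.fsmul_comb]
  · funext c
    refine sub_eq_zero.mp (eq_zero_of_germ fun y hy => ?_)
    obtain ⟨i, hi, hyi⟩ := Set.mem_iUnion₂.mp
      (hl (f.preimage_mono (S.basicOpen_le r) (T.base.pc_le_preimage c _ hy)))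
    have hO : y ∈ T.base.pc c (V ⟨i, hi⟩ ⊓ S.basicOpen r) :=
      ⟨T.base.pc_le c _ hy, hyi, T.base.pc_le_preimage c _ hy⟩
    rw [← germ_rs (T.base.pc_mono c (inf_le_right : V ⟨i, hi⟩ ⊓ S.basicOpen r ≤ _)) _ y hO]
    have h1 : T.fres (inf_le_right : V ⟨i, hi⟩ ⊓ S.basicOpen r ≤ _) (T.fres (S.basicOpen_le r) z) =
        T.fres inf_le_right (T.fsmul (rs (S.basicOpen_le r) (r ^ (K + M₁))) e) := by
      rw [T.fres_fres, ← T.fres_fres inf_le_left (hVU ⟨i, hi⟩), hz']
      simp only [v]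
      rw [T.fres_fsmul, hwr ⟨i, hi⟩ _ inf_le_left inf_le_right, T.fres_fsmul, rs_rs, rs_rs]
      funext c
      simp only [fsmul]
      rw [← mul_assoc, ← map_mul, ← map_mul, ← pow_add]
    have h2 := congrFun h1 c
    simp only [fres, fsmul] at h2 ⊢
    rw [map_sub, sub_eq_zero.mpr h2, map_zero]

/-- finitely many families over an affine open span all of them -/
theorem exists_gens {U : S.Opens} (hU : IsAffineOpen U) :
    ∃ (n : ℕ) (t : Fin n → T.Fam U), (∀ j, T.IsLoc (t j)) ∧ ∀ e : T.Fam U, T.IsLoc e →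
      ∃ a : Fin n → Γ(S, U), ∀ c, e c = ∑ j, T.base.str c U (a j) * t j c := by
  classical
  have hloc : ∀ x : U, ∃ q : Γ(S, U), x.1 ∈ S.basicOpen q ∧ ∃ a, S.basicOpen q ≤ T.W a := by
    rintro ⟨x, hx⟩
    obtain ⟨a, ha⟩ := T.coverS x
    obtain ⟨q, hq, hxq⟩ := hU.exists_basicOpen_le ⟨x, ha⟩ hx
    exact ⟨q, hxq, a, hq⟩
  choose q hxq a ha using hloc
  obtain ⟨l, hl⟩ := hU.isCompact.elim_finite_subcover (fun x : U => (S.basicOpen (q x) : Set S))
    (fun x => (S.basicOpen (q x)).isOpen) (fun x hx => Set.mem_iUnion.mpr ⟨⟨x, hx⟩, hxq ⟨x, hx⟩⟩)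
  let J := Σ x : l, Fin (T.n (a x))
  have hext : ∀ p : J, ∃ (M : ℕ) (e₀ : T.Fam U), T.IsLoc e₀ ∧
      T.fres (S.basicOpen_le (q p.1)) e₀ =
        T.fsmul (rs (S.basicOpen_le (q p.1)) (q p.1 ^ M)) (T.fres (ha p.1) (T.gn (a p.1) p.2)) := fun p =>
    IsLoc.exists_extend T hU (q p.1) (T.isLoc_of_inSpan (a := a p.1) (h := ha p.1)
      ⟨Pi.single p.2 1, funext fun c => by simp [comb, fres, Pi.single_apply, apply_ite (T.base.str c _)]⟩)
  choose M t₀ ht₀ ht₀r using hext
  let eJ := Fintype.equivFin J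
  refine ⟨Fintype.card J, fun j => t₀ (eJ.symm j), fun j => ht₀ _, fun e he => ?_⟩
  let I : Ideal Γ(S, U) :=
    { carrier := {p | ∃ s : J → Γ(S, U), ∀ c, T.base.str c U p * e c = ∑ j, T.base.str c U (s j) * t₀ j c}
      zero_mem' := ⟨0, fun c => by simp⟩
      add_mem' := fun {p p'} ⟨s, hs⟩ ⟨s', hs'⟩ => ⟨s + s', fun c => by
        simp only [map_add, add_mul, hs c, hs' c, Pi.add_apply, Finset.sum_add_distrib]⟩
      smul_mem' := fun p p' ⟨s, hs⟩ => ⟨fun j => p * s j, fun c => by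
        simp only [smul_eq_mul, map_mul, mul_assoc, hs c, Finset.mul_sum]⟩ }
  suffices h : (1 : Γ(S, U)) ∈ I by
    obtain ⟨s, hs⟩ := h
    refine ⟨fun j => s (eJ.symm j), fun c => ?_⟩
    have := hs c
    rw [map_one, one_mul] at this
    rw [this, ← eJ.symm.sum_comp]
  have hspan : Ideal.span (Set.range fun x : l => q x) = ⊤ := by
    rw [← hU.self_le_iSup_basicOpen_iff]
    intro z hz
    obtain ⟨x, hx, hzx⟩ := Set.mem_iUnion₂.mp (hl hz)
    exact Opens.mem_iSup.mpr ⟨⟨q x, ⟨x, hx⟩, rfl⟩, hzx⟩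
  rw [← Ideal.eq_top_iff_one, ← Ideal.radical_eq_top, eq_top_iff, ← hspan, Ideal.span_le]
  rintro _ ⟨x, rfl⟩
  obtain ⟨b, hb⟩ := IsLoc.inSpan T (hU.basicOpen (q x)) (IsLoc.res T (S.basicOpen_le (q x)) he) (a x) (ha x)
  haveI := hU.isLocalization_basicOpen (q x)
  obtain ⟨⟨_, k, rfl⟩, hk⟩ := IsLocalization.exist_integer_multiples_of_finite
    (M := Submonoid.powers (q x)) (S := Γ(S, S.basicOpen (q x))) b
  choose b' hb' using hk
  let M' := Finset.univ.sup fun j => M ⟨x, j⟩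
  let z : T.Fam U := fun c => T.base.str c U (q x ^ (M' + k)) * e c -
    ∑ j, T.base.str c U (q x ^ (M' - M ⟨x, j⟩) * b' j) * t₀ ⟨x, j⟩ c
  have hz : T.Compat z := by
    intro c d O hc hd
    have hs : ∀ p, rs hc (T.base.str c U p) = rs hd (T.base.str d U p) := fun p => by
      rw [LinSys.str, LinSys.str, rs, rs, ← CommRingCat.comp_apply, ← CommRingCat.comp_apply,
        Scheme.Hom.appLE_map, Scheme.Hom.appLE_map]
    simp only [z, map_sub, map_sum, map_mul]
    rw [mul_sub, Finset.mul_sum, IsLoc.compat T he c d O hc hd, hs]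
    refine congrArg₂ (· - ·) (mul_left_comm _ _ _) (Finset.sum_congr rfl fun j _ => ?_)
    rw [IsLoc.compat T (ht₀ ⟨x, j⟩) c d O hc hd, hs, hs]
    ring
  obtain ⟨K, hK⟩ := T.exists_kill hU (q x) hz fun c => by
    show rs _ (_ - _) = 0
    simp only [map_sub, map_sum, map_mul]
    have h1 := congrFun hb c
    simp only [fres, comb] at h1
    rw [T.base.rs_str c (S.basicOpen_le (q x)), h1, Finset.mul_sum, ← Finset.sum_sub_distrib]
    refine Finset.sum_eq_zero fun j _ => ?_
    have h2 := congrFun (ht₀r ⟨x, j⟩) c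
    simp only [fres, fsmul] at h2
    rw [h2, T.base.rs_str c (S.basicOpen_le (q x)), T.base.rs_str c (S.basicOpen_le (q x)),
      show rs (S.basicOpen_le (q x)) (b' j) = rs (S.basicOpen_le (q x)) (q x ^ k) * b j from hb' j]
    have hp : q x ^ (M' + k) = q x ^ (M' - M ⟨x, j⟩) * q x ^ M ⟨x, j⟩ * q x ^ k := by
      rw [← pow_add, ← pow_add, Nat.sub_add_cancel (Finset.le_sup (f := fun j => M ⟨x, j⟩) (Finset.mem_univ j))]
    rw [hp]
    simp only [map_mul]
    ring
  refine ⟨K + (M' + k), fun p => if h : p.1 = x then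
    q x ^ K * (q x ^ (M' - M ⟨x, h ▸ p.2⟩) * b' (h ▸ p.2)) else 0, fun c => ?_⟩
  have h3 := hK K le_rfl c
  simp only [z, mul_sub, sub_eq_zero] at h3
  rw [pow_add, map_mul, mul_assoc, map_pow, h3, Finset.mul_sum, Fintype.sum_sigma,
    Finset.sum_eq_single x (fun y _ hy => Finset.sum_eq_zero fun j _ => by simp [hy]) (by simp)]
  refine Finset.sum_congr rfl fun j _ => ?_
  simp [mul_assoc]

/-- the linear system -/
def toLinSys : LinSys f where
  ι := T.ι
  D := T.D
  cover := T.cover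
  g := T.g
  E W := {e | T.IsLoc (V := W) e}
  res h _ he := IsLoc.res T h he
  compat e he c d O hc hd := by
    have := IsLoc.compat T he c d O hc hd
    rw [pow_one] at this
    exact this
  gens {U} hU := by
    obtain ⟨n, t, ht, hspan⟩ := T.exists_gens hU
    refine ⟨n, t, ht, fun r e he => ?_⟩
    obtain ⟨M, e₀, he₀, he₀r⟩ := IsLoc.exists_extend T hU r he
    obtain ⟨a, ha⟩ := hspan e₀ he₀
    refine ⟨M, a, fun c => ?_⟩
    have h1 := congrFun he₀r c
    simp only [fres, fsmul] at h1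
    let e' : T.Fam (S.basicOpen r) := e
    have h2 : rs (T.base.pc_mono c (S.basicOpen_le r)) (T.base.str c U (r ^ M)) * e' c =
        ∑ j, rs (T.base.pc_mono c (S.basicOpen_le r)) (T.base.str c U (a j) * t j c) := by
      rw [T.base.rs_str c (S.basicOpen_le r), ← h1, ha c, map_sum]
    exact h2

lemma mem_E {W : S.Opens} (e : T.Fam W) : e ∈ T.toLinSys.E W ↔ T.IsLoc e := Iff.rfl

lemma t_mem_E (a : T.κ) (j : Fin (T.n a)) : T.gn a j ∈ T.toLinSys.E (T.W a) :=
  T.isLoc_of_inSpan (a := a) (h := le_rfl)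
    ⟨Pi.single j 1, funext fun c => by simp [comb, fres, rs_refl, Pi.single_apply, apply_ite (T.base.str c _)]⟩

lemma comb_mem_E {a : T.κ} {V : S.Opens} (h : V ≤ T.W a) (r : Fin (T.n a) → Γ(S, V)) :
    T.comb a h r ∈ T.toLinSys.E V :=
  T.isLoc_of_inSpan ⟨r, rfl⟩

end LocData

end LinSysLib

end
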