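import Groth.Agent.LinSysLib.Proj
import Groth.Agent.LinSysLib.Local

/-!
# Goodness of a linear system is local on the base; checking it on generators
-/

set_option autoImplicit false
universe u

open CategoryTheory CategoryTheory.Limits AlgebraicGeometry TopologicalSpace Opposite

noncomputable section

namespace LinSysLib.LinSys

variable {X S : Scheme.{u}} {f : X ⟶ S} (L : LinSys f) {U : S.Opens}

/-- goodness at one point over one open -/
def GoodPt (U : S.Opens) (y : X) : Prop :=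
  ∃ e : L.alg U, e ∈ L.deg U 1 ∧ y ∈ L.loc U 1 e ∧ IsAffineOpen (L.loc U 1 e) ∧ L.Gen U e

lemma isUnit_coeff_basicOpen (s : L.alg U) (d : ℕ) (c : L.ι) :
    IsUnit (rs (X.basicOpen_le (PowerSeries.coeff d (s.1 c))) (PowerSeries.coeff d (s.1 c))) :=
  RingedSpace.isUnit_res_basicOpen X.toRingedSpace _

lemma loc_sub (d : ℕ) (s : L.alg U) (c : L.ι) : X.basicOpen (PowerSeries.coeff d (s.1 c)) ≤ L.loc U d s :=
  le_iSup (fun c => X.basicOpen (PowerSeries.coeff d (s.1 c))) c

/-- functions on the locus given by sections of the algebra -/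
def genRing {e : L.alg U} (he : e ∈ L.deg U 1) : Subring Γ(X, L.loc U 1 e) where
  carrier := {h | ∃ (k : ℕ) (s : L.alg U), s ∈ L.deg U k ∧ ∀ c,
    rs (L.loc_sub 1 e c) h *
        rs (X.basicOpen_le _) (PowerSeries.coeff 1 (e.1 c)) ^ k =
      rs (X.basicOpen_le _) (PowerSeries.coeff k (s.1 c))}
  zero_mem' := ⟨0, 0, zero_mem _, fun c => by simp⟩
  one_mem' := ⟨0, 1, L.deg_one_mem U, fun c => by simp [PowerSeries.coeff_one]⟩
  add_mem' := by
    rintro h h' ⟨k, s, hs, hk⟩ ⟨k', s', hs', hk'⟩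
    refine ⟨k + k', s * e ^ k' + s' * e ^ k, ?_, fun c => ?_⟩
    · refine add_mem ?_ ?_
      · exact SetLike.mul_mem_graded hs (by simpa using SetLike.pow_mem_graded k' he)
      · rw [add_comm k k']
        exact SetLike.mul_mem_graded hs' (by simpa using SetLike.pow_mem_graded k he)
    · have hcoe : ∀ (a b : L.alg U) (i j : ℕ), a ∈ L.deg U i → b ∈ L.deg U j →
          PowerSeries.coeff (i + j) ((a * b).1 c) = PowerSeries.coeff i (a.1 c) * PowerSeries.coeff j (b.1 c) := by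
        intro a b i j ha hb
        rw [Subring.coe_mul, Pi.mul_apply, PowerSeries.coeff_mul, Finset.sum_eq_single (i, j)]
        · intro p hp hne
          rw [Finset.HasAntidiagonal.mem_antidiagonal] at hp
          by_cases h1 : p.1 = i
          · exact absurd (Prod.ext h1 (by omega)) hne
          · rw [ha c p.1 h1, zero_mul]
        · exact fun hne => absurd ((Finset.HasAntidiagonal.mem_antidiagonal (A := ℕ)).mpr rfl) hne
      have hpow : ∀ j, PowerSeries.coeff j ((e ^ j).1 c) = PowerSeries.coeff 1 (e.1 c) ^ j := by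
        intro j
        induction j with
        | zero => simp
        | succ j ih => rw [pow_succ, hcoe _ _ j 1 (by simpa using SetLike.pow_mem_graded j he) he, ih, pow_succ]
      simp only [Subring.coe_add, Pi.add_apply, map_add]
      rw [hcoe s (e ^ k') k k' hs (by simpa using SetLike.pow_mem_graded k' he), add_comm k k',
        hcoe s' (e ^ k) k' k hs' (by simpa using SetLike.pow_mem_graded k he), hpow, hpow]
      simp only [map_add, map_mul, map_pow, pow_add, ← hk c, ← hk' c]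
      ring
  mul_mem' := by
    rintro h h' ⟨k, s, hs, hk⟩ ⟨k', s', hs', hk'⟩
    refine ⟨k + k', s * s', SetLike.mul_mem_graded hs hs', fun c => ?_⟩
    rw [Subring.coe_mul, Pi.mul_apply, PowerSeries.coeff_mul, Finset.sum_eq_single (k, k')]
    · simp only [map_mul, pow_add, ← hk c, ← hk' c]
      ring
    · intro p hp hne
      rw [Finset.HasAntidiagonal.mem_antidiagonal] at hp
      by_cases h1 : p.1 = k
      · exact absurd (Prod.ext h1 (by omega)) hne
      · rw [hs c p.1 h1, zero_mul]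
    · exact fun hne => absurd ((Finset.HasAntidiagonal.mem_antidiagonal (A := ℕ)).mpr rfl) hne
  neg_mem' := by
    rintro h ⟨k, s, hs, hk⟩
    refine ⟨k, -s, neg_mem hs, fun c => ?_⟩
    rw [NegMemClass.coe_neg, Pi.neg_apply]
    simp only [map_neg, neg_mul, hk c]

lemma str_mem_genRing {e : L.alg U} (he : e ∈ L.deg U 1) (r : Γ(S, U)) :
    (f.appLE U (L.loc U 1 e) (L.loc_le 1 e)).hom r ∈ L.genRing he := by
  refine ⟨0, L.algStr U r, fun c k hk => ?_, fun c => ?_⟩
  · rw [algStr_coe, ambStr_apply, PowerSeries.coeff_C, if_neg hk]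
  · rw [algStr_coe, ambStr_apply, PowerSeries.coeff_C, if_pos rfl, pow_zero, mul_one, str, rs, rs,
      ← CommRingCat.comp_apply, ← CommRingCat.comp_apply, Scheme.Hom.appLE_map, Scheme.Hom.appLE_map]

/-- the functions on the locus come from the algebra if generators do -/
theorem gen_of_generators {e : L.alg U} (he : e ∈ L.deg U 1) (G : Set Γ(X, L.loc U 1 e))
    (hgen : Subring.closure (Set.range (f.appLE U (L.loc U 1 e) (L.loc_le 1 e)).hom ∪ G) = ⊤)
    (hG : ∀ h ∈ G, h ∈ L.genRing he) : L.Gen U e := by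
  intro h
  have hle : Subring.closure (Set.range (f.appLE U (L.loc U 1 e) (L.loc_le 1 e)).hom ∪ G) ≤ L.genRing he := by
    refine Subring.closure_le.mpr (Set.union_subset ?_ hG)
    rintro _ ⟨r, rfl⟩
    exact L.str_mem_genRing he r
  exact hle (hgen ▸ Subring.mem_top h)

variable (hU : IsAffineOpen U)

lemma loc_res {V : S.Opens} (i : V ≤ U) (d : ℕ) (s : L.alg U) :
    L.loc V d (L.algRes i s) = L.loc U d s ⊓ f ⁻¹ᵁ V := by
  refine TopologicalSpace.Opens.ext (Set.ext fun y => ?_)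
  constructor
  · intro h
    obtain ⟨c, hc⟩ := Opens.mem_iSup.mp h
    rw [algRes_coe, L.coeff_ambRes, Scheme.basicOpen_res] at hc
    exact ⟨Opens.mem_iSup.mpr ⟨c, hc.2⟩, L.pc_le_preimage c V hc.1⟩
  · rintro ⟨h1, h2⟩
    obtain ⟨c, hc⟩ := Opens.mem_iSup.mp h1
    refine Opens.mem_iSup.mpr ⟨c, ?_⟩
    rw [algRes_coe, L.coeff_ambRes, Scheme.basicOpen_res]
    exact ⟨⟨L.pc_le c U (X.basicOpen_le _ hc), h2⟩, hc⟩

include hU in
theorem GoodPt.restrict (r : Γ(S, U)) {y : X} (h : L.GoodPt U y) (hy : f y ∈ S.basicOpen r) :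
    L.GoodPt (S.basicOpen r) y := by
  obtain ⟨e, he, hye, ha, hgen⟩ := h
  let e' := L.algRes (S.basicOpen_le r) e
  have he' : e' ∈ L.deg (S.basicOpen r) 1 := fun c k hk => by
    rw [algRes_coe, L.coeff_ambRes, he c k hk, map_zero]
  let g := (f.appLE U (L.loc U 1 e) (L.loc_le 1 e)).hom r
  have hloc : L.loc (S.basicOpen r) 1 e' = X.basicOpen g := by
    rw [L.loc_res, Scheme.basicOpen_appLE]
  refine ⟨e', he', ?_, hloc ▸ ha.basicOpen g, fun h => ?_⟩
  · rw [L.loc_res]; exact ⟨hye, hy⟩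
  haveI := ha.isLocalization_basicOpen g
  obtain ⟨⟨h₀, _, N, rfl⟩, hN⟩ := IsLocalization.surj (Submonoid.powers g) (rs hloc.ge h)
  obtain ⟨k, s, hs, hks0⟩ := hgen h₀
  have hks : ∀ c, rs (L.loc_sub 1 e c) h₀ * rs (X.basicOpen_le _) (PowerSeries.coeff 1 (e.1 c)) ^ k =
      rs (X.basicOpen_le _) (PowerSeries.coeff k (s.1 c)) := hks0
  haveI := hU.isLocalization_basicOpen r
  obtain ⟨v, hv⟩ : ∃ v : Γ(S, S.basicOpen r), v * rs (S.basicOpen_le r) r = 1 :=
    (RingedSpace.isUnit_res_basicOpen S.toRingedSpace r).exists_left_inv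
  refine ⟨k, L.algStr _ (v ^ N) * L.algRes (S.basicOpen_le r) s, ?_, fun c => ?_⟩
  rotate_left
  show rs (L.loc_sub 1 e' c) h * _ = _
  rotate_left
  · have h1 : L.algStr (S.basicOpen r) (v ^ N) ∈ L.deg (S.basicOpen r) 0 := fun c k hk => by
      rw [algStr_coe, ambStr_apply, PowerSeries.coeff_C, if_neg hk]
    have h2 : L.algRes (S.basicOpen_le r) s ∈ L.deg (S.basicOpen r) k := fun c j hj => by
      rw [algRes_coe, L.coeff_ambRes, hs c j hj, map_zero]
    simpa using SetLike.mul_mem_graded h1 h2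
  let B := X.basicOpen (PowerSeries.coeff 1 (e.1 c))
  let B' := X.basicOpen (PowerSeries.coeff 1 (e'.1 c))
  have hB' : B' ≤ L.pc c (S.basicOpen r) := X.basicOpen_le _
  have hBB : B' ≤ B := by
    simp only [B', e', algRes_coe, coeff_ambRes, Scheme.basicOpen_res]
    exact inf_le_right
  have hBg : B' ≤ X.basicOpen g := (L.loc_sub 1 e' c).trans hloc.le
  have h3 := congrArg (rs hBg) hN
  have h4 := congrArg (rs hBB) (hks c)
  simp only [map_mul, map_pow, rs_rs, RingHom.algebraMap_toAlgebra] at h3 h4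
  have he1 : rs hB' (PowerSeries.coeff 1 (e'.1 c)) =
      rs (hBB.trans (X.basicOpen_le _)) (PowerSeries.coeff 1 (e.1 c)) := by
    rw [show PowerSeries.coeff 1 (e'.1 c) = rs (L.pc_mono c (S.basicOpen_le r)) (PowerSeries.coeff 1 (e.1 c)) from
      L.coeff_ambRes (S.basicOpen_le r) e.1 c 1, rs_rs]
  have hs1 : rs hB' (PowerSeries.coeff k ((L.algStr (S.basicOpen r) (v ^ N) * L.algRes (S.basicOpen_le r) s).1 c)) =
      rs hB' (L.str c (S.basicOpen r) v) ^ N * rs (hBB.trans (X.basicOpen_le _)) (PowerSeries.coeff k (s.1 c)) := by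
    rw [Subring.coe_mul, algStr_coe, Pi.mul_apply, ambStr_apply, PowerSeries.coeff_C_mul, map_mul, map_pow, map_pow,
      algRes_coe, L.coeff_ambRes (S.basicOpen_le r), rs_rs]
  show rs (L.loc_sub 1 e' c) h * rs hB' (PowerSeries.coeff 1 (e'.1 c)) ^ k = rs hB' _
  rw [he1, hs1]
  have hstr : ∀ x : Γ(S, S.basicOpen r), rs hB' (L.str c (S.basicOpen r) x) =
      (f.appLE (S.basicOpen r) B' (hB'.trans (L.pc_le_preimage c _))).hom x := by
    intro x
    rw [str, rs, ← CommRingCat.comp_apply, Scheme.Hom.appLE_map]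
  have hg : rs (hBg.trans (X.basicOpen_le g)) g =
      rs hB' (L.str c (S.basicOpen r) (rs (S.basicOpen_le r) r)) := by
    rw [hstr, rs, rs, ← CommRingCat.comp_apply, ← CommRingCat.comp_apply, Scheme.Hom.appLE_map,
      Scheme.Hom.map_appLE]
  rw [← h4]
  set H := rs (L.loc_sub 1 e' c) h
  have h5 : H * rs hB' (L.str c (S.basicOpen r) (rs (S.basicOpen_le r) r)) ^ N =
      rs (hBg.trans (X.basicOpen_le g)) h₀ := by
    rw [← hg]
    refine Eq.trans ?_ h3
    simp only [H, map_pow, rs_rs]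
  have h6 : (rs hB' (L.str c (S.basicOpen r) v)) * rs hB' (L.str c (S.basicOpen r) (rs (S.basicOpen_le r) r)) = 1 := by
    rw [← map_mul, ← map_mul, show v * rs (S.basicOpen_le r) r = 1 from hv, map_one, map_one]
  rw [← h5]
  linear_combination (-1 : Γ(X, B')) * H *
    rs (hBB.trans (X.basicOpen_le _)) (PowerSeries.coeff 1 (e.1 c)) ^ k *
      ((congrArg (· ^ N) h6).trans (one_pow N))

include hU in
lemma exists_deg_lift [QuasiCompact f] (r : Γ(S, U)) {k : ℕ} {s : L.alg (S.basicOpen r)}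
    (hs : s ∈ L.deg (S.basicOpen r) k) :
    ∃ (m : ℕ) (s₀ : L.alg U), s₀ ∈ L.deg U k ∧ ∀ c,
      rs (L.pc_mono c (S.basicOpen_le r)) (PowerSeries.coeff k (s₀.1 c)) =
        rs (L.pc_mono c (S.basicOpen_le r)) (L.str c U (r ^ m)) * PowerSeries.coeff k (s.1 c) := by
  obtain ⟨P, hP⟩ := L.Φalg_surjective (hU.basicOpen r) s
  obtain ⟨m, Q, hQ⟩ := L.exists_Φ_of_gen hU r (s := s.1) (by rw [← hP]; exact L.Φ_mem_gen _ P)
  refine ⟨m, L.Φalg hU (MvPolynomial.homogeneousComponent k Q),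
    L.Φalg_mem_deg hU (MvPolynomial.homogeneousComponent_isHomogeneous k Q), fun c => ?_⟩
  have h := congrArg (fun z : L.Amb (S.basicOpen r) => PowerSeries.coeff k (z c)) hQ
  simp only [coeff_ambRes, Pi.mul_apply, ambRes_str, ambStr_apply, PowerSeries.coeff_C_mul] at h
  rw [Φalg_coe, coeff_Φ, MvPolynomial.homogeneousComponent_of_mem
    (MvPolynomial.homogeneousComponent_isHomogeneous k Q), if_pos rfl, ← coeff_Φ, h, L.rs_str c]

include hU in
theorem GoodPt.extend [QuasiCompact f] (r : Γ(S, U)) {y : X} (h : L.GoodPt (S.basicOpen r) y) :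
    L.GoodPt U y := by
  obtain ⟨e, he, hye, ha, hgen⟩ := h
  obtain ⟨m, e₀, he₀, hm⟩ := L.exists_deg_lift hU r he
  let t := L.algStr U r * e₀
  have hr0 : ∀ q : Γ(S, U), L.algStr U q ∈ L.deg U 0 := fun q c k hk => by
    rw [algStr_coe, ambStr_apply, PowerSeries.coeff_C, if_neg hk]
  have ht : t ∈ L.deg U 1 := by simpa using SetLike.mul_mem_graded (hr0 r) he₀
  have htc : ∀ c, PowerSeries.coeff 1 (t.1 c) = L.str c U r * PowerSeries.coeff 1 (e₀.1 c) := fun c => by
    simp only [t, Subring.coe_mul, algStr_coe, Pi.mul_apply, ambStr_apply, PowerSeries.coeff_C_mul]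
  have hu : ∀ c, IsUnit (rs (L.pc_mono c (S.basicOpen_le r)) (L.str c U r)) := fun c => by
    rw [L.rs_str c]
    exact (RingedSpace.isUnit_res_basicOpen S.toRingedSpace r).map _
  have hbo : ∀ c, X.basicOpen (PowerSeries.coeff 1 (t.1 c)) = X.basicOpen (PowerSeries.coeff 1 (e.1 c)) := by
    intro c
    have h1 : X.basicOpen (L.str c U r) = L.pc c (S.basicOpen r) := by
      rw [str, Scheme.basicOpen_appLE]
      ext w
      exact ⟨fun hw => ⟨hw.1.1, hw.2⟩, fun hw => ⟨⟨hw.1, f.preimage_mono (S.basicOpen_le r) hw.2⟩, hw.2⟩⟩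
    have h2 : L.pc c (S.basicOpen r) ⊓ X.basicOpen (PowerSeries.coeff 1 (e₀.1 c)) =
        X.basicOpen (rs (L.pc_mono c (S.basicOpen_le r)) (PowerSeries.coeff 1 (e₀.1 c))) :=
      (Scheme.basicOpen_res X _ (homOfLE (L.pc_mono c (S.basicOpen_le r))).op).symm
    rw [htc, Scheme.basicOpen_mul, h1, h2, hm, Scheme.basicOpen_mul, map_pow, map_pow,
      X.basicOpen_of_isUnit ((hu c).pow m), inf_eq_right.mpr (X.basicOpen_le _)]
  have hloc : L.loc U 1 t = L.loc (S.basicOpen r) 1 e := iSup_congr hbo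
  refine ⟨t, ht, hloc ▸ hye, hloc ▸ ha, fun h => ?_⟩
  obtain ⟨k, s, hs, hks0⟩ := hgen (rs hloc.ge h)
  have hks : ∀ c, rs (L.loc_sub 1 e c) (rs hloc.ge h) * rs (X.basicOpen_le _) (PowerSeries.coeff 1 (e.1 c)) ^ k =
      rs (X.basicOpen_le _) (PowerSeries.coeff k (s.1 c)) := hks0
  obtain ⟨n, s₀, hs₀, hn⟩ := L.exists_deg_lift hU r hs
  refine ⟨k + n, L.algStr U (r ^ ((m + 1) * k)) * (s₀ * e₀ ^ n), ?_, fun c => ?_⟩
  · have h1 : s₀ * e₀ ^ n ∈ L.deg U (k + n) :=
      SetLike.mul_mem_graded hs₀ (by simpa using SetLike.pow_mem_graded n he₀)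
    simpa using SetLike.mul_mem_graded (hr0 (r ^ ((m + 1) * k))) h1
  have hpow : ∀ j, PowerSeries.coeff j ((e₀ ^ j).1 c) = PowerSeries.coeff 1 (e₀.1 c) ^ j := by
    intro j
    rw [← L.ev_of_mem hU c (by simpa using SetLike.pow_mem_graded j he₀ : e₀ ^ j ∈ L.deg U j), map_pow,
      L.ev_of_mem hU c he₀]
  have hsc : PowerSeries.coeff (k + n) ((L.algStr U (r ^ ((m + 1) * k)) * (s₀ * e₀ ^ n)).1 c) =
      L.str c U (r ^ ((m + 1) * k)) * (PowerSeries.coeff k (s₀.1 c) * PowerSeries.coeff 1 (e₀.1 c) ^ n) := by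
    rw [Subring.coe_mul, algStr_coe, Pi.mul_apply, ambStr_apply, PowerSeries.coeff_C_mul]
    refine congrArg _ ?_
    have h1 : s₀ * e₀ ^ n ∈ L.deg U (k + n) :=
      SetLike.mul_mem_graded hs₀ (by simpa using SetLike.pow_mem_graded n he₀)
    rw [← L.ev_of_mem hU c h1, map_mul, map_pow, L.ev_of_mem hU c hs₀, L.ev_of_mem hU c he₀]
  let B := X.basicOpen (PowerSeries.coeff 1 (t.1 c))
  have hBe : B ≤ X.basicOpen (PowerSeries.coeff 1 (e.1 c)) := (hbo c).le
  have hBV : B ≤ L.pc c (S.basicOpen r) := hBe.trans (X.basicOpen_le _)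
  have hBU : B ≤ L.pc c U := X.basicOpen_le _
  have h4 := congrArg (rs hBe) (hks c)
  have h5 := congrArg (rs hBV) (hm c)
  have h6 := congrArg (rs hBV) (hn c)
  simp only [map_mul, map_pow, rs_rs] at h4 h5 h6
  show rs (L.loc_sub 1 t c) h * rs hBU (PowerSeries.coeff 1 (t.1 c)) ^ (k + n) = rs hBU _
  have htc' : rs hBU (PowerSeries.coeff 1 (t.1 c)) = rs hBU (L.str c U r) * rs hBU (PowerSeries.coeff 1 (e₀.1 c)) :=
    (congrArg (rs hBU) (htc c)).trans (map_mul _ _ _)
  rw [hsc, htc']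
  simp only [map_mul, map_pow]
  rw [h5, h6, ← h4]
  ring

theorem isGood_of_local [QuasiCompact f]
    (h : ∀ y : X, ∃ W : S.Opens, IsAffineOpen W ∧ f y ∈ W ∧ L.GoodPt W y) : L.IsGood := by
  intro U hU y hy
  obtain ⟨W, hW, hyW, hg⟩ := h y
  obtain ⟨r, r', hrr, hyr⟩ := exists_basicOpen_le_affine_inter hU hW (f y) ⟨hy, hyW⟩
  have h1 := GoodPt.restrict L hW r' hg (hrr ▸ hyr)
  rw [← hrr] at h1
  exact GoodPt.extend L hU r h1

end LinSysLib.LinSys

end
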