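import Groth.Agent.LinSysLib.Amb

/-!
# The coordinate algebra of a linear system is a quasi-coherent graded algebra
-/

set_option autoImplicit false
universe u

open CategoryTheory CategoryTheory.Limits AlgebraicGeometry TopologicalSpace Opposite

noncomputable section

namespace LinSysLib.LinSys

variable {X S : Scheme.{u}} {f : X ⟶ S} (L : LinSys f) {U : S.Opens} (hU : IsAffineOpen U)

/-- the number of generators over an affine open -/
def nGen : ℕ := (L.gens hU).choose

/-- the generators over an affine open -/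
def tGen : Fin (L.nGen hU) → ∀ c : L.ι, Γ(X, L.pc c U) := (L.gens hU).choose_spec.choose

lemma tGen_mem (j : Fin (L.nGen hU)) : L.tGen hU j ∈ L.E U := (L.gens hU).choose_spec.choose_spec.1 j

lemma tGen_span (r : Γ(S, U)) (e : ∀ c : L.ι, Γ(X, L.pc c (S.basicOpen r))) (he : e ∈ L.E (S.basicOpen r)) :
    ∃ (m : ℕ) (a : Fin (L.nGen hU) → Γ(S, U)), ∀ c,
      rs (L.pc_mono c (S.basicOpen_le r)) (L.str c U (r ^ m)) * e c =
        ∑ j, rs (L.pc_mono c (S.basicOpen_le r)) (L.str c U (a j) * L.tGen hU j c) :=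
  (L.gens hU).choose_spec.choose_spec.2 r e he

/-- polynomials in the generators -/
def Φ : MvPolynomial (Fin (L.nGen hU)) Γ(S, U) →+* L.Amb U :=
  MvPolynomial.eval₂Hom (L.ambStr U) (fun j => L.mon (L.tGen hU j))

/-- evaluation of polynomials on a piece -/
def evalC (c : L.ι) : MvPolynomial (Fin (L.nGen hU)) Γ(S, U) →+* Γ(X, L.pc c U) :=
  MvPolynomial.eval₂Hom (L.str c U) (fun j => L.tGen hU j c)

lemma Φ_C (r : Γ(S, U)) : L.Φ hU (MvPolynomial.C r) = L.ambStr U r := MvPolynomial.eval₂Hom_C _ _ _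

lemma Φ_X (j : Fin (L.nGen hU)) : L.Φ hU (MvPolynomial.X j) = L.mon (L.tGen hU j) :=
  MvPolynomial.eval₂Hom_X' _ _ _

lemma evalC_C (c : L.ι) (r : Γ(S, U)) : L.evalC hU c (MvPolynomial.C r) = L.str c U r :=
  MvPolynomial.eval₂Hom_C _ _ _

lemma evalC_X (c : L.ι) (j : Fin (L.nGen hU)) : L.evalC hU c (MvPolynomial.X j) = L.tGen hU j c :=
  MvPolynomial.eval₂Hom_X' _ _ _

lemma coeff_Φ (P : MvPolynomial (Fin (L.nGen hU)) Γ(S, U)) (c : L.ι) (k : ℕ) :
    PowerSeries.coeff k (L.Φ hU P c) = L.evalC hU c (MvPolynomial.homogeneousComponent k P) := by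
  classical
  induction P using MvPolynomial.induction_on' with
  | monomial d r =>
    have h : L.Φ hU (MvPolynomial.monomial d r) c =
        PowerSeries.C (L.str c U r * d.prod fun j e => L.tGen hU j c ^ e) * PowerSeries.X ^ d.degree := by
      simp only [Φ, MvPolynomial.eval₂Hom_monomial, Pi.mul_apply, ambStr_apply, Finsupp.prod, Finset.prod_apply,
        Pi.pow_apply, mon, mul_pow, Finset.prod_mul_distrib, map_mul, map_prod, map_pow,
        Finset.prod_pow_eq_pow_sum, Finsupp.degree_apply, mul_assoc]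
    rw [h, PowerSeries.coeff_C_mul_X_pow]
    have hm : MvPolynomial.homogeneousComponent k (MvPolynomial.monomial d r) =
        if k = d.degree then MvPolynomial.monomial d r else 0 :=
      MvPolynomial.homogeneousComponent_of_mem
        (MvPolynomial.isHomogeneous_monomial r (rfl : d.degree = d.degree))
    rw [hm]
    split_ifs with hk
    · simp [evalC, MvPolynomial.eval₂Hom_monomial]
    · simp
  | add p q hp hq => simp [hp, hq]

/-- degrees of `s` are below `N` -/
def DegLT {W : S.Opens} (s : L.Amb W) (N : ℕ) : Prop :=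
  ∀ c k, N ≤ k → PowerSeries.coeff k (s c) = 0

lemma degLT_Φ (P : MvPolynomial (Fin (L.nGen hU)) Γ(S, U)) : L.DegLT (L.Φ hU P) (P.totalDegree + 1) :=
  fun c k hk => by rw [L.coeff_Φ, MvPolynomial.homogeneousComponent_eq_zero _ _ (by omega), map_zero]

lemma Φ_mem_gen (P : MvPolynomial (Fin (L.nGen hU)) Γ(S, U)) : L.Φ hU P ∈ L.gen U := by
  induction P using MvPolynomial.induction_on with
  | C r => rw [Φ_C]; exact Subring.subset_closure (Or.inl ⟨r, rfl⟩)
  | add p q hp hq => rw [map_add]; exact add_mem hp hq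
  | mul_X p j hp =>
    rw [map_mul, Φ_X]
    exact mul_mem hp (Subring.subset_closure (Or.inr ⟨_, L.tGen_mem hU j, rfl⟩))

/-- over a basic open the generated subring consists of the fractions of polynomials -/
lemma exists_Φ_of_gen (r : Γ(S, U)) {s : L.Amb (S.basicOpen r)} (hs : s ∈ L.gen (S.basicOpen r)) :
    ∃ (m : ℕ) (P : MvPolynomial (Fin (L.nGen hU)) Γ(S, U)),
      L.ambRes (S.basicOpen_le r) (L.Φ hU P) = L.ambRes (S.basicOpen_le r) (L.ambStr U (r ^ m)) * s := by
  induction hs using Subring.closure_induction with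
  | mem x hx =>
    rcases hx with ⟨a, rfl⟩ | ⟨e, he, rfl⟩
    · haveI := hU.isLocalization_basicOpen r
      obtain ⟨⟨b, _, m, rfl⟩, h⟩ := IsLocalization.surj (Submonoid.powers r) a
      refine ⟨m, MvPolynomial.C b, ?_⟩
      rw [Φ_C, ambRes_str, ambRes_str, ← map_mul, mul_comm]
      exact congrArg _ h.symm
    · obtain ⟨m, a, ha⟩ := L.tGen_span hU r e he
      refine ⟨m, ∑ j, MvPolynomial.C (a j) * MvPolynomial.X j, L.amb_ext fun c k => ?_⟩
      simp only [map_sum, map_mul, Φ_C, Φ_X, Finset.sum_apply, Pi.mul_apply, ambRes_str, ambRes_mon,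
        ambStr_apply, coeff_ambRes, PowerSeries.coeff_C_mul, coeff_mon, ← L.rs_str c (S.basicOpen_le r)]
      by_cases hk : k = 1
      · subst hk
        simp only [if_true]
        rw [ha c, ]
        simp only [map_mul]
      · simp [hk]
  | zero => exact ⟨0, 0, by simp⟩
  | one => exact ⟨0, 1, by simp⟩
  | add x y _ _ hx hy =>
    obtain ⟨m, P, hP⟩ := hx
    obtain ⟨m', Q, hQ⟩ := hy
    refine ⟨m + m', MvPolynomial.C (r ^ m') * P + MvPolynomial.C (r ^ m) * Q, ?_⟩
    simp only [map_add, map_mul, Φ_C, hP, hQ, pow_add]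
    ring
  | neg x _ hx =>
    obtain ⟨m, P, hP⟩ := hx
    exact ⟨m, -P, by rw [map_neg, map_neg, hP, mul_neg]⟩
  | mul x y _ _ hx hy =>
    obtain ⟨m, P, hP⟩ := hx
    obtain ⟨m', Q, hQ⟩ := hy
    refine ⟨m + m', P * Q, ?_⟩
    simp only [map_mul, hP, hQ, pow_add]
    ring

include hU in
/-- what vanishes where the functions `u` are invertible is killed by a power of `u` -/
lemma exists_pow_mul_eq_zero [QuasiCompact f] {j k : ℕ} (u s : ∀ c, Γ(X, L.pc c U))
    (hu : ∀ (c d : L.ι) (O : X.Opens) (hc : O ≤ L.pc c U) (hd : O ≤ L.pc d U),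
      rs hc (u c) = L.tf c d (hc.trans (L.pc_le c U)) (hd.trans (L.pc_le d U)) ^ j * rs hd (u d))
    (hs : ∀ (c d : L.ι) (O : X.Opens) (hc : O ≤ L.pc c U) (hd : O ≤ L.pc d U),
      rs hc (s c) = L.tf c d (hc.trans (L.pc_le c U)) (hd.trans (L.pc_le d U)) ^ k * rs hd (s d))
    (h : ∀ c, rs (X.basicOpen_le (u c)) (s c) = 0) :
    ∃ m, ∀ m', m ≤ m' → ∀ c, u c ^ m' * s c = 0 := by
  classical
  have hc : ∀ y : (f ⁻¹ᵁ U : X.Opens), ∃ (W : X.Opens) (c : L.ι), IsAffineOpen W ∧ y.1 ∈ W ∧ W ≤ L.pc c U := by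
    intro y
    obtain ⟨c, hc⟩ := L.exists_mem_pc (W := U) y.2
    obtain ⟨W, hW, hyW, hWc⟩ := Opens.isBasis_iff_nbhd.mp X.isBasis_affineOpens hc
    exact ⟨W, c, hW, hyW, hWc⟩
  choose W d hW hyW hWd using hc
  obtain ⟨t, ht⟩ := (f.isCompact_preimage hU.isCompact).elim_finite_subcover (fun y => (W y : Set X))
    (fun y => (W y).isOpen) (fun y hy => Set.mem_iUnion.mpr ⟨⟨y, hy⟩, hyW ⟨y, hy⟩⟩)
  have hm : ∀ y, ∃ m, rs (hWd y) (u (d y)) ^ m * rs (hWd y) (s (d y)) = 0 := by
    intro y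
    haveI := (hW y).isLocalization_basicOpen (rs (hWd y) (u (d y)))
    have hb : X.basicOpen (rs (hWd y) (u (d y))) ≤ X.basicOpen (u (d y)) :=
      (Scheme.basicOpen_res X (u (d y)) (homOfLE (hWd y)).op).le.trans inf_le_right
    have h0 : rs (X.basicOpen_le (rs (hWd y) (u (d y)))) (rs (hWd y) (s (d y))) = 0 := by
      rw [rs_rs, ← rs_rs hb (X.basicOpen_le _), h, map_zero]
    obtain ⟨⟨_, m, rfl⟩, hm⟩ :=
      (IsLocalization.map_eq_zero_iff (Submonoid.powers (rs (hWd y) (u (d y)))) Γ(X, X.basicOpen (rs (hWd y) (u (d y))))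
        (rs (hWd y) (s (d y)))).mp h0
    exact ⟨m, hm⟩
  choose m hm using hm
  refine ⟨t.sup m, fun m' hm' c => eq_zero_of_germ fun y hy => ?_⟩
  obtain ⟨z, hz, hyz⟩ := Set.mem_iUnion₂.mp (ht (L.pc_le_preimage c U hy))
  have hO : y ∈ W z ⊓ L.pc c U := ⟨hyz, hy⟩
  rw [← germ_rs (inf_le_right : W z ⊓ L.pc c U ≤ _) _ y hO, map_mul, map_pow,
    hu c (d z) _ inf_le_right (inf_le_left.trans (hWd z)), hs c (d z) _ inf_le_right (inf_le_left.trans (hWd z))]
  obtain ⟨e, rfl⟩ := Nat.exists_eq_add_of_le ((Finset.le_sup (f := m) hz).trans hm')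
  have h1 : rs (inf_le_left.trans (hWd z) : W z ⊓ L.pc c U ≤ _) (u (d z)) ^ m z *
      rs (inf_le_left.trans (hWd z) : W z ⊓ L.pc c U ≤ _) (s (d z)) = 0 := by
    rw [← rs_rs inf_le_left (hWd z), ← rs_rs inf_le_left (hWd z), ← map_pow, ← map_mul, hm z, map_zero]
  rw [mul_pow, pow_add (rs _ (u (d z))) (m z) e,
    show ∀ A B C P Q : Γ(X, W z ⊓ L.pc c U), (A * (B * C)) * (P * Q) = A * C * P * (B * Q) from
      fun _ _ _ _ _ => by ring, h1, mul_zero, map_zero]

include hU in
/-- over an affine open the sections are the polynomials in the generators -/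
theorem alg_le_range [QuasiCompact f] {s : L.Amb U} (hs : s ∈ L.alg U) : s ∈ (L.Φ hU).range := by
  classical
  have hloc : ∀ x : U, ∃ (r : Γ(S, U)), x.1 ∈ S.basicOpen r ∧ ∃ (m : ℕ) (P : MvPolynomial (Fin (L.nGen hU)) Γ(S, U)),
      L.ambRes (S.basicOpen_le r) (L.Φ hU P) =
        L.ambRes (S.basicOpen_le r) (L.ambStr U (r ^ m) * s) := by
    rintro ⟨x, hx⟩
    obtain ⟨V, hV, hxV, hgen⟩ := hs x hx
    obtain ⟨r, hrV, hxr⟩ := hU.exists_basicOpen_le ⟨x, hxV⟩ hx
    obtain ⟨m, P, hP⟩ := L.exists_Φ_of_gen hU r (L.ambRes_gen hrV hgen)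
    exact ⟨r, hxr, m, P, by rw [map_mul, hP, L.ambRes_ambRes]⟩
  choose r hxr e P hP using hloc
  obtain ⟨t, ht⟩ := hU.isCompact.elim_finite_subcover (fun x : U => (S.basicOpen (r x) : Set S))
    (fun x => (S.basicOpen (r x)).isOpen) (fun x hx => Set.mem_iUnion.mpr ⟨⟨x, hx⟩, hxr ⟨x, hx⟩⟩)
  have hunit : ∀ x c, IsUnit (rs (L.pc_mono c (S.basicOpen_le (r x))) (L.str c U (r x))) := fun x c => by
    rw [L.rs_str c]
    exact (RingedSpace.isUnit_res_basicOpen S.toRingedSpace (r x)).map _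
  let N := t.sup fun x => (P x).totalDegree + 1
  have hN : L.DegLT s N := by
    intro c k hk
    refine eq_zero_of_germ fun y hy => ?_
    obtain ⟨x, hx, hyx⟩ := Set.mem_iUnion₂.mp (ht (L.pc_le_preimage c U hy))
    have h0 := congrArg (fun z : L.Amb (S.basicOpen (r x)) => PowerSeries.coeff k (z c)) (hP x)
    rw [coeff_ambRes, coeff_ambRes,
      L.degLT_Φ hU (P x) c k ((Finset.le_sup (f := fun x => (P x).totalDegree + 1) hx).trans hk),
      map_zero, Pi.mul_apply, ambStr_apply, PowerSeries.coeff_C_mul, map_mul, map_pow, map_pow] at h0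
    have h1 := ((hunit x c).pow (e x)).mul_right_eq_zero.mp h0.symm
    have hy' : y ∈ L.pc c (S.basicOpen (r x)) := ⟨L.pc_le c U hy, hyx⟩
    rw [← germ_rs (L.pc_mono c (S.basicOpen_le (r x))) _ y hy', h1, map_zero]
  let I : Ideal Γ(S, U) :=
    { carrier := {a | L.ambStr U a * s ∈ (L.Φ hU).range}
      zero_mem' := ⟨0, by simp⟩
      add_mem' := fun {a b} ha hb => by
        simp only [Set.mem_setOf_eq, map_add, add_mul] at *; exact add_mem ha hb
      smul_mem' := fun a b hb => by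
        simp only [Set.mem_setOf_eq, smul_eq_mul, map_mul, mul_assoc] at *
        exact mul_mem ⟨MvPolynomial.C a, L.Φ_C hU a⟩ hb }
  have hmem : ∀ x ∈ t, ∃ m, r x ^ m ∈ I := by
    intro x _
    let z := L.Φ hU (P x) - L.ambStr U (r x ^ e x) * s
    have hz : z ∈ L.alg U := sub_mem (L.gen_le_alg U (L.Φ_mem_gen hU _))
      (mul_mem (L.algStr U _).2 hs)
    have hz0 : L.ambRes (S.basicOpen_le (r x)) z = 0 := by rw [map_sub, hP, sub_self]
    have hkill : ∀ k, ∃ m, ∀ m', m ≤ m' → ∀ c, L.str c U (r x) ^ m' * PowerSeries.coeff k (z c) = 0 := fun k =>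
      L.exists_pow_mul_eq_zero hU (j := 0) (k := k) (fun c => L.str c U (r x)) (fun c => PowerSeries.coeff k (z c))
        (fun c d O hc hd => by
          rw [pow_zero, one_mul, str, str, rs, rs, ← CommRingCat.comp_apply, ← CommRingCat.comp_apply,
            Scheme.Hom.appLE_map, Scheme.Hom.appLE_map])
        (L.isCompat_alg hz k) fun c => by
          have hb : X.basicOpen (L.str c U (r x)) ≤ L.pc c (S.basicOpen (r x)) := fun y hy => by
            refine ⟨L.pc_le c U (X.basicOpen_le _ hy), ?_⟩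
            rw [str, Scheme.basicOpen_appLE] at hy
            exact hy.2
          rw [← rs_rs hb (L.pc_mono c (S.basicOpen_le (r x))), ← L.coeff_ambRes (S.basicOpen_le (r x)), hz0]
          simp
    choose m hm using hkill
    let M := (Finset.range (max N ((P x).totalDegree + 1))).sup m
    refine ⟨M + e x, MvPolynomial.C (r x ^ M) * P x, ?_⟩
    rw [map_mul, Φ_C, pow_add, map_mul (L.ambStr U), mul_assoc]
    refine sub_eq_zero.mp ((mul_sub _ _ _).symm.trans (L.amb_ext fun c k => ?_))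
    rw [Pi.mul_apply, ambStr_apply, PowerSeries.coeff_C_mul, map_pow, Pi.zero_apply, map_zero]
    by_cases hk : max N ((P x).totalDegree + 1) ≤ k
    · rw [Pi.sub_apply, map_sub, Pi.mul_apply, ambStr_apply, PowerSeries.coeff_C_mul,
        hN c k (le_of_max_le_left hk), L.degLT_Φ hU (P x) c k (le_of_max_le_right hk), mul_zero, sub_zero, mul_zero]
    · exact hm k M (Finset.le_sup (Finset.mem_range.mpr (not_le.mp hk))) c
  suffices hI : I = ⊤ by
    have h1 : (1 : Γ(S, U)) ∈ I := by rw [hI]; trivial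
    change L.ambStr U 1 * s ∈ (L.Φ hU).range at h1
    rwa [map_one, one_mul] at h1
  have hspan : Ideal.span (r '' (↑t : Set ↥U)) = ⊤ := by
    rw [← hU.self_le_iSup_basicOpen_iff]
    intro z hz
    obtain ⟨x, hx, hzx⟩ := Set.mem_iUnion₂.mp (ht hz)
    exact TopologicalSpace.Opens.mem_iSup.mpr ⟨⟨r x, x, hx, rfl⟩, hzx⟩
  rw [← Ideal.radical_eq_top, eq_top_iff, ← hspan, Ideal.span_le]
  rintro _ ⟨x, hx, rfl⟩
  exact hmem x hx

/-- polynomials as elements of the algebra -/
def Φalg : MvPolynomial (Fin (L.nGen hU)) Γ(S, U) →+* L.alg U :=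
  (L.Φ hU).codRestrict _ fun P => L.gen_le_alg U (L.Φ_mem_gen hU P)

@[simp] lemma Φalg_coe (P : MvPolynomial (Fin (L.nGen hU)) Γ(S, U)) : (L.Φalg hU P : L.Amb U) = L.Φ hU P := rfl

theorem Φalg_surjective [QuasiCompact f] : Function.Surjective (L.Φalg hU) := fun s => by
  obtain ⟨P, hP⟩ := L.alg_le_range hU s.2
  exact ⟨P, Subtype.ext hP⟩

end LinSysLib.LinSys

end
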