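import Groth.Agent.RelProjLib.Algebra

/-!
# Linear systems over a base, in trivialised form

A linear system for `f : X ⟶ S`: opens `D c` of `X`, transition functions `g c d` and, over every open `W` of `S`,
families of functions on the `D c ∩ f⁻¹ W` transforming by `g`.  The coordinate algebra is the subalgebra of
families of power series generated, locally on `S`, by these families in degree one.
-/

set_option autoImplicit false
universe u

open CategoryTheory CategoryTheory.Limits AlgebraicGeometry TopologicalSpace Opposite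

noncomputable section

namespace LinSysLib

/-- restriction of functions -/
abbrev rs {X : Scheme.{u}} {V W : X.Opens} (h : V ≤ W) : Γ(X, W) →+* Γ(X, V) :=
  (X.presheaf.map (homOfLE h).op).hom

lemma rs_rs {X : Scheme.{u}} {U V W : X.Opens} (h : U ≤ V) (h' : V ≤ W) (x : Γ(X, W)) :
    rs h (rs h' x) = rs (h.trans h') x := by
  rw [rs, rs, rs, ← CommRingCat.comp_apply, ← Functor.map_comp]; rfl

lemma rs_refl {X : Scheme.{u}} {W : X.Opens} (x : Γ(X, W)) : rs (le_refl W) x = x := by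
  rw [rs, show (homOfLE (le_refl W)).op = 𝟙 _ from rfl, CategoryTheory.Functor.map_id]; rfl

lemma germ_rs {X : Scheme.{u}} {V W : X.Opens} (h : V ≤ W) (x : Γ(X, W)) (y : X) (hy : y ∈ V) :
    X.presheaf.germ V y hy (rs h x) = X.presheaf.germ W y (h hy) x :=
  TopCat.Presheaf.germ_res_apply _ _ _ _ _

lemma eq_zero_of_germ {X : Scheme.{u}} {W : X.Opens} {x : Γ(X, W)}
    (h : ∀ (y : X) (hy : y ∈ W), X.presheaf.germ W y hy x = 0) : x = 0 :=
  TopCat.Presheaf.section_ext X.sheaf W x 0 fun y hy => by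
    refine (h y hy).trans ?_
    exact (map_zero (X.presheaf.germ W y hy).hom).symm

/-- trivialised families over the base transforming by given transition functions, with finite generation -/
structure LinSys {X S : Scheme.{u}} (f : X ⟶ S) where
  /-- the index of the pieces -/
  ι : Type u
  /-- the pieces -/
  D : ι → X.Opens
  cover : ∀ x : X, ∃ c, x ∈ D c
  /-- the transition functions -/
  g : ∀ c d, Γ(X, D c ⊓ D d)
  /-- the sections over an open of the base -/
  E : ∀ W : S.Opens, Set (∀ c : ι, Γ(X, D c ⊓ f ⁻¹ᵁ W))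
  res : ∀ {V W : S.Opens} (h : V ≤ W) (e : ∀ c : ι, Γ(X, D c ⊓ f ⁻¹ᵁ W)), e ∈ E W →
    (fun c => rs (inf_le_inf_left (D c) (f.preimage_mono h)) (e c)) ∈ E V
  compat : ∀ {W : S.Opens} (e : ∀ c : ι, Γ(X, D c ⊓ f ⁻¹ᵁ W)), e ∈ E W → ∀ (c d : ι) (O : X.Opens)
    (hc : O ≤ D c ⊓ f ⁻¹ᵁ W) (hd : O ≤ D d ⊓ f ⁻¹ᵁ W),
    rs hc (e c) = rs (le_inf (hc.trans inf_le_left) (hd.trans inf_le_left)) (g c d) * rs hd (e d)
  gens : ∀ {U : S.Opens}, IsAffineOpen U → ∃ (n : ℕ) (t : Fin n → ∀ c : ι, Γ(X, D c ⊓ f ⁻¹ᵁ U)),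
    (∀ j, t j ∈ E U) ∧ ∀ (r : Γ(S, U)) (e : ∀ c : ι, Γ(X, D c ⊓ f ⁻¹ᵁ S.basicOpen r)), e ∈ E (S.basicOpen r) →
      ∃ (m : ℕ) (a : Fin n → Γ(S, U)), ∀ c,
        rs (inf_le_inf_left (D c) (f.preimage_mono (S.basicOpen_le r)))
            ((f.appLE U (D c ⊓ f ⁻¹ᵁ U) inf_le_right).hom (r ^ m)) * e c =
          ∑ j, rs (inf_le_inf_left (D c) (f.preimage_mono (S.basicOpen_le r)))
            ((f.appLE U (D c ⊓ f ⁻¹ᵁ U) inf_le_right).hom (a j) * t j c)

namespace LinSys

variable {X S : Scheme.{u}} {f : X ⟶ S} (L : LinSys f)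

/-- a piece over an open of the base -/
def pc (c : L.ι) (W : S.Opens) : X.Opens := L.D c ⊓ f ⁻¹ᵁ W

lemma pc_le (c : L.ι) (W : S.Opens) : L.pc c W ≤ L.D c := inf_le_left

lemma pc_le_preimage (c : L.ι) (W : S.Opens) : L.pc c W ≤ f ⁻¹ᵁ W := inf_le_right

lemma pc_mono (c : L.ι) {V W : S.Opens} (h : V ≤ W) : L.pc c V ≤ L.pc c W :=
  inf_le_inf_left _ (f.preimage_mono h)

lemma exists_mem_pc {W : S.Opens} {y : X} (hy : y ∈ f ⁻¹ᵁ W) : ∃ c, y ∈ L.pc c W :=
  let ⟨c, hc⟩ := L.cover y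
  ⟨c, hc, hy⟩

/-- the transition function on an open inside two pieces -/
def tf (c d : L.ι) {O : X.Opens} (hc : O ≤ L.D c) (hd : O ≤ L.D d) : Γ(X, O) :=
  rs (le_inf hc hd) (L.g c d)

lemma rs_tf (c d : L.ι) {O O' : X.Opens} (hc : O ≤ L.D c) (hd : O ≤ L.D d) (h : O' ≤ O) :
    rs h (L.tf c d hc hd) = L.tf c d (h.trans hc) (h.trans hd) := rs_rs _ _ _

/-- the ambient ring -/
abbrev Amb (W : S.Opens) : Type u := (c : L.ι) → PowerSeries Γ(X, L.pc c W)

/-- restriction in the ambient rings -/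
def ambRes {V W : S.Opens} (h : V ≤ W) : L.Amb W →+* L.Amb V :=
  Pi.ringHom fun c => (PowerSeries.map (rs (L.pc_mono c h))).comp
    (Pi.evalRingHom (fun c => PowerSeries Γ(X, L.pc c W)) c)

@[simp] lemma coeff_ambRes {V W : S.Opens} (h : V ≤ W) (s : L.Amb W) (c : L.ι) (k : ℕ) :
    PowerSeries.coeff k (L.ambRes h s c) = rs (L.pc_mono c h) (PowerSeries.coeff k (s c)) :=
  PowerSeries.coeff_map _ _ _

lemma amb_ext {W : S.Opens} {s t : L.Amb W}
    (h : ∀ c k, PowerSeries.coeff k (s c) = PowerSeries.coeff k (t c)) : s = t :=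
  funext fun c => PowerSeries.ext (h c)

lemma ambRes_ambRes {U V W : S.Opens} (h : V ≤ W) (h' : U ≤ V) (s : L.Amb W) :
    L.ambRes h' (L.ambRes h s) = L.ambRes (h'.trans h) s :=
  L.amb_ext fun c k => by simp [rs_rs]

lemma ambRes_refl {W : S.Opens} (s : L.Amb W) : L.ambRes (le_refl W) s = s :=
  L.amb_ext fun c k => by simp [rs_refl]

/-- functions of the base on a piece -/
def str (c : L.ι) (W : S.Opens) : Γ(S, W) →+* Γ(X, L.pc c W) :=
  (f.appLE W (L.pc c W) (L.pc_le_preimage c W)).hom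

lemma rs_str (c : L.ι) {V W : S.Opens} (h : V ≤ W) (r : Γ(S, W)) :
    rs (L.pc_mono c h) (L.str c W r) = L.str c V (rs h r) := by
  rw [str, str, rs, rs, ← CommRingCat.comp_apply, ← CommRingCat.comp_apply, Scheme.Hom.appLE_map,
    Scheme.Hom.map_appLE]

/-- constants in the ambient ring -/
def ambStr (W : S.Opens) : Γ(S, W) →+* L.Amb W :=
  Pi.ringHom fun c => PowerSeries.C.comp (L.str c W)

lemma ambStr_apply {W : S.Opens} (r : Γ(S, W)) (c : L.ι) : L.ambStr W r c = PowerSeries.C (L.str c W r) := rfl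

lemma ambRes_str {V W : S.Opens} (h : V ≤ W) (r : Γ(S, W)) :
    L.ambRes h (L.ambStr W r) = L.ambStr V (rs h r) := by
  refine L.amb_ext fun c k => ?_
  simp only [coeff_ambRes, ambStr_apply, PowerSeries.coeff_C]
  split_ifs
  · exact L.rs_str c h r
  · exact map_zero _

/-- a family in degree one -/
def mon {W : S.Opens} (e : ∀ c, Γ(X, L.pc c W)) : L.Amb W := fun c => PowerSeries.C (e c) * PowerSeries.X

lemma coeff_mon {W : S.Opens} (e : ∀ c, Γ(X, L.pc c W)) (c : L.ι) (k : ℕ) :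
    PowerSeries.coeff k (L.mon e c) = if k = 1 then e c else 0 := by
  rw [mon, PowerSeries.coeff_C_mul, PowerSeries.coeff_X]
  split_ifs <;> simp

lemma ambRes_mon {V W : S.Opens} (h : V ≤ W) (e : ∀ c, Γ(X, L.pc c W)) :
    L.ambRes h (L.mon e) = L.mon fun c => rs (L.pc_mono c h) (e c) :=
  L.amb_ext fun c k => by
    rw [coeff_ambRes, coeff_mon, coeff_mon]
    split_ifs <;> simp

/-- the subring generated by constants and the degree one families -/
def gen (W : S.Opens) : Subring (L.Amb W) :=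
  Subring.closure (Set.range (L.ambStr W) ∪ L.mon '' L.E W)

lemma ambRes_gen {V W : S.Opens} (h : V ≤ W) {s : L.Amb W} (hs : s ∈ L.gen W) : L.ambRes h s ∈ L.gen V := by
  have key : L.gen W ≤ (L.gen V).comap (L.ambRes h) := by
    refine Subring.closure_le.mpr ?_
    rintro _ (⟨r, rfl⟩ | ⟨e, he, rfl⟩)
    · show L.ambRes h _ ∈ L.gen V
      rw [L.ambRes_str h r]
      exact Subring.subset_closure (Or.inl ⟨_, rfl⟩)
    · show L.ambRes h _ ∈ L.gen V
      rw [L.ambRes_mon h e]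
      exact Subring.subset_closure (Or.inr ⟨_, L.res h e he, rfl⟩)
  exact key hs

/-- the coefficients of each degree transform by the power of the transition functions -/
def IsCompat {W : S.Opens} (s : L.Amb W) : Prop :=
  ∀ (k : ℕ) (c d : L.ι) (O : X.Opens) (hc : O ≤ L.pc c W) (hd : O ≤ L.pc d W),
    rs hc (PowerSeries.coeff k (s c)) =
      L.tf c d (hc.trans (L.pc_le c W)) (hd.trans (L.pc_le d W)) ^ k * rs hd (PowerSeries.coeff k (s d))

lemma isCompat_gen {W : S.Opens} {s : L.Amb W} (hs : s ∈ L.gen W) : L.IsCompat s := by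
  classical
  induction hs using Subring.closure_induction with
  | mem x hx =>
    intro k c d O hc hd
    rcases hx with ⟨r, rfl⟩ | ⟨e, he, rfl⟩
    · simp only [ambStr_apply, PowerSeries.coeff_C]
      split_ifs with hk
      · subst hk
        rw [pow_zero, one_mul, str, str, rs, rs, ← CommRingCat.comp_apply, ← CommRingCat.comp_apply,
          Scheme.Hom.appLE_map, Scheme.Hom.appLE_map]
      · simp
    · rw [L.coeff_mon e c k, L.coeff_mon e d k]
      split_ifs with hk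
      · subst hk
        rw [pow_one]
        exact L.compat e he c d O hc hd
      · simp
  | zero => intro k c d O hc hd; simp
  | one =>
    intro k c d O hc hd
    simp only [Pi.one_apply, PowerSeries.coeff_one]
    split_ifs with hk
    · subst hk; simp
    · simp
  | add x y _ _ hx hy =>
    intro k c d O hc hd
    simp only [Pi.add_apply, map_add, hx k c d O hc hd, hy k c d O hc hd, mul_add]
  | neg x _ hx =>
    intro k c d O hc hd
    simp only [Pi.neg_apply, map_neg, hx k c d O hc hd, mul_neg]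
  | mul x y _ _ hx hy =>
    intro k c d O hc hd
    simp only [Pi.mul_apply, PowerSeries.coeff_mul, map_sum, map_mul, Finset.mul_sum]
    refine Finset.sum_congr rfl fun p hp => ?_
    rw [Finset.HasAntidiagonal.mem_antidiagonal] at hp
    rw [hx p.1 c d O hc hd, hy p.2 c d O hc hd, ← hp, pow_add]
    ring

/-- the sections of the coordinate algebra -/
def alg (W : S.Opens) : Subring (L.Amb W) where
  carrier := {s | ∀ x ∈ W, ∃ (V : S.Opens) (h : V ≤ W), x ∈ V ∧ L.ambRes h s ∈ L.gen V}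
  zero_mem' x hx := ⟨W, le_refl W, hx, by rw [map_zero]; exact zero_mem _⟩
  one_mem' x hx := ⟨W, le_refl W, hx, by rw [map_one]; exact one_mem _⟩
  add_mem' := by
    intro s t hs ht x hx
    obtain ⟨V, hV, hxV, h1⟩ := hs x hx
    obtain ⟨V', hV', hxV', h2⟩ := ht x hx
    refine ⟨V ⊓ V', inf_le_left.trans hV, ⟨hxV, hxV'⟩, ?_⟩
    rw [map_add]
    refine add_mem ?_ ?_
    · rw [← L.ambRes_ambRes hV inf_le_left]; exact L.ambRes_gen _ h1
    · rw [← L.ambRes_ambRes hV' inf_le_right]; exact L.ambRes_gen _ h2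
  mul_mem' := by
    intro s t hs ht x hx
    obtain ⟨V, hV, hxV, h1⟩ := hs x hx
    obtain ⟨V', hV', hxV', h2⟩ := ht x hx
    refine ⟨V ⊓ V', inf_le_left.trans hV, ⟨hxV, hxV'⟩, ?_⟩
    rw [map_mul]
    refine mul_mem ?_ ?_
    · rw [← L.ambRes_ambRes hV inf_le_left]; exact L.ambRes_gen _ h1
    · rw [← L.ambRes_ambRes hV' inf_le_right]; exact L.ambRes_gen _ h2
  neg_mem' := by
    intro s hs x hx
    obtain ⟨V, hV, hxV, h⟩ := hs x hx
    exact ⟨V, hV, hxV, by rw [map_neg]; exact neg_mem h⟩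

lemma gen_le_alg (W : S.Opens) : L.gen W ≤ L.alg W :=
  fun _ hs _ hx => ⟨W, le_refl W, hx, by rw [L.ambRes_refl]; exact hs⟩

lemma ambRes_mem {V W : S.Opens} (h : V ≤ W) {s : L.Amb W} (hs : s ∈ L.alg W) : L.ambRes h s ∈ L.alg V := by
  intro x hx
  obtain ⟨U, hU, hxU, hgen⟩ := hs x (h hx)
  refine ⟨U ⊓ V, inf_le_right, ⟨hxU, hx⟩, ?_⟩
  rw [L.ambRes_ambRes, ← L.ambRes_ambRes hU inf_le_left]
  exact L.ambRes_gen _ hgen

lemma isCompat_alg {W : S.Opens} {s : L.Amb W} (hs : s ∈ L.alg W) : L.IsCompat s := by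
  intro k c d O hc hd
  refine sub_eq_zero.mp (eq_zero_of_germ fun y hy => ?_)
  obtain ⟨V, hV, hyV, hgen⟩ := hs (f y) (L.pc_le_preimage c W (hc hy))
  have h := L.isCompat_gen hgen k c d (O ⊓ f ⁻¹ᵁ V) (le_inf (inf_le_left.trans (hc.trans (L.pc_le c W))) inf_le_right)
    (le_inf (inf_le_left.trans (hd.trans (L.pc_le d W))) inf_le_right)
  rw [L.coeff_ambRes, L.coeff_ambRes, rs_rs, rs_rs] at h
  have hyO : y ∈ O ⊓ f ⁻¹ᵁ V := ⟨hy, hyV⟩
  rw [← germ_rs (inf_le_left : O ⊓ f ⁻¹ᵁ V ≤ O) _ y hyO, map_sub, map_mul, map_pow, rs_rs, rs_rs, L.rs_tf, h,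
    sub_self, map_zero]

/-- degree `d` -/
def deg (W : S.Opens) (d : ℕ) : AddSubgroup (L.alg W) where
  carrier := {s | ∀ c k, k ≠ d → PowerSeries.coeff k (s.1 c) = 0}
  zero_mem' c k _ := by simp
  add_mem' hs ht c k hk := by simp [hs c k hk, ht c k hk]
  neg_mem' hs c k hk := by simp [hs c k hk]

lemma deg_one_mem (W : S.Opens) : (1 : L.alg W) ∈ L.deg W 0 := fun c k hk => by
  simp [PowerSeries.coeff_one, hk]

lemma deg_mul_mem (W : S.Opens) {d e : ℕ} {s t : L.alg W} (hs : s ∈ L.deg W d)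
    (ht : t ∈ L.deg W e) : s * t ∈ L.deg W (d + e) := by
  intro c k hk
  rw [Subring.coe_mul, Pi.mul_apply, PowerSeries.coeff_mul]
  refine Finset.sum_eq_zero fun p hp => ?_
  rw [Finset.HasAntidiagonal.mem_antidiagonal] at hp
  by_cases h : p.1 = d
  · rw [ht c p.2 (by omega), mul_zero]
  · rw [hs c p.1 h, zero_mul]

instance gradedMonoid (W : S.Opens) : SetLike.GradedMonoid (L.deg W) where
  one_mem := L.deg_one_mem W
  mul_mem _ _ _ _ hs ht := L.deg_mul_mem W hs ht

/-- constants in the algebra -/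
def algStr (W : S.Opens) : Γ(S, W) →+* L.alg W :=
  (L.ambStr W).codRestrict _ fun r => L.gen_le_alg W (Subring.subset_closure (Or.inl ⟨r, rfl⟩))

@[simp] lemma algStr_coe {W : S.Opens} (r : Γ(S, W)) : (L.algStr W r : L.Amb W) = L.ambStr W r := rfl

/-- a family as an element of the algebra -/
def sec {W : S.Opens} {e : ∀ c, Γ(X, L.pc c W)} (he : e ∈ L.E W) : L.alg W :=
  ⟨L.mon e, L.gen_le_alg W (Subring.subset_closure (Or.inr ⟨e, he, rfl⟩))⟩

lemma sec_mem_deg {W : S.Opens} {e : ∀ c, Γ(X, L.pc c W)} (he : e ∈ L.E W) : L.sec he ∈ L.deg W 1 :=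
  fun c k hk => by
    show PowerSeries.coeff k (L.mon e c) = 0
    rw [L.coeff_mon, if_neg hk]

end LinSys

end LinSysLib

end
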