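import Groth.Agent.LinSysLib.Eval

/-!
# The morphisms to `Proj` of the coordinate algebra
-/

set_option autoImplicit false
universe u

open CategoryTheory CategoryTheory.Limits AlgebraicGeometry TopologicalSpace Opposite
open RelProjLib

noncomputable section

namespace LinSysLib.LinSys

variable {X S : Scheme.{u}} {f : X ⟶ S} [QuasiCompact f] (L : LinSys f) {U : S.Opens} (hU : IsAffineOpen U)
variable [GradedRing (L.deg U)]

/-- the point given by a degree one section invertible on an open -/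
def pt (c : L.ι) {W : X.Opens} (h : W ≤ L.pc c U) {e : L.alg U} (he : e ∈ L.deg U 1)
    (hu : IsUnit (L.φ hU c h e)) : W.toScheme ⟶ Proj (L.deg U) :=
  ptG (L.deg U) (L.φ hU c h) he one_pos hu

lemma restrict_pt (c : L.ι) {W W' : X.Opens} (h : W ≤ L.pc c U) (i : W' ≤ W) {e : L.alg U} (he : e ∈ L.deg U 1)
    (hu : IsUnit (L.φ hU c h e)) (hu' : IsUnit (L.φ hU c (i.trans h) e)) :
    X.homOfLE i ≫ L.pt hU c h he hu = L.pt hU c (i.trans h) he hu' := by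
  rw [pt, pt, comp_ptG]
  congr 1
  exact L.φ_restrict hU c h i

lemma pt_congr (c c' : L.ι) {W : X.Opens} (h : W ≤ L.pc c U) (h' : W ≤ L.pc c' U) {e e' : L.alg U}
    (he : e ∈ L.deg U 1) (he' : e' ∈ L.deg U 1) (hu : IsUnit (L.φ hU c h e)) (hu' : IsUnit (L.φ hU c' h' e')) :
    L.pt hU c h he hu = L.pt hU c' h' he' hu' := by
  have hu2 : IsUnit (L.φ hU c h e') := by
    rw [L.φ_scale hU c' c h' h 1 e' he'] at hu'
    exact isUnit_of_mul_isUnit_right hu'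
  rw [pt, pt, ptG_change (L.deg U) (L.φ hU c h) he one_pos hu he' one_pos hu2]
  exact (ptG_scale (L.deg U) (L.φ hU c' h') (L.φ hU c h) _ (fun k a ha => L.φ_scale hU c c' h h' k a ha)
    he' one_pos hu' hu2).symm

/-- the indices of the covering -/
abbrev J (U : S.Opens) : Type u := {p : L.ι × L.alg U // p.2 ∈ L.deg U 1}

omit [QuasiCompact f] [GradedRing (L.deg U)] in
/-- the pieces of the covering -/
def Pj (j : L.J U) : X.Opens := X.basicOpen (PowerSeries.coeff 1 (j.1.2.1 j.1.1))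

omit [GradedRing (L.deg U)] in
lemma Pj_le (j : L.J U) : L.Pj j ≤ L.pc j.1.1 U := X.basicOpen_le _

omit [GradedRing (L.deg U)] in
lemma isUnit_φ {c : L.ι} {W : X.Opens} (h : W ≤ L.pc c U) {e : L.alg U} (he : e ∈ L.deg U 1)
    (hW : W ≤ X.basicOpen (PowerSeries.coeff 1 (e.1 c))) : IsUnit (L.φ hU c h e) := by
  rw [L.φ_of_mem hU c h he, ← rs_rs hW (X.basicOpen_le _)]
  exact ((RingedSpace.isUnit_res_basicOpen X.toRingedSpace _).map _).map W.topIso.inv.hom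

omit [GradedRing (L.deg U)] in
lemma le_Pj {c : L.ι} {W : X.Opens} (h : W ≤ L.pc c U) {e : L.alg U} (he : e ∈ L.deg U 1)
    (hu : IsUnit (L.φ hU c h e)) : W ≤ L.Pj ⟨(c, e), he⟩ := by
  refine L.le_basicOpen_of_isUnit h ?_
  rw [L.φ_of_mem hU c h he] at hu
  have := hu.map W.topIso.hom.hom
  rwa [← CommRingCat.comp_apply, Iso.inv_hom_id, CommRingCat.id_apply] at this

/-- the chart on a piece -/
def chartJ (j : L.J U) : (L.Pj j).toScheme ⟶ Proj (L.deg U) :=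
  L.pt hU j.1.1 (L.Pj_le j) j.2 (L.isUnit_φ hU (L.Pj_le j) j.2 le_rfl)

lemma chartJ_cocycle (a b : L.J U) {P : Scheme.{u}} (u : P ⟶ (L.Pj a).toScheme) (v : P ⟶ (L.Pj b).toScheme)
    (h : u ≫ (L.Pj a).ι = v ≫ (L.Pj b).ι) : u ≫ L.chartJ hU a = v ≫ L.chartJ hU b := by
  let j : P ⟶ X := u ≫ (L.Pj a).ι
  have hr : Set.range j ⊆ Set.range (L.Pj a ⊓ L.Pj b).ι := by
    rintro _ ⟨z, rfl⟩
    rw [Scheme.Opens.range_ι]
    refine ⟨(u z).2, ?_⟩
    change j z ∈ L.Pj b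
    rw [show j = v ≫ (L.Pj b).ι from h]
    exact (v z).2
  let l := IsOpenImmersion.lift (L.Pj a ⊓ L.Pj b).ι j hr
  have hl : l ≫ (L.Pj a ⊓ L.Pj b).ι = j := IsOpenImmersion.lift_fac _ _ _
  have h1 : u = l ≫ X.homOfLE (inf_le_left : _ ≤ L.Pj a) := by
    rw [← cancel_mono (L.Pj a).ι, Category.assoc, Scheme.homOfLE_ι, hl]
  have h2 : v = l ≫ X.homOfLE (inf_le_right : _ ≤ L.Pj b) := by
    rw [← cancel_mono (L.Pj b).ι, Category.assoc, Scheme.homOfLE_ι, hl]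
    exact h.symm
  have ha : L.Pj a ⊓ L.Pj b ≤ L.pc a.1.1 U := inf_le_left.trans (L.Pj_le a)
  have hb : L.Pj a ⊓ L.Pj b ≤ L.pc b.1.1 U := inf_le_right.trans (L.Pj_le b)
  have hua := L.isUnit_φ hU ha a.2 inf_le_left
  have hub := L.isUnit_φ hU hb b.2 inf_le_right
  rw [h1, h2, Category.assoc, Category.assoc]
  refine congrArg (l ≫ ·) ?_
  exact (L.restrict_pt hU a.1.1 (L.Pj_le a) inf_le_left a.2 _ hua).trans
    ((L.pt_congr hU _ _ _ _ a.2 b.2 hua hub).trans (L.restrict_pt hU b.1.1 (L.Pj_le b) inf_le_right b.2 _ hub).symm)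

omit [GradedRing (L.deg U)] in
lemma Pj_le_preimage (j : L.J U) : L.Pj j ≤ f ⁻¹ᵁ U := (L.Pj_le j).trans (L.pc_le_preimage _ U)

variable (hg : L.IsGood)

/-- the covering of the preimage by the pieces -/
def cov : ((f ⁻¹ᵁ U : X.Opens) : Scheme.{u}).OpenCover :=
  Scheme.Cover.mkOfCovers (L.J U) (fun j => (L.Pj j).toScheme) (fun j => X.homOfLE (L.Pj_le_preimage j))
    (fun z => by
      obtain ⟨e, he, hye, -, -⟩ := hg U hU z.1 z.2
      obtain ⟨c, hc⟩ := Opens.mem_iSup.mp hye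
      refine ⟨⟨(c, e), he⟩, ⟨z.1, hc⟩, Subtype.ext ?_⟩
      simp)
    (fun j => by infer_instance)

/-- the morphism to `Proj` -/
def chartHom : ((f ⁻¹ᵁ U : X.Opens) : Scheme.{u}) ⟶ Proj (L.deg U) :=
  (L.cov hU hg).glueMorphisms (fun j => L.chartJ hU j) (fun a b =>
    L.chartJ_cocycle hU a b _ _ (by
      have := congrArg (· ≫ (f ⁻¹ᵁ U).ι) (pullback.condition
        (f := (L.cov hU hg).f a) (g := (L.cov hU hg).f b))
      simp only [Category.assoc] at this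
      refine Eq.trans ?_ (this.trans ?_)
      · exact congrArg (pullback.fst _ _ ≫ ·) (Scheme.homOfLE_ι X (L.Pj_le_preimage a)).symm
      · exact congrArg (pullback.snd _ _ ≫ ·) (Scheme.homOfLE_ι X (L.Pj_le_preimage b))))

lemma Pj_chartHom (j : L.J U) :
    X.homOfLE (L.Pj_le_preimage j) ≫ L.chartHom hU hg = L.chartJ hU j :=
  (L.cov hU hg).ι_glueMorphisms _ _ j

lemma homOfLE_chartHom {c : L.ι} {W : X.Opens} (h : W ≤ L.pc c U) {e : L.alg U} (he : e ∈ L.deg U 1)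
    (hu : IsUnit (L.φ hU c h e)) :
    X.homOfLE (h.trans (L.pc_le_preimage c U)) ≫ L.chartHom hU hg = L.pt hU c h he hu := by
  have hW := L.le_Pj hU h he hu
  rw [← Scheme.homOfLE_homOfLE X hW (L.Pj_le_preimage ⟨(c, e), he⟩), Category.assoc, L.Pj_chartHom hU hg]
  exact L.restrict_pt hU c (L.Pj_le ⟨(c, e), he⟩) hW he _ hu

lemma pt_preimage (c : L.ι) {W : X.Opens} (hW : W ≤ L.pc c U) {e : L.alg U} (he : e ∈ L.deg U 1)
    (hu : IsUnit (L.φ hU c hW e)) {x : L.alg U} {d : ℕ} (hx : x ∈ L.deg U d) (hd : 0 < d) :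
    L.pt hU c hW he hu ⁻¹ᵁ Proj.basicOpen (L.deg U) x = W.ι ⁻¹ᵁ L.loc U d x := by
  rw [pt, ptG_preimage (L.deg U) _ _ _ _ hx hd, L.φ_of_mem hU c hW hx,
    ← W.ι.preimage_image_eq (W.toScheme.basicOpen _), Scheme.Opens.ι_image_basicOpen_topIso_inv]
  ext z
  show z.1 ∈ X.basicOpen (rs hW (PowerSeries.coeff d (x.1 c))) ↔ z.1 ∈ L.loc U d x
  rw [L.mem_loc_iff (hW z.2), Scheme.basicOpen_res]
  exact ⟨fun h => h.2, fun h => ⟨z.2, h⟩⟩

lemma chartHom_preimage {x : L.alg U} {d : ℕ} (hx : x ∈ L.deg U d) (hd : 0 < d) :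
    L.chartHom hU hg ⁻¹ᵁ Proj.basicOpen (L.deg U) x = (f ⁻¹ᵁ U).ι ⁻¹ᵁ L.loc U d x := by
  refine TopologicalSpace.Opens.ext (Set.ext fun z => ?_)
  obtain ⟨e, he, hye, -, -⟩ := hg U hU z.1 z.2
  obtain ⟨c, hc⟩ := Opens.mem_iSup.mp hye
  let W : X.Opens := X.basicOpen (PowerSeries.coeff 1 (e.1 c))
  have hW : W ≤ L.pc c U := X.basicOpen_le _
  have hu := L.isUnit_φ hU hW he le_rfl
  have key : X.homOfLE (hW.trans (L.pc_le_preimage c U)) ⁻¹ᵁ (L.chartHom hU hg ⁻¹ᵁ Proj.basicOpen (L.deg U) x) =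
      W.ι ⁻¹ᵁ L.loc U d x := by
    rw [← Scheme.Hom.comp_preimage, L.homOfLE_chartHom hU hg hW he hu, L.pt_preimage hU c hW he hu hx hd]
  have h1 := SetLike.ext_iff.mp key ⟨z.1, hc⟩
  have hz : X.homOfLE (hW.trans (L.pc_le_preimage c U)) ⟨z.1, hc⟩ = z :=
    Subtype.ext (Scheme.homOfLE_apply _ _)
  exact (iff_of_eq (congrArg (· ∈ (L.chartHom hU hg ⁻¹ᵁ Proj.basicOpen (L.deg U) x : Set (f ⁻¹ᵁ U).toScheme)) hz.symm)).trans h1

end LinSysLib.LinSys

end
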