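import Groth.Agent.LinSysLib.GrAlg
import Groth.Agent.RelProjLib.PtGraded

/-!
# Evaluation of sections of the coordinate algebra on the pieces
-/

set_option autoImplicit false
universe u

open CategoryTheory CategoryTheory.Limits AlgebraicGeometry TopologicalSpace Opposite

noncomputable section

namespace LinSysLib.LinSys

variable {X S : Scheme.{u}} {f : X ⟶ S} (L : LinSys f)

/-- the locus where a section of degree `d` is invertible -/
def loc (U : S.Opens) (d : ℕ) (s : L.alg U) : X.Opens := ⨆ c, X.basicOpen (PowerSeries.coeff d (s.1 c))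

variable {U : S.Opens}

lemma loc_le (d : ℕ) (s : L.alg U) : L.loc U d s ≤ f ⁻¹ᵁ U :=
  iSup_le fun c => (X.basicOpen_le _).trans (L.pc_le_preimage c U)

lemma isUnit_coeff_change {d : ℕ} (s : L.alg U) {c c' : L.ι} {W : X.Opens} (h : W ≤ L.pc c U)
    (h' : W ≤ L.pc c' U) (hu : IsUnit (rs h (PowerSeries.coeff d (s.1 c)))) :
    IsUnit (rs h' (PowerSeries.coeff d (s.1 c'))) := by
  rw [L.isCompat_alg s.2 d c c' W h h'] at hu
  exact isUnit_of_mul_isUnit_right hu

lemma mem_loc_iff {d : ℕ} {s : L.alg U} {c : L.ι} {y : X} (hy : y ∈ L.pc c U) :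
    y ∈ L.loc U d s ↔ y ∈ X.basicOpen (PowerSeries.coeff d (s.1 c)) := by
  refine ⟨fun h => ?_, fun h => Opens.mem_iSup.mpr ⟨c, h⟩⟩
  obtain ⟨c', h'⟩ := Opens.mem_iSup.mp h
  let W : X.Opens := X.basicOpen (PowerSeries.coeff d (s.1 c')) ⊓ L.pc c U
  have hW : W ≤ L.pc c' U := inf_le_left.trans (X.basicOpen_le _)
  have h1 : IsUnit (rs hW (PowerSeries.coeff d (s.1 c'))) := by
    rw [← rs_rs (inf_le_left : W ≤ _) (X.basicOpen_le _)]
    exact (RingedSpace.isUnit_res_basicOpen X.toRingedSpace _).map _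
  have h2 := (L.isUnit_coeff_change s hW (inf_le_right : W ≤ L.pc c U) h1).map (X.presheaf.germ W y ⟨h', hy⟩).hom
  rw [Scheme.mem_basicOpen _ _ y hy]
  rwa [germ_rs (inf_le_right : W ≤ L.pc c U) _ y ⟨h', hy⟩] at h2

lemma le_basicOpen_of_isUnit {d : ℕ} {s : L.alg U} {c : L.ι} {W : X.Opens} (h : W ≤ L.pc c U)
    (hu : IsUnit (rs h (PowerSeries.coeff d (s.1 c)))) : W ≤ X.basicOpen (PowerSeries.coeff d (s.1 c)) := by
  intro y hy
  rw [Scheme.mem_basicOpen _ _ y (h hy)]
  have := hu.map (X.presheaf.germ W y hy).hom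
  rwa [germ_rs h _ y hy] at this

/-- the condition that the functions on a locus of invertibility come from the algebra -/
def Gen (U : S.Opens) (e : L.alg U) : Prop :=
  ∀ h : Γ(X, L.loc U 1 e), ∃ (k : ℕ) (s : L.alg U), s ∈ L.deg U k ∧ ∀ c,
    rs (le_iSup (fun c => X.basicOpen (PowerSeries.coeff 1 (e.1 c))) c) h *
        rs (X.basicOpen_le _) (PowerSeries.coeff 1 (e.1 c)) ^ k =
      rs (X.basicOpen_le _) (PowerSeries.coeff k (s.1 c))

/-- the loci of invertibility of degree one sections which are affine and have their functions in the algebra cover -/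
def IsGood : Prop :=
  ∀ (U : S.Opens), IsAffineOpen U → ∀ y ∈ f ⁻¹ᵁ U,
    ∃ e : L.alg U, e ∈ L.deg U 1 ∧ y ∈ L.loc U 1 e ∧ IsAffineOpen (L.loc U 1 e) ∧ L.Gen U e

variable [QuasiCompact f] (hU : IsAffineOpen U)

lemma ringHom_ext_deg {T : Type u} [CommRing T] (g h : L.alg U →+* T) (hU : IsAffineOpen U)
    (H : ∀ d s, s ∈ L.deg U d → g s = h s) : g = h := by
  refine RingHom.ext fun s => ?_
  obtain ⟨P, rfl⟩ := L.Φalg_surjective hU s
  rw [← MvPolynomial.sum_homogeneousComponent P, map_sum, map_sum, map_sum]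
  exact Finset.sum_congr rfl fun d _ =>
    H d _ (L.Φalg_mem_deg hU (MvPolynomial.homogeneousComponent_isHomogeneous d P))

/-- dehomogenisation on a piece -/
def ev (c : L.ι) : L.alg U →+* Γ(X, L.pc c U) :=
  (L.Φalg hU).liftOfSurjective (L.Φalg_surjective hU) ⟨L.evalC hU c, fun P (hP : L.Φalg hU P = 0) => by
    change L.evalC hU c P = 0
    rw [← MvPolynomial.sum_homogeneousComponent P, map_sum]
    refine Finset.sum_eq_zero fun k _ => ?_
    rw [← coeff_Φ, ← Φalg_coe, hP]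
    simp⟩

lemma ev_Φ (c : L.ι) (P : MvPolynomial (Fin (L.nGen hU)) Γ(S, U)) :
    L.ev hU c (L.Φalg hU P) = L.evalC hU c P :=
  RingHom.liftOfRightInverse_comp_apply _ _ _ _ P

lemma ev_of_mem (c : L.ι) {s : L.alg U} {d : ℕ} (hs : s ∈ L.deg U d) :
    L.ev hU c s = PowerSeries.coeff d (s.1 c) := by
  obtain ⟨P, rfl⟩ := L.Φalg_surjective hU s
  conv_lhs => rw [← L.eq_Φalg_component hU P hs, ev_Φ]
  rw [Φalg_coe, coeff_Φ]

/-- evaluation as functions on an open inside a piece -/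
def φ (c : L.ι) {W : X.Opens} (h : W ≤ L.pc c U) : L.alg U →+* Γ(W.toScheme, ⊤) :=
  W.topIso.inv.hom.comp ((rs h).comp (L.ev hU c))

lemma φ_of_mem (c : L.ι) {W : X.Opens} (h : W ≤ L.pc c U) {s : L.alg U} {d : ℕ} (hs : s ∈ L.deg U d) :
    L.φ hU c h s = W.topIso.inv (rs h (PowerSeries.coeff d (s.1 c))) := by
  rw [φ, RingHom.comp_apply, RingHom.comp_apply, L.ev_of_mem hU c hs]

lemma φ_restrict (c : L.ι) {W W' : X.Opens} (h : W ≤ L.pc c U) (i : W' ≤ W) :
    (X.homOfLE i).appTop.hom.comp (L.φ hU c h) = L.φ hU c (i.trans h) := by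
  rw [φ, φ, ← RingHom.comp_assoc, ← CommRingCat.hom_comp]
  have : W.topIso.inv ≫ (X.homOfLE i).appTop = X.presheaf.map (homOfLE i).op ≫ W'.topIso.inv := by
    simp only [Scheme.Opens.topIso_inv, Scheme.homOfLE_appTop]
    erw [← Functor.map_comp, ← Functor.map_comp]
    rfl
  rw [this]
  refine RingHom.ext fun s => ?_
  rw [CommRingCat.hom_comp, RingHom.comp_apply, RingHom.comp_apply, RingHom.comp_apply, RingHom.comp_apply]
  exact congrArg _ (rs_rs i h _)

lemma φ_scale (c c' : L.ι) {W : X.Opens} (h : W ≤ L.pc c U) (h' : W ≤ L.pc c' U) (k : ℕ)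
    (a : L.alg U) (ha : a ∈ L.deg U k) :
    L.φ hU c h a = W.topIso.inv (L.tf c c' (h.trans (L.pc_le c U)) (h'.trans (L.pc_le c' U))) ^ k *
      L.φ hU c' h' a := by
  rw [L.φ_of_mem hU c h ha, L.φ_of_mem hU c' h' ha, ← map_pow, ← map_mul]
  exact congrArg _ (L.isCompat_alg a.2 k c c' W h h')

lemma φ_res {V : S.Opens} (hV : IsAffineOpen V) (i : V ≤ U) (c : L.ι) {W : X.Opens} (h : W ≤ L.pc c V) :
    (L.φ hV c h).comp (L.algRes i) = L.φ hU c (h.trans (L.pc_mono c i)) := by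
  refine L.ringHom_ext_deg _ _ hU fun d s hs => ?_
  have hs' : L.algRes i s ∈ L.deg V d := fun c k hk => by
    rw [algRes_coe, L.coeff_ambRes, hs c k hk, map_zero]
  rw [RingHom.comp_apply, L.φ_of_mem hV c h hs', L.φ_of_mem hU c _ hs, algRes_coe, L.coeff_ambRes, rs_rs]

lemma φ_algStr (c : L.ι) {W : X.Opens} (h : W ≤ L.pc c U) (r : Γ(S, U)) :
    L.φ hU c h (L.algStr U r) = W.topIso.inv (rs h (L.str c U r)) := by
  have hm : L.algStr U r ∈ L.deg U 0 := fun c k hk => by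
    rw [algStr_coe, ambStr_apply, PowerSeries.coeff_C, if_neg hk]
  rw [L.φ_of_mem hU c h hm, algStr_coe, ambStr_apply, PowerSeries.coeff_C, if_pos rfl]

end LinSysLib.LinSys

end
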