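import Groth.Agent.LinSysLib.Alg

/-!
# The quasi-coherent graded algebra of a linear system
-/

set_option autoImplicit false
universe u

open CategoryTheory CategoryTheory.Limits AlgebraicGeometry TopologicalSpace Opposite

noncomputable section

namespace LinSysLib.LinSys

variable {X S : Scheme.{u}} {f : X ⟶ S} (L : LinSys f)

/-- restriction of sections -/
def algRes {V W : S.Opens} (h : V ≤ W) : L.alg W →+* L.alg V :=
  ((L.ambRes h).comp (L.alg W).subtype).codRestrict _ fun s => L.ambRes_mem h s.2

@[simp] lemma algRes_coe {V W : S.Opens} (h : V ≤ W) (s : L.alg W) :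
    (L.algRes h s : L.Amb V) = L.ambRes h s := rfl

/-- the presheaf -/
def algPresheaf : TopCat.Presheaf CommRingCat.{u} S.carrier where
  obj W := CommRingCat.of (L.alg W.unop)
  map {W V} h := CommRingCat.ofHom (L.algRes h.unop.le)
  map_id W := by
    refine CommRingCat.hom_ext (RingHom.ext fun s => Subtype.ext ?_)
    exact L.ambRes_refl _
  map_comp g h := by
    refine CommRingCat.hom_ext (RingHom.ext fun s => Subtype.ext ?_)
    exact (L.ambRes_ambRes g.unop.le h.unop.le _).symm

/-- the structure map -/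
def algStrHom : S.presheaf ⟶ L.algPresheaf where
  app W := CommRingCat.ofHom (L.algStr W.unop)
  naturality W V h := by
    refine CommRingCat.hom_ext (RingHom.ext fun r => Subtype.ext ?_)
    exact (L.ambRes_str h.unop.le r).symm

theorem algPresheaf_isSheaf : L.algPresheaf.IsSheaf := by
  rw [TopCat.Presheaf.isSheaf_iff_isSheafUniqueGluing]
  intro κ U sf cpt
  have hc : ∀ (c : L.ι) (k : ℕ), ∃! z : Γ(X, L.pc c (iSup U)), ∀ i,
      rs (L.pc_mono c (le_iSup U i)) z = PowerSeries.coeff k ((sf i).1 c) := by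
    intro c k
    refine X.sheaf.existsUnique_gluing' (fun i => L.pc c (U i)) _
      (fun i => homOfLE (L.pc_mono c (le_iSup U i))) ?_ _ ?_
    · intro z hz
      obtain ⟨i, hi⟩ := Opens.mem_iSup.mp (show f z ∈ iSup U from hz.2)
      exact Opens.mem_iSup.mpr ⟨i, hz.1, hi⟩
    · intro i j
      have h0 : rs (L.pc_mono c (inf_le_left : U i ⊓ U j ≤ U i)) (PowerSeries.coeff k ((sf i).1 c)) =
          rs (L.pc_mono c (inf_le_right : U i ⊓ U j ≤ U j)) (PowerSeries.coeff k ((sf j).1 c)) := by
        have h := congrArg (fun s : L.alg (U i ⊓ U j) => PowerSeries.coeff k (s.1 c)) (cpt i j)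
        change PowerSeries.coeff k (L.ambRes inf_le_left (sf i).1 c) =
          PowerSeries.coeff k (L.ambRes inf_le_right (sf j).1 c) at h
        rwa [L.coeff_ambRes, L.coeff_ambRes] at h
      have hle : L.pc c (U i) ⊓ L.pc c (U j) ≤ L.pc c (U i ⊓ U j) := fun z hz => ⟨hz.1.1, hz.1.2, hz.2.2⟩
      have h1 := congrArg (rs hle) h0
      rw [rs_rs, rs_rs] at h1
      exact h1
  choose z hz hu using fun c k => hc c k
  let s : L.Amb (iSup U) := fun c => PowerSeries.mk fun k => z c k
  have hs : ∀ i, L.ambRes (le_iSup U i) s = (sf i).1 := fun i => L.amb_ext fun c k => by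
    rw [L.coeff_ambRes, PowerSeries.coeff_mk]
    exact hz c k i
  have hmem : s ∈ L.alg (iSup U) := by
    intro x hx
    obtain ⟨i, hi⟩ := Opens.mem_iSup.mp hx
    obtain ⟨V, hV, hxV, hP⟩ := (sf i).2 x hi
    refine ⟨V, hV.trans (le_iSup U i), hxV, ?_⟩
    rwa [← L.ambRes_ambRes (le_iSup U i) hV, hs i]
  refine ⟨⟨s, hmem⟩, fun i => Subtype.ext (hs i), fun t ht => Subtype.ext (L.amb_ext fun c k => ?_)⟩
  change PowerSeries.coeff k (t.1 c) = PowerSeries.coeff k (PowerSeries.mk _)
  rw [PowerSeries.coeff_mk]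
  refine hu c k _ fun i => ?_
  rw [← L.coeff_ambRes (le_iSup U i), show L.ambRes (le_iSup U i) t.1 = (sf i).1 from congrArg Subtype.val (ht i)]

variable [QuasiCompact f]

theorem algPresheaf_isQC : RelSpec.IsQC L.algPresheaf L.algStrHom := by
  classical
  intro U hU r
  letI : Algebra (L.alg U) (L.alg (S.basicOpen r)) := (L.algRes (S.basicOpen_le r)).toAlgebra
  change IsLocalization.Away (L.algStr U r) (L.alg (S.basicOpen r))
  have hu : IsUnit (L.algRes (S.basicOpen_le r) (L.algStr U r)) := by
    rw [show L.algRes (S.basicOpen_le r) (L.algStr U r) = L.algStr (S.basicOpen r) (rs (S.basicOpen_le r) r) from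
      Subtype.ext (L.ambRes_str _ r)]
    exact (RingedSpace.isUnit_res_basicOpen S.toRingedSpace r).map _
  refine IsLocalization.Away.mk _ (by rw [RingHom.algebraMap_toAlgebra]; exact hu) ?_ ?_
  · intro s
    obtain ⟨P, rfl⟩ := L.Φalg_surjective (hU.basicOpen r) s
    obtain ⟨m, P0, hP0⟩ := L.exists_Φ_of_gen hU r (L.Φ_mem_gen (hU.basicOpen r) P)
    refine ⟨m, L.Φalg hU P0, ?_⟩
    rw [RingHom.algebraMap_toAlgebra]
    refine Subtype.ext ?_
    simp only [Subring.coe_mul, SubmonoidClass.coe_pow, algRes_coe, Φalg_coe, algStr_coe, hP0, map_pow]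
    exact mul_comm _ _
  · intro x y h
    rw [RingHom.algebraMap_toAlgebra] at h
    obtain ⟨P, hP⟩ := L.Φalg_surjective hU (x - y)
    have hz0 : L.ambRes (S.basicOpen_le r) (x - y).1 = 0 := by
      rw [AddSubgroupClass.coe_sub, map_sub, sub_eq_zero]
      exact congrArg Subtype.val h
    have hkill : ∀ k, ∃ m, ∀ m', m ≤ m' → ∀ c, L.str c U r ^ m' * PowerSeries.coeff k ((x - y).1 c) = 0 := fun k =>
      L.exists_pow_mul_eq_zero hU (j := 0) (k := k) (fun c => L.str c U r)
        (fun c => PowerSeries.coeff k ((x - y).1 c))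
        (fun c d O hc hd => by
          rw [pow_zero, one_mul, str, str, rs, rs, ← CommRingCat.comp_apply, ← CommRingCat.comp_apply,
            Scheme.Hom.appLE_map, Scheme.Hom.appLE_map])
        (L.isCompat_alg (x - y).2 k) fun c => by
          have hb : X.basicOpen (L.str c U r) ≤ L.pc c (S.basicOpen r) := fun w hw => by
            refine ⟨L.pc_le c U (X.basicOpen_le _ hw), ?_⟩
            rw [str, Scheme.basicOpen_appLE] at hw
            exact hw.2
          rw [← rs_rs hb (L.pc_mono c (S.basicOpen_le r)), ← L.coeff_ambRes (S.basicOpen_le r), hz0]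
          simp
    choose m hm using hkill
    let M := (Finset.range (P.totalDegree + 1)).sup m
    refine ⟨M, ?_⟩
    rw [← sub_eq_zero, ← mul_sub]
    refine Subtype.ext (L.amb_ext fun c k => ?_)
    rw [Subring.coe_mul, Pi.mul_apply, SubmonoidClass.coe_pow, algStr_coe, ← map_pow, ambStr_apply,
      PowerSeries.coeff_C_mul, map_pow, ZeroMemClass.coe_zero, Pi.zero_apply, map_zero]
    by_cases hk : k < P.totalDegree + 1
    · exact hm k M (Finset.le_sup (Finset.mem_range.mpr hk)) c
    · rw [← hP, Φalg_coe, L.degLT_Φ hU P c k (not_lt.mp hk), mul_zero]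

lemma Φalg_mem_deg {U : S.Opens} (hU : IsAffineOpen U) {P : MvPolynomial (Fin (L.nGen hU)) Γ(S, U)} {d : ℕ}
    (hP : P.IsHomogeneous d) : L.Φalg hU P ∈ L.deg U d := fun c k hk => by
  rw [Φalg_coe, coeff_Φ, MvPolynomial.homogeneousComponent_of_mem hP, if_neg hk, map_zero]

lemma eq_Φalg_component {U : S.Opens} (hU : IsAffineOpen U) {d : ℕ} (P : MvPolynomial (Fin (L.nGen hU)) Γ(S, U))
    (h : L.Φalg hU P ∈ L.deg U d) :
    L.Φalg hU (MvPolynomial.homogeneousComponent d P) = L.Φalg hU P := by
  refine Subtype.ext (L.amb_ext fun c k => ?_)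
  by_cases hk : k = d
  · subst hk
    rw [Φalg_coe, Φalg_coe, coeff_Φ, coeff_Φ,
      MvPolynomial.homogeneousComponent_of_mem (MvPolynomial.homogeneousComponent_isHomogeneous k P), if_pos rfl]
  · rw [h c k hk, L.Φalg_mem_deg hU (MvPolynomial.homogeneousComponent_isHomogeneous d P) c k hk]

/-- extraction of one coefficient -/
def coeffHom (W : S.Opens) (c : L.ι) (k : ℕ) : L.alg W →+ Γ(X, L.pc c W) where
  toFun s := PowerSeries.coeff k (s.1 c)
  map_zero' := by simp
  map_add' s t := by simp

omit [QuasiCompact f] in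
lemma coeff_coe (W : S.Opens) (x : DirectSum ℕ fun d => L.deg W d) (c : L.ι) (k : ℕ) :
    L.coeffHom W c k (DirectSum.coeAddMonoidHom (L.deg W) x) =
      PowerSeries.coeff k (((x k : L.deg W k) : L.alg W).1 c) := by
  classical
  induction x using DirectSum.induction_on with
  | zero => simp
  | of d y =>
    rw [DirectSum.coeAddMonoidHom_of]
    by_cases hk : k = d
    · subst hk; rw [DirectSum.of_eq_same]; rfl
    · rw [DirectSum.of_eq_of_ne _ _ _ hk]
      change PowerSeries.coeff k ((y : L.alg W).1 c) = _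
      rw [y.2 c k hk]; simp
  | add x y hx hy => simp [hx, hy]

theorem isInternal_deg {U : S.Opens} (hU : IsAffineOpen U) : DirectSum.IsInternal (L.deg U) := by
  classical
  refine ⟨fun x y h => ?_, fun s => ?_⟩
  · refine DFinsupp.ext fun d => Subtype.ext (Subtype.ext (L.amb_ext fun c k => ?_))
    by_cases hk : k = d
    · subst hk
      rw [← L.coeff_coe U x c k, ← L.coeff_coe U y c k]
      exact congrArg (L.coeffHom U c k) h
    · rw [(x d).2 c k hk, (y d).2 c k hk]
  · obtain ⟨P, rfl⟩ := L.Φalg_surjective hU s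
    refine ⟨∑ d ∈ Finset.range (P.totalDegree + 1), DirectSum.of _ d
      ⟨_, L.Φalg_mem_deg hU (MvPolynomial.homogeneousComponent_isHomogeneous d P)⟩, ?_⟩
    rw [map_sum]
    simp only [DirectSum.coeAddMonoidHom_of]
    rw [← map_sum, MvPolynomial.sum_homogeneousComponent]

/-- the grading over an affine open -/
@[reducible]
def gradedRing {U : S.Opens} (hU : IsAffineOpen U) : GradedRing (L.deg U) :=
  { L.gradedMonoid U, (L.isInternal_deg hU).chooseDecomposition _ with }

/-- the quasi-coherent graded algebra -/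
def coordAlg : RelProj.QCGrAlg S where
  presheaf := L.algPresheaf
  isSheaf := L.algPresheaf_isSheaf
  str := L.algStrHom
  isQC := L.algPresheaf_isQC
  deg U _ := L.deg U
  graded U hU := L.gradedRing hU
  map_mem {U V} _ _ h {d x} hx c k hk := by
    change PowerSeries.coeff k (L.ambRes h x.1 c) = 0
    rw [L.coeff_ambRes, hx c k hk, map_zero]
  str_mem U hU r c k hk := by
    change PowerSeries.coeff k (L.ambStr U r c) = 0
    rw [ambStr_apply, PowerSeries.coeff_C, if_neg hk]

theorem coordAlg_isGenDegOne : L.coordAlg.IsGenDegOne := by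
  intro U hU
  rw [eq_top_iff]
  rintro s -
  obtain ⟨P, rfl⟩ := L.Φalg_surjective hU s
  induction P using MvPolynomial.induction_on with
  | C r => exact Subring.subset_closure (Or.inl (L.Φalg_mem_deg hU (MvPolynomial.isHomogeneous_C _ r)))
  | add p q' hp hq' => rw [map_add]; exact add_mem hp hq'
  | mul_X p j hp =>
    rw [map_mul]
    exact mul_mem hp (Subring.subset_closure (Or.inr (L.Φalg_mem_deg hU (MvPolynomial.isHomogeneous_X _ j))))

omit [QuasiCompact f] in
lemma eq_sum_of_homogeneous_one {R : Type u} [CommRing R] {n : ℕ} (Q : MvPolynomial (Fin n) R)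
    (hQ : Q.IsHomogeneous 1) :
    Q = ∑ j, MvPolynomial.C (Q.coeff (Finsupp.single j 1)) * MvPolynomial.X j := by
  classical
  ext e
  rw [MvPolynomial.coeff_sum]
  simp only [MvPolynomial.coeff_C_mul, MvPolynomial.coeff_X]
  by_cases he : ∃ j, e = Finsupp.single j 1
  · obtain ⟨j, rfl⟩ := he
    rw [Finset.sum_eq_single j (fun b _ hb => ?_) (by simp)]
    · simp
    · simp [Finsupp.single_left_inj, hb]
  · rw [Finset.sum_eq_zero fun j _ => by rw [if_neg fun h => he ⟨j, h.symm⟩, mul_zero]]
    refine hQ.coeff_eq_zero fun h => he ?_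
    obtain ⟨j, hj⟩ : ∃ j, e j ≠ 0 := by
      by_contra hne
      push_neg at hne
      simp [Finsupp.degree_apply, Finset.sum_eq_zero fun j _ => hne j] at h
    refine ⟨j, Finsupp.ext fun l => ?_⟩
    have hsum : ∑ l, e l = 1 := by rw [← Finsupp.degree_eq_sum]; exact h
    have hj1 : e j = 1 := by
      have := Finset.single_le_sum (f := fun l => e l) (fun _ _ => Nat.zero_le _) (Finset.mem_univ j)
      simp only [hsum] at this
      omega
    by_cases hl : l = j
    · subst hl; simp [hj1]
    · rw [Finsupp.single_eq_of_ne hl]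
      have := Finset.add_le_sum (f := fun l => e l) (fun _ _ => Nat.zero_le _) (Finset.mem_univ j)
        (Finset.mem_univ l) (Ne.symm hl)
      simp only [hsum] at this
      omega

theorem coordAlg_isFTDeg : L.coordAlg.IsFTDeg 1 := by
  classical
  intro U hU
  letI : DecidableEq (L.alg U) := Classical.decEq _
  let T : Fin (L.nGen hU) → L.alg U := fun j => L.Φalg hU (MvPolynomial.X j)
  refine ⟨Finset.univ.image T, ?_, fun x hx => ?_⟩
  · intro y hy
    obtain ⟨j, -, rfl⟩ := Finset.mem_image.mp hy
    exact L.Φalg_mem_deg hU (MvPolynomial.isHomogeneous_X _ j)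
  · obtain ⟨P, rfl⟩ := L.Φalg_surjective hU x
    rw [← L.eq_Φalg_component hU P hx]
    set Q := MvPolynomial.homogeneousComponent 1 P with hQdef
    let c : Fin (L.nGen hU) → Γ(S, U) := fun j => Q.coeff (Finsupp.single j 1)
    refine ⟨fun t => ∑ j ∈ Finset.univ.filter (fun j => T j = t), c j, ?_⟩
    have h1 : ∀ t, L.algStr U (∑ j ∈ Finset.univ.filter (fun j => T j = t), c j) * t =
        ∑ j ∈ Finset.univ.filter (fun j => T j = t), L.algStr U (c j) * T j := by
      intro t
      rw [map_sum, Finset.sum_mul]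
      exact Finset.sum_congr rfl fun j hj => by rw [(Finset.mem_filter.mp hj).2]
    have key : L.Φalg hU Q =
        ∑ t ∈ Finset.univ.image T, L.algStr U (∑ j ∈ Finset.univ.filter (fun j => T j = t), c j) * t := by
      simp only [h1]
      rw [Finset.sum_fiberwise_of_maps_to (fun j _ => Finset.mem_image_of_mem T (Finset.mem_univ j))]
      conv_lhs => rw [eq_sum_of_homogeneous_one Q (MvPolynomial.homogeneousComponent_isHomogeneous 1 P)]
      rw [map_sum]
      refine Finset.sum_congr rfl fun j _ => ?_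
      rw [map_mul]
      exact congrArg (· * T j) (Subtype.ext (L.Φ_C hU _))
    exact key

end LinSysLib.LinSys

end
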