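import Groth.Agent.LinSysLib.Criterion
import Groth.Agent.AmpleThLib.VeryAmple
import Groth.Agent.QCohLib.FTCrit
import Groth.Agent.QCohLib.AffineFinite

/-!
# The linear system of a finite type submodule of the direct image of an invertible module
-/

set_option autoImplicit false
universe u

open CategoryTheory CategoryTheory.Limits AlgebraicGeometry TopologicalSpace Opposite
open AmpleLib

noncomputable section

namespace LinSysLib

variable {X S : Scheme.{u}} {M : X.Modules}

/-- the coefficient of a section with respect to a generator -/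
def coef {U O : X.Opens} {e : Γ(M, U)} (he : GenOn M e) (h : O ≤ U) (τ : Γ(M, O)) : Γ(X, O) :=
  ((he O h).2 τ).choose

lemma coef_spec {U O : X.Opens} {e : Γ(M, U)} (he : GenOn M e) (h : O ≤ U) (τ : Γ(M, O)) :
    coef he h τ • res M h e = τ :=
  ((he O h).2 τ).choose_spec

lemma coef_eq {U O : X.Opens} {e : Γ(M, U)} (he : GenOn M e) (h : O ≤ U) {τ : Γ(M, O)} {r : Γ(X, O)}
    (hr : r • res M h e = τ) : coef he h τ = r :=
  (he O h).1 ((coef_spec he h τ).trans hr.symm)

lemma coef_res {U O O' : X.Opens} {e : Γ(M, U)} (he : GenOn M e) (h : O ≤ U) (i : O' ≤ O) (τ : Γ(M, O)) :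
    coef he (i.trans h) (res M i τ) = rs i (coef he h τ) :=
  coef_eq he _ (by
    conv_rhs => rw [← coef_spec he h τ]
    rw [res_smul, res_res])

lemma coef_smul {U O : X.Opens} {e : Γ(M, U)} (he : GenOn M e) (h : O ≤ U) (r : Γ(X, O)) (τ : Γ(M, O)) :
    coef he h (r • τ) = r * coef he h τ :=
  coef_eq he h (by rw [mul_smul, coef_spec])

lemma coef_sum {U O : X.Opens} {e : Γ(M, U)} (he : GenOn M e) (h : O ≤ U) {I : Type*} (t : Finset I)
    (τ : I → Γ(M, O)) : coef he h (∑ i ∈ t, τ i) = ∑ i ∈ t, coef he h (τ i) :=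
  coef_eq he h (by
    rw [Finset.sum_smul]
    exact Finset.sum_congr rfl fun i _ => coef_spec he h _)

lemma res_sum {O O' : X.Opens} (i : O' ≤ O) {I : Type*} (t : Finset I) (τ : I → Γ(M, O)) :
    res M i (∑ k ∈ t, τ k) = ∑ k ∈ t, res M i (τ k) :=
  map_sum (M.presheaf.map (homOfLE i).op).hom τ t

lemma push_smul (f : X ⟶ S) {V : S.Opens} (r : Γ(S, V))
    (m : Γ((Scheme.Modules.pushforward f).obj M, V)) :
    r • m = ((f.app V).hom r • (show Γ(M, f ⁻¹ᵁ V) from m) : Γ(M, f ⁻¹ᵁ V)) := rfl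

variable (f : X ⟶ S) {G : S.Modules} (j : G ⟶ (Scheme.Modules.pushforward f).obj M)

/-- the section over the preimage of a section of the submodule -/
def jsec {V : S.Opens} (g : Γ(G, V)) : Γ(M, f ⁻¹ᵁ V) := j.app V g

lemma jsec_res {V V' : S.Opens} (i : V' ≤ V) (g : Γ(G, V)) :
    jsec f j (G.presheaf.map (homOfLE i).op g) = res M (f.preimage_mono i) (jsec f j g) :=
  QCohLib.app_map j (homOfLE i) g

lemma jsec_smul {V : S.Opens} (r : Γ(S, V)) (g : Γ(G, V)) :
    jsec f j (r • g) = (f.app V).hom r • jsec f j g :=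
  (QCohLib.app_smul j V r g).trans (push_smul f r _)

lemma jsec_sum {V : S.Opens} {I : Type*} (t : Finset I) (g : I → Γ(G, V)) :
    jsec f j (∑ i ∈ t, g i) = ∑ i ∈ t, jsec f j (g i) :=
  map_sum (j.app V).hom g t

variable (hM : PicF.IsInvertible M) [Coh.IsQCoh G] (hG : CohB1.IsFT G)

include hG in
theorem exists_span (U : S.affineOpens) :
    ∃ (n : ℕ) (s : Fin n → Γ(G, U.1)), Submodule.span Γ(S, U.1) (Set.range s) = ⊤ := by
  haveI := QCohLib.finite_of_isFT hG U.2
  exact Module.Finite.exists_fin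

/-- the linear system of `G ⟶ f_* M` -/
def bundleData : LocData f where
  ι := AmpleThLib.Gens M
  D a := a.1
  cover := AmpleThLib.gens_cover hM
  g a b := coef a.2.2 (inf_le_left : a.1 ⊓ b.1 ≤ a.1) (res M inf_le_right b.2.1)
  κ := S.affineOpens
  W U := U.1
  affine U := U.2
  coverS x := by
    obtain ⟨U, hU, hxU, -⟩ := exists_isAffineOpen_mem_and_subset (x := x) (U := ⊤) trivial
    exact ⟨⟨U, hU⟩, hxU⟩
  n U := (exists_span (G := G) hG U).choose
  t U l a := coef a.2.2 inf_le_left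
    (res M inf_le_right (jsec f j ((exists_span (G := G) hG U).choose_spec.choose l)))
  compat U l a b O hc hd := by
    rw [← coef_res, res_res]
    refine coef_eq a.2.2 _ ?_
    rw [← coef_res a.2.2 inf_le_left (le_inf (hc.trans inf_le_left) (hd.trans inf_le_left)), res_res,
      mul_comm, mul_smul, coef_spec, ← coef_res b.2.2 inf_le_left hd, res_res, coef_spec]
  overlap U U' l x hx hx' := by
    classical
    let s := (exists_span (G := G) hG U).choose_spec.choose
    let s' := (exists_span (G := G) hG U').choose_spec.choose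
    have hgen : QCohLib.GenOn G U'.1 (fun i : ULift.{u} (Fin _) => s' i.down) :=
      QCohLib.genOn_of_span U'.2 _ (by
        rw [show (Set.range fun i : ULift.{u} (Fin _) => s' i.down) = Set.range s' from
          Equiv.ulift.surjective.range_comp _]
        exact (exists_span (G := G) hG U').choose_spec.choose_spec)
    obtain ⟨V, hV, hV', hxV, c, hc⟩ := hgen (U.1 ⊓ U'.1) inf_le_right
      (G.presheaf.map (homOfLE inf_le_left).op (s l)) x ⟨hx, hx'⟩
    rw [QCohLib.map_map'] at hc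
    refine ⟨V, hV.trans inf_le_left, hV', fun i => c ⟨i⟩, hxV, fun a => ?_⟩
    rw [← coef_res, res_res,
      ← res_res M (f.preimage_mono (hV.trans inf_le_left)) (inf_le_right : a.1 ⊓ f ⁻¹ᵁ V ≤ _),
      ← jsec_res f j (hV.trans inf_le_left)]
    refine Eq.trans (congrArg (fun z => coef a.2.2 inf_le_left (res M inf_le_right (jsec f j z))) hc) ?_
    rw [jsec_sum, res_sum, coef_sum]
    refine Fintype.sum_equiv Equiv.ulift _ _ fun i => ?_
    rw [jsec_smul, jsec_res, res_smul, res_res, coef_smul, ← coef_res, res_res]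
    refine congrArg (· * _) ?_
    rw [Scheme.Hom.app_eq_appLE, ← CommRingCat.comp_apply, Scheme.Hom.appLE_map]
    rfl

variable [QuasiCompact f]

include hM hG in
/-- a finite type submodule of `f_* M` with affine loci whose functions it generates gives a good linear system -/
theorem exists_isGood_of_bundle
    (h : ∀ y : X, ∃ (U : S.Opens) (_ : IsAffineOpen U) (g₀ : Γ(G, U)) (O : X.Opens) (hO : O ≤ f ⁻¹ᵁ U),
      f y ∈ U ∧ y ∈ O ∧ IsAffineOpen O ∧
      (∀ (z : X) (hz : z ∈ f ⁻¹ᵁ U), GenAt M (jsec f j g₀) hz ↔ z ∈ O) ∧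
      Subring.closure (Set.range (f.appLE U O hO).hom ∪
        {c | ∃ g : Γ(G, U), c • res M hO (jsec f j g₀) = res M hO (jsec f j g)}) = ⊤) :
    ∃ T : LinSys f, T.IsGood := by
  classical
  let T := bundleData f j hM hG
  let L := T.toLinSys
  refine ⟨L, L.isGood_of_local fun y => ?_⟩
  obtain ⟨U, hU, g₀, O, hO, hyU, hyO, hOaff, hloc, hgen⟩ := h y
  refine ⟨U, hU, hyU, ?_⟩
  let U₀ : S.affineOpens := ⟨U, hU⟩
  have fam : ∀ g : Γ(G, U), ∃ s : L.alg U, s ∈ L.deg U 1 ∧ ∀ a : AmpleThLib.Gens M,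
      PowerSeries.coeff 1 (s.1 a) = coef a.2.2 inf_le_left (res M inf_le_right (jsec f j g)) := by
    intro g
    obtain ⟨r, hr⟩ := (Submodule.mem_span_range_iff_exists_fun Γ(S, U)).mp
      ((exists_span (G := G) hG U₀).choose_spec.choose_spec.ge (Submodule.mem_top (x := g)))
    have he : T.comb (a := U₀) (le_refl U) r ∈ L.E U := T.comb_mem_E _ r
    refine ⟨L.sec he, L.sec_mem_deg he, fun a => ?_⟩
    show PowerSeries.coeff 1 (L.mon _ a) = _
    rw [L.coeff_mon, if_pos rfl]
    show T.comb U₀ (le_refl U) r a = _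
    refine Eq.trans ?_ (congrArg (coef a.2.2 inf_le_left)
      ((congrArg (fun z => res M inf_le_right (jsec f j z)) hr.symm).trans
        ((congrArg (res M inf_le_right) (jsec_sum f j _ _)).trans (res_sum _ _ _)))).symm
    refine Eq.trans ?_ (coef_sum _ _ _ _).symm
    refine Finset.sum_congr rfl fun i _ => ?_
    rw [jsec_smul, res_smul]
    refine Eq.trans ?_ (coef_smul a.2.2 inf_le_left _ _).symm
    refine congrArg₂ (· * ·) ?_ (rs_refl _)
    rw [LinSys.str, Scheme.Hom.app_eq_appLE, ← CommRingCat.comp_apply, Scheme.Hom.appLE_map]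
    rfl
  obtain ⟨e, he, hec⟩ := fam g₀
  have hbo : ∀ (a : AmpleThLib.Gens M) (z : X) (hz : z ∈ a.1 ⊓ f ⁻¹ᵁ U),
      z ∈ X.basicOpen (PowerSeries.coeff 1 (e.1 a)) ↔ z ∈ O := by
    intro a z hz
    refine Iff.trans ?_ (hloc z hz.2)
    rw [hec a]
    refine (genAt_smul_iff _ (res M (inf_le_left : a.1 ⊓ f ⁻¹ᵁ U ≤ a.1) a.2.1) hz
      ((a.2.2.res inf_le_left).genAt hz)).symm.trans ?_
    rw [coef_spec, genAt_res]
  have hlocEq : L.loc U 1 e = O := by
    refine le_antisymm (iSup_le fun a z hz => (hbo a z (X.basicOpen_le _ hz)).mp hz) fun z hz => ?_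
    obtain ⟨a, ha⟩ := L.exists_mem_pc (W := U) (hO hz)
    exact Opens.mem_iSup.mpr ⟨a, (hbo a z ha).mpr hz⟩
  refine ⟨e, he, hlocEq.ge hyO, hlocEq ▸ hOaff, ?_⟩
  have hle : L.loc U 1 e ≤ f ⁻¹ᵁ U := L.loc_le 1 e
  refine L.gen_of_generators he
    {c | ∃ g : Γ(G, U), c • res M hle (jsec f j g₀) = res M hle (jsec f j g)} ?_ ?_
  · have key : ∀ (O' : X.Opens) (hO' : O' ≤ f ⁻¹ᵁ U), O' = O → Subring.closure (Set.range (f.appLE U O' hO').hom ∪
        {c | ∃ g : Γ(G, U), c • res M hO' (jsec f j g₀) = res M hO' (jsec f j g)}) = ⊤ := by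
      rintro O' hO' rfl; exact hgen
    exact key _ hle hlocEq
  · rintro c ⟨g, hg⟩
    obtain ⟨s, hs, hsc⟩ := fam g
    refine ⟨1, s, hs, fun a => ?_⟩
    rw [pow_one]
    have hB : X.basicOpen (PowerSeries.coeff 1 (e.1 a)) ≤ L.pc a U := X.basicOpen_le _
    have hBl : X.basicOpen (PowerSeries.coeff 1 (e.1 a)) ≤ L.loc U 1 e := L.loc_sub 1 e a
    have hBa : X.basicOpen (PowerSeries.coeff 1 (e.1 a)) ≤ a.1 := hB.trans inf_le_left
    show rs hBl c * rs hB _ = rs hB _
    rw [congrArg (rs hB) (hec a), congrArg (rs hB) (hsc a)]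
    refine (congrArg (rs hBl c * ·) (coef_res a.2.2 inf_le_left hB _).symm).trans ?_
    refine (coef_smul a.2.2 _ _ _).symm.trans ?_
    refine Eq.trans (congrArg (coef a.2.2 _) ?_) (coef_res a.2.2 inf_le_left hB _)
    rw [res_res, res_res]
    have := congrArg (res M hBl) hg
    rw [res_smul, res_res, res_res] at this
    exact this

include hM hG in
/-- a finite type submodule of `f_* M` with affine loci whose functions it generates makes `f` projective -/
theorem isProjective_of_bundle [UniversallyClosed f]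
    (h : ∀ y : X, ∃ (U : S.Opens) (_ : IsAffineOpen U) (g₀ : Γ(G, U)) (O : X.Opens) (hO : O ≤ f ⁻¹ᵁ U),
      f y ∈ U ∧ y ∈ O ∧ IsAffineOpen O ∧
      (∀ (z : X) (hz : z ∈ f ⁻¹ᵁ U), GenAt M (jsec f j g₀) hz ↔ z ∈ O) ∧
      Subring.closure (Set.range (f.appLE U O hO).hom ∪
        {c | ∃ g : Γ(G, U), c • res M hO (jsec f j g₀) = res M hO (jsec f j g)}) = ⊤) :
    RelProj.IsProjective f := by
  obtain ⟨T, hT⟩ := exists_isGood_of_bundle f j hM hG h
  exact isProjective_of_isGood T hT

end LinSysLib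

end
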