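import Groth.Agent.LinSysLib.RelProjEval
import Groth.Agent.GrTwistLib.Ample
import Groth.Agent.RelProjLib.ProjProper

/-!
# The linear system of a relative Proj
-/

set_option autoImplicit false
universe u

open CategoryTheory CategoryTheory.Limits AlgebraicGeometry TopologicalSpace Opposite HomogeneousLocalization
open RelProjLib ChowLib

noncomputable section

namespace LinSysLib.RelP

variable {S P : Scheme.{u}} (𝒮 : RelProj.QCGrAlg S) (p : P ⟶ S)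
  (chart : ∀ (U : S.Opens) (hU : IsAffineOpen U), (((p ⁻¹ᵁ U : P.Opens) : Scheme.{u}) ≅ Proj (𝒮.deg U hU)))

omit chart p in
theorem exists_finset_cover (hgen : 𝒮.IsGenDegOne) (hft : 𝒮.IsFTDeg 1) (U : S.Opens) (hU : IsAffineOpen U) :
    ∃ T : Finset (𝒮.presheaf.obj (op U)), (∀ f ∈ T, f ∈ 𝒮.deg U hU 1) ∧
      ∀ x : Proj (𝒮.deg U hU), ∃ f ∈ T, x ∈ Proj.basicOpen (𝒮.deg U hU) f := by
  obtain ⟨T, hT, hspan⟩ := hft U hU
  refine ⟨T, fun f hf => hT hf, fun x => ?_⟩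
  obtain ⟨f, hf, hx⟩ := GrTwistLib.exists_basicOpen_of_genDegOne _ (hgen U hU) x
  by_contra! H
  obtain ⟨c, hc⟩ := hspan f hf
  refine hx ?_
  rw [hc]
  exact Ideal.sum_mem _ fun t ht => Ideal.mul_mem_left _ _ (not_not.mp (H t ht))

/-- being a basic open -/
def IsBas (i k : S.affineOpens) : Prop := ∃ r : Γ(S, i.1), k = bas r

variable {i j k l : S.affineOpens}

theorem IsBas.le (h : IsBas i k) : k.1 ≤ i.1 := by
  obtain ⟨r, rfl⟩ := h; exact S.basicOpen_le r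

theorem IsBas.trans (h : IsBas i j) (h' : IsBas j k) : IsBas i k := by
  obtain ⟨r, rfl⟩ := h
  obtain ⟨r', rfl⟩ := h'
  obtain ⟨e, he⟩ := i.2.basicOpen_basicOpen_is_basicOpen r r'
  exact ⟨e, Subtype.ext he.symm⟩

theorem IsBas.refl (i : S.affineOpens) : IsBas i i :=
  ⟨1, Subtype.ext (S.basicOpen_of_isUnit (isUnit_one : IsUnit (1 : Γ(S, i.1)))).symm⟩

theorem exists_isBas_inter {x : S} (hi : x ∈ i.1) (hj : x ∈ j.1) : ∃ k, IsBas i k ∧ IsBas j k ∧ x ∈ k.1 := by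
  obtain ⟨r, r', e, hx⟩ := exists_basicOpen_le_affine_inter i.2 j.2 x ⟨hi, hj⟩
  exact ⟨bas r, ⟨r, rfl⟩, ⟨r', Subtype.ext e⟩, hx⟩

/-- restriction -/
abbrev res (h : IsBas i k) (a : 𝒮.presheaf.obj (op i.1)) : 𝒮.presheaf.obj (op k.1) := 𝒮.res i.2 k.2 h.le a

lemma res_mem (h : IsBas i k) {a : 𝒮.presheaf.obj (op i.1)} {d : ℕ} (ha : a ∈ 𝒮.deg i.1 i.2 d) :
    res 𝒮 h a ∈ 𝒮.deg k.1 k.2 d := (𝒮.res i.2 k.2 h.le).map_mem ha

lemma res_trans (h : IsBas i j) (h' : IsBas j k) (a : 𝒮.presheaf.obj (op i.1)) :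
    res 𝒮 h' (res 𝒮 h a) = res 𝒮 (h.trans h') a := by
  show (𝒮.presheaf.map (homOfLE h'.le).op).hom ((𝒮.presheaf.map (homOfLE h.le).op).hom a) = _
  rw [← RingHom.comp_apply, ← CommRingCat.hom_comp, ← Functor.map_comp]
  rfl

lemma q_congr {t t' a a' : 𝒮.presheaf.obj (op i.1)} (ht : t ∈ 𝒮.deg i.1 i.2 1) (ht' : t' ∈ 𝒮.deg i.1 i.2 1)
    (ha : a ∈ 𝒮.deg i.1 i.2 1) (ha' : a' ∈ 𝒮.deg i.1 i.2 1) (e₁ : t = t') (e₂ : a = a') {O : P.Opens}
    (hO : O ≤ D 𝒮 p chart i t) (hO' : O ≤ D 𝒮 p chart i t') :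
    q 𝒮 p chart ht ha hO = q 𝒮 p chart ht' ha' hO' := by
  subst e₁ e₂; rfl

variable (hP : RelProj.IsRelProj 𝒮 p chart)

include hP in
lemma D_bas (h : IsBas i k) (s : 𝒮.presheaf.obj (op i.1)) :
    D 𝒮 p chart k (res 𝒮 h s) = D 𝒮 p chart i s ⊓ p ⁻¹ᵁ k.1 := by
  obtain ⟨r, rfl⟩ := id h
  exact D_res 𝒮 p chart hP r s

include hP in
lemma q_bas (h : IsBas i k) {t a : 𝒮.presheaf.obj (op i.1)} (ht : t ∈ 𝒮.deg i.1 i.2 1) (ha : a ∈ 𝒮.deg i.1 i.2 1)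
    {O : P.Opens} (hO : O ≤ D 𝒮 p chart k (res 𝒮 h t)) (hO' : O ≤ D 𝒮 p chart i t) :
    q 𝒮 p chart (res_mem 𝒮 h ht) (res_mem 𝒮 h ha) hO = q 𝒮 p chart ht ha hO' := by
  obtain ⟨r, rfl⟩ := id h
  exact q_res 𝒮 p chart ht ha hP r hO hO'

/-- the indices of the pieces -/
abbrev Ix : Type u := Σ i : S.affineOpens, {t : 𝒮.presheaf.obj (op i.1) // t ∈ 𝒮.deg i.1 i.2 1}

variable (c : Ix 𝒮) (j : S.affineOpens) (a : {a : 𝒮.presheaf.obj (op j.1) // a ∈ 𝒮.deg j.1 j.2 1})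

include hP in
lemma exists_ratio : ∃ w : Γ(P, D 𝒮 p chart c.1 c.2.1 ⊓ p ⁻¹ᵁ j.1), ∀ (k : S.affineOpens) (h₁ : IsBas c.1 k)
    (h₂ : IsBas j k) (O : P.Opens) (hO : O ≤ D 𝒮 p chart c.1 c.2.1 ⊓ p ⁻¹ᵁ j.1)
    (hk : O ≤ D 𝒮 p chart k (res 𝒮 h₁ c.2.1)),
    rs hO w = q 𝒮 p chart (res_mem 𝒮 h₁ c.2.2) (res_mem 𝒮 h₂ a.2) hk := by
  classical
  let K := {k : S.affineOpens // IsBas c.1 k ∧ IsBas j k}
  let O : K → P.Opens := fun k => D 𝒮 p chart k.1 (res 𝒮 k.2.1 c.2.1)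
  have hO : ∀ k, O k ≤ D 𝒮 p chart c.1 c.2.1 ⊓ p ⁻¹ᵁ j.1 := fun k => by
    show D 𝒮 p chart k.1 _ ≤ _
    rw [D_bas 𝒮 p chart hP k.2.1]
    exact inf_le_inf_left _ (p.preimage_mono k.2.2.le)
  let v : ∀ k, Γ(P, O k) := fun k => q 𝒮 p chart (res_mem 𝒮 k.2.1 c.2.2) (res_mem 𝒮 k.2.2 a.2) le_rfl
  have agree : ∀ (k k' : S.affineOpens) (h₁ : IsBas c.1 k) (h₂ : IsBas j k) (h₁' : IsBas c.1 k') (h₂' : IsBas j k')
      (O : P.Opens) (hk : O ≤ D 𝒮 p chart k (res 𝒮 h₁ c.2.1)) (hk' : O ≤ D 𝒮 p chart k' (res 𝒮 h₁' c.2.1)),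
      q 𝒮 p chart (res_mem 𝒮 h₁ c.2.2) (res_mem 𝒮 h₂ a.2) hk =
        q 𝒮 p chart (res_mem 𝒮 h₁' c.2.2) (res_mem 𝒮 h₂' a.2) hk' := by
    intro k k' h₁ h₂ h₁' h₂' O hk hk'
    refine sub_eq_zero.mp (eq_zero_of_germ fun y hy => ?_)
    obtain ⟨m, hm, hm', hym⟩ := exists_isBas_inter (x := p y) (D_le 𝒮 p chart k _ (hk hy)) (D_le 𝒮 p chart k' _ (hk' hy))
    let O' : P.Opens := O ⊓ p ⁻¹ᵁ m.1
    have hO1 : O' ≤ D 𝒮 p chart m (res 𝒮 hm (res 𝒮 h₁ c.2.1)) := by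
      rw [D_bas 𝒮 p chart hP hm]; exact inf_le_inf_right _ hk
    have hO2 : O' ≤ D 𝒮 p chart m (res 𝒮 hm' (res 𝒮 h₁' c.2.1)) := by
      rw [D_bas 𝒮 p chart hP hm']; exact inf_le_inf_right _ hk'
    rw [← germ_rs (inf_le_left : O' ≤ O) _ y ⟨hy, hym⟩, map_sub, rs_q, rs_q,
      ← q_bas 𝒮 p chart hP hm _ _ hO1, ← q_bas 𝒮 p chart hP hm' _ _ hO2,
      q_congr 𝒮 p chart (res_mem 𝒮 hm (res_mem 𝒮 h₁ c.2.2)) (res_mem 𝒮 hm' (res_mem 𝒮 h₁' c.2.2))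
        (res_mem 𝒮 hm (res_mem 𝒮 h₂ a.2)) (res_mem 𝒮 hm' (res_mem 𝒮 h₂' a.2))
        (by rw [res_trans, res_trans]) (by rw [res_trans, res_trans]) hO1 hO2, sub_self, map_zero]
  obtain ⟨w, hw, -⟩ := P.sheaf.existsUnique_gluing' O _ (fun k => homOfLE (hO k)) (fun y hy => by
    obtain ⟨k, h₁, h₂, hyk⟩ := exists_isBas_inter (x := p y) (D_le 𝒮 p chart c.1 _ hy.1) hy.2
    refine Opens.mem_iSup.mpr ⟨⟨k, h₁, h₂⟩, ?_⟩
    show y ∈ D 𝒮 p chart k _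
    rw [D_bas 𝒮 p chart hP h₁]
    exact ⟨hy.1, hyk⟩) v (fun k k' => by
      show rs inf_le_left (v k) = rs inf_le_right (v k')
      simp only [v]
      rw [rs_q, rs_q]
      exact agree k.1 k'.1 k.2.1 k.2.2 k'.2.1 k'.2.2 _ _ _)
  refine ⟨w, fun k h₁ h₂ O' hO' hk => ?_⟩
  have h : rs (hO ⟨k, h₁, h₂⟩) w = v ⟨k, h₁, h₂⟩ := hw ⟨k, h₁, h₂⟩
  have h' := congrArg (rs hk) h
  simp only [v] at h'
  rw [rs_rs, rs_q] at h'
  exact h'

/-- the quotient of two sections over different affine opens -/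
def ratio : Γ(P, D 𝒮 p chart c.1 c.2.1 ⊓ p ⁻¹ᵁ j.1) := (exists_ratio 𝒮 p chart hP c j a).choose

lemma ratio_spec (k : S.affineOpens) (h₁ : IsBas c.1 k) (h₂ : IsBas j k) (O : P.Opens)
    (hO : O ≤ D 𝒮 p chart c.1 c.2.1 ⊓ p ⁻¹ᵁ j.1) (hk : O ≤ D 𝒮 p chart k (res 𝒮 h₁ c.2.1)) :
    rs hO (ratio 𝒮 p chart hP c j a) = q 𝒮 p chart (res_mem 𝒮 h₁ c.2.2) (res_mem 𝒮 h₂ a.2) hk :=
  (exists_ratio 𝒮 p chart hP c j a).choose_spec k h₁ h₂ O hO hk

omit c j a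

variable (hgen : 𝒮.IsGenDegOne) (hft : 𝒮.IsFTDeg 1)

/-- the number of generators -/
def rN (i : S.affineOpens) : ℕ := (hft i.1 i.2).choose.card

/-- the generators in degree one -/
def rGn (i : S.affineOpens) (l : Fin (rN 𝒮 hft i)) : {a : 𝒮.presheaf.obj (op i.1) // a ∈ 𝒮.deg i.1 i.2 1} :=
  ⟨((hft i.1 i.2).choose.equivFin.symm l).1, (hft i.1 i.2).choose_spec.1 ((hft i.1 i.2).choose.equivFin.symm l).2⟩

lemma rGn_span (i : S.affineOpens) {x : 𝒮.presheaf.obj (op i.1)} (hx : x ∈ 𝒮.deg i.1 i.2 1) :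
    ∃ r : Fin (rN 𝒮 hft i) → Γ(S, i.1), x = ∑ l, (𝒮.str.app (op i.1)).hom (r l) * (rGn 𝒮 hft i l).1 := by
  obtain ⟨r, hr⟩ := (hft i.1 i.2).choose_spec.2 x hx
  refine ⟨fun l => r ((hft i.1 i.2).choose.equivFin.symm l).1, hr.trans ?_⟩
  rw [← Finset.sum_coe_sort]
  exact ((hft i.1 i.2).choose.equivFin.symm.sum_comp _).symm

lemma res_str (h : IsBas i k) (r : Γ(S, i.1)) :
    res 𝒮 h ((𝒮.str.app (op i.1)).hom r) = (𝒮.str.app (op k.1)).hom (rs h.le r) := by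
  have := 𝒮.str.naturality (homOfLE h.le).op
  exact (DFunLike.congr_fun (congrArg CommRingCat.Hom.hom this) r).symm

include hft in
lemma exists_res_span {l l' : S.affineOpens} (h : IsBas l k) (h' : IsBas l' k) {a : 𝒮.presheaf.obj (op l.1)}
    (ha : a ∈ 𝒮.deg l.1 l.2 1) :
    ∃ r : Fin (rN 𝒮 hft l') → Γ(S, k.1),
      res 𝒮 h a = ∑ n, (𝒮.str.app (op k.1)).hom (r n) * res 𝒮 h' (rGn 𝒮 hft l' n).1 := by
  classical
  obtain ⟨r₀, rfl⟩ := id h'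
  let ψ' := 𝒮.res l'.2 (l'.2.basicOpen r₀) (S.basicOpen_le r₀)
  let _inst := (𝒮.presheaf.map (homOfLE (S.basicOpen_le r₀)).op).hom.toAlgebra
  have hloc : IsLocalization.Away ((𝒮.str.app (op l'.1)).hom r₀) (𝒮.presheaf.obj (op (S.basicOpen r₀))) :=
    𝒮.isQC l'.1 l'.2 r₀
  obtain ⟨⟨x, _, m, rfl⟩, hxs⟩ :=
    IsLocalization.surj (Submonoid.powers ((𝒮.str.app (op l'.1)).hom r₀)) (res 𝒮 h a)
  change res 𝒮 h a * ψ' ((𝒮.str.app (op l'.1)).hom r₀ ^ m) = ψ' x at hxs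
  have hc0 : ψ' ((𝒮.str.app (op l'.1)).hom r₀ ^ m) ∈ 𝒮.deg (S.basicOpen r₀) (l'.2.basicOpen r₀) 0 := by
    rw [map_pow]
    simpa using SetLike.pow_mem_graded m (ψ'.map_mem (𝒮.str_mem l'.1 l'.2 r₀))
  have hbi : res 𝒮 h a * ψ' ((𝒮.str.app (op l'.1)).hom r₀ ^ m) ∈
      𝒮.deg (S.basicOpen r₀) (l'.2.basicOpen r₀) 1 := by
    simpa only [add_zero] using
      SetLike.mul_mem_graded (A := 𝒮.deg (S.basicOpen r₀) (l'.2.basicOpen r₀)) (res_mem 𝒮 h ha) hc0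
  obtain ⟨r, hr⟩ := rGn_span 𝒮 hft l' (SetLike.coe_mem (DirectSum.decompose (𝒮.deg l'.1 l'.2) x 1))
  have hxi : ψ' (DirectSum.decompose (𝒮.deg l'.1 l'.2) x 1 : 𝒮.presheaf.obj (op l'.1)) =
      res 𝒮 h a * ψ' ((𝒮.str.app (op l'.1)).hom r₀ ^ m) := by
    rw [GradedRingHom.map_directSumDecompose, ← hxs, DirectSum.decompose_of_mem_same _ hbi]
  obtain ⟨v, hv⟩ : ∃ v : Γ(S, S.basicOpen r₀), v * rs (S.basicOpen_le r₀) r₀ = 1 :=
    (RingedSpace.isUnit_res_basicOpen S.toRingedSpace r₀).exists_left_inv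
  refine ⟨fun n => v ^ m * rs (S.basicOpen_le r₀) (r n), ?_⟩
  have h1 : ψ' ((𝒮.str.app (op l'.1)).hom r₀ ^ m) =
      (𝒮.str.app (op (S.basicOpen r₀))).hom (rs (S.basicOpen_le r₀) r₀ ^ m) := by
    rw [map_pow, map_pow]
    exact congrArg (· ^ m) (res_str 𝒮 h' r₀)
  have h2 : (𝒮.str.app (op (S.basicOpen r₀))).hom (v ^ m) * ψ' ((𝒮.str.app (op l'.1)).hom r₀ ^ m) = 1 := by
    rw [h1, ← map_mul, ← mul_pow, hv, one_pow, map_one]
  calc res 𝒮 h a = (𝒮.str.app (op (S.basicOpen r₀))).hom (v ^ m) *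
        (res 𝒮 h a * ψ' ((𝒮.str.app (op l'.1)).hom r₀ ^ m)) := by
          rw [mul_left_comm, h2, mul_one]
    _ = (𝒮.str.app (op (S.basicOpen r₀))).hom (v ^ m) *
        ∑ n, ψ' ((𝒮.str.app (op l'.1)).hom (r n)) * ψ' (rGn 𝒮 hft l' n).1 := by
          rw [← hxi, hr, map_sum]
          simp only [map_mul]
    _ = _ := by
          rw [Finset.mul_sum]
          refine Finset.sum_congr rfl fun n _ => ?_
          rw [← mul_assoc, map_mul]
          exact congrArg (fun z => _ * z * _) (res_str 𝒮 h' (r n))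

include hft in
/-- the linear system of a relative Proj -/
def data : LocData p where
  ι := Ix 𝒮
  D c := D 𝒮 p chart c.1 c.2.1
  cover y := by
    obtain ⟨U, hU, hyU, -⟩ := exists_isAffineOpen_mem_and_subset (x := p y) (U := ⊤) trivial
    obtain ⟨T, hT, hcov⟩ := exists_finset_cover 𝒮 hgen hft U hU
    obtain ⟨t, ht, hy⟩ := hcov ((chart U hU).hom ⟨y, hyU⟩)
    exact ⟨⟨⟨U, hU⟩, t, hT t ht⟩, ⟨y, hyU⟩, hy, rfl⟩
  g c d := rs (inf_le_inf_left _ (D_le 𝒮 p chart d.1 d.2.1)) (ratio 𝒮 p chart hP c d.1 d.2)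
  κ := S.affineOpens
  W i := i.1
  affine i := i.2
  coverS x := by
    obtain ⟨U, hU, hxU, -⟩ := exists_isAffineOpen_mem_and_subset (x := x) (U := ⊤) trivial
    exact ⟨⟨U, hU⟩, hxU⟩
  n i := rN 𝒮 hft i
  t i l c := ratio 𝒮 p chart hP c i (rGn 𝒮 hft i l)
  compat i l c d O hc hd := by
    refine sub_eq_zero.mp (eq_zero_of_germ fun y hy => ?_)
    obtain ⟨k₀, hk1, hk2, hyk₀⟩ := exists_isBas_inter (x := p y) (D_le 𝒮 p chart c.1 _ (hc hy).1)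
      (D_le 𝒮 p chart d.1 _ (hd hy).1)
    obtain ⟨k, hk, hk3, hyk⟩ := exists_isBas_inter (x := p y) hyk₀ (hc hy).2
    let O' : P.Opens := O ⊓ p ⁻¹ᵁ k.1
    have hOc : O' ≤ D 𝒮 p chart k (res 𝒮 (hk1.trans hk) c.2.1) := by
      rw [D_bas 𝒮 p chart hP]; exact inf_le_inf_right _ (hc.trans inf_le_left)
    have hOd : O' ≤ D 𝒮 p chart k (res 𝒮 (hk2.trans hk) d.2.1) := by
      rw [D_bas 𝒮 p chart hP]; exact inf_le_inf_right _ (hd.trans inf_le_left)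
    rw [← germ_rs (inf_le_left : O' ≤ O) _ y ⟨hy, hyk⟩, map_sub, map_mul, rs_rs, rs_rs, rs_rs, rs_rs,
      ratio_spec 𝒮 p chart hP c i (rGn 𝒮 hft i l) k (hk1.trans hk) hk3 O' _ hOc,
      ratio_spec 𝒮 p chart hP d i (rGn 𝒮 hft i l) k (hk2.trans hk) hk3 O' _ hOd,
      ratio_spec 𝒮 p chart hP c d.1 d.2 k (hk1.trans hk) (hk2.trans hk) O' _ hOc,
      ← q_chain 𝒮 p chart (res_mem 𝒮 (hk1.trans hk) c.2.2) (res_mem 𝒮 (hk2.trans hk) d.2.2)
        (res_mem 𝒮 hk3 (rGn 𝒮 hft i l).2) hOc hOd, sub_self, map_zero]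
  overlap i i' l x hx hx' := by
    obtain ⟨k, h, h', hxk⟩ := exists_isBas_inter (x := x) hx hx'
    obtain ⟨r, hr⟩ := exists_res_span 𝒮 hft h h' (rGn 𝒮 hft i l).2
    refine ⟨k.1, h.le, h'.le, r, hxk, fun c => sub_eq_zero.mp (eq_zero_of_germ fun y hy => ?_)⟩
    obtain ⟨m, hm1, hm2, hym⟩ := exists_isBas_inter (x := p y) (D_le 𝒮 p chart c.1 _ hy.1) (show p y ∈ k.1 from hy.2)
    let O' : P.Opens := D 𝒮 p chart c.1 c.2.1 ⊓ p ⁻¹ᵁ m.1
    have hle : O' ≤ D 𝒮 p chart c.1 c.2.1 ⊓ p ⁻¹ᵁ k.1 := inf_le_inf_left _ (p.preimage_mono hm2.le)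
    have hOc : O' ≤ D 𝒮 p chart m (res 𝒮 hm1 c.2.1) := by rw [D_bas 𝒮 p chart hP]
    rw [← germ_rs hle _ y ⟨hy.1, hym⟩, map_sub, map_sum, rs_rs,
      ratio_spec 𝒮 p chart hP c i (rGn 𝒮 hft i l) m hm1 (h.trans hm2) O' _ hOc]
    simp only [map_mul, rs_rs, rs_appLE]
    rw [q_sum 𝒮 p chart (res_mem 𝒮 hm1 c.2.2) hOc hP Finset.univ (fun n => rs hm2.le (r n))
      (fun n => res 𝒮 (h'.trans hm2) (rGn 𝒮 hft i' n).1) (fun n => res_mem 𝒮 _ (rGn 𝒮 hft i' n).2) _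
      (res_mem 𝒮 (h.trans hm2) (rGn 𝒮 hft i l).2) (by
        rw [← res_trans 𝒮 h hm2, hr]
        show (𝒮.res k.2 m.2 hm2.le) (∑ n, _) = _
        rw [map_sum]
        refine Finset.sum_congr rfl fun n _ => ?_
        rw [map_mul]
        exact congrArg₂ (· * ·) (res_str 𝒮 hm2 (r n)) (res_trans 𝒮 h' hm2 _))]
    rw [← Finset.sum_sub_distrib, Finset.sum_eq_zero, map_zero]
    intro n _
    rw [appLE_rs, ratio_spec 𝒮 p chart hP c i' (rGn 𝒮 hft i' n) m hm1 (h'.trans hm2) O' _ hOc, sub_self]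

include hgen hft in
lemma closure_q (i : S.affineOpens) {t : 𝒮.presheaf.obj (op i.1)} (ht : t ∈ 𝒮.deg i.1 i.2 1)
    (z : Away (𝒮.deg i.1 i.2) t) :
    θ 𝒮 p chart ht one_pos (O := D 𝒮 p chart i t) le_rfl z ∈ Subring.closure
      {h | ∃ (a : 𝒮.presheaf.obj (op i.1)) (ha : a ∈ 𝒮.deg i.1 i.2 1), h = q 𝒮 p chart ht ha le_rfl} := by
  classical
  set R := Subring.closure
    {h | ∃ (a : 𝒮.presheaf.obj (op i.1)) (ha : a ∈ 𝒮.deg i.1 i.2 1), h = q 𝒮 p chart ht ha (O := D 𝒮 p chart i t) le_rfl}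
  let Q : 𝒮.presheaf.obj (op i.1) → Prop := fun s => ∀ (k : ℕ) (hk : (DirectSum.decompose (𝒮.deg i.1 i.2) s k : 𝒮.presheaf.obj (op i.1)) ∈ 𝒮.deg i.1 i.2 (k • 1)),
    θ 𝒮 p chart ht one_pos (O := D 𝒮 p chart i t) le_rfl (Away.mk (𝒮.deg i.1 i.2) ht k _ hk) ∈ R
  have hm : ∀ s ∈ Submonoid.closure ((𝒮.deg i.1 i.2 0 : Set _) ∪ (𝒮.deg i.1 i.2 1 : Set _)),
      ∃ k, ∃ hk : s ∈ 𝒮.deg i.1 i.2 (k • 1), θ 𝒮 p chart ht one_pos (O := D 𝒮 p chart i t) le_rfl (Away.mk (𝒮.deg i.1 i.2) ht k s hk) ∈ R := by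
    intro s hs
    induction hs using Submonoid.closure_induction with
    | mem s hs =>
      rcases hs with hs | hs
      · refine ⟨0, by simpa using hs, Subring.subset_closure
          ⟨s * t, by simpa using SetLike.mul_mem_graded hs ht, ?_⟩⟩
        rw [q]
        congr 1
        apply HomogeneousLocalization.val_injective
        rw [Away.val_mk, Away.val_mk, Localization.mk_eq_mk_iff, Localization.r_iff_exists]
        refine ⟨1, ?_⟩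
        simp only [OneMemClass.coe_one, pow_one, pow_zero, one_mul]
        ring
      · exact ⟨1, by simpa using hs, Subring.subset_closure ⟨s, hs, rfl⟩⟩
    | one =>
      refine ⟨0, by simpa using SetLike.one_mem_graded (𝒮.deg i.1 i.2), ?_⟩
      convert one_mem R
      rw [← map_one (θ 𝒮 p chart ht one_pos (O := D 𝒮 p chart i t) le_rfl)]
      congr 1
      apply HomogeneousLocalization.val_injective
      rw [Away.val_mk, HomogeneousLocalization.val_one]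
      simp [Localization.mk_one_eq_algebraMap]
    | mul a b _ _ ha hb =>
      obtain ⟨k, hk, hk'⟩ := ha
      obtain ⟨l, hl, hl'⟩ := hb
      refine ⟨k + l, by rw [add_smul]; exact SetLike.mul_mem_graded hk hl, ?_⟩
      convert mul_mem hk' hl'
      rw [← map_mul]
      congr 1
      apply HomogeneousLocalization.val_injective
      rw [HomogeneousLocalization.val_mul, Away.val_mk, Away.val_mk, Away.val_mk, Localization.mk_mul]
      congr 1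
      exact Subtype.ext (pow_add t k l)
  have h0 : ∀ k (hk : (0 : 𝒮.presheaf.obj (op i.1)) ∈ 𝒮.deg i.1 i.2 (k • 1)),
      θ 𝒮 p chart ht one_pos (O := D 𝒮 p chart i t) le_rfl (Away.mk (𝒮.deg i.1 i.2) ht k 0 hk) ∈ R := by
    intro k hk
    convert zero_mem R
    rw [← map_zero (θ 𝒮 p chart ht one_pos (O := D 𝒮 p chart i t) le_rfl)]
    congr 1
    apply HomogeneousLocalization.val_injective
    rw [Away.val_mk, HomogeneousLocalization.val_zero, Localization.mk_zero]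
  have hall : ∀ s ∈ AddSubgroup.closure
      (↑(Submonoid.closure ((𝒮.deg i.1 i.2 0 : Set (𝒮.presheaf.obj (op i.1))) ∪ (𝒮.deg i.1 i.2 1 : Set (𝒮.presheaf.obj (op i.1))))) : Set (𝒮.presheaf.obj (op i.1))), Q s := by
    intro s hs
    induction hs using AddSubgroup.closure_induction with
    | mem s hs =>
      intro k hk
      obtain ⟨n, hn, hn'⟩ := hm s hs
      by_cases hnk : n = k
      · subst hnk
        simp only [DirectSum.decompose_of_mem_same _ (by simpa using hn : s ∈ 𝒮.deg i.1 i.2 n)]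
        exact hn'
      · simp only [DirectSum.decompose_of_mem_ne _ (by simpa using hn : s ∈ 𝒮.deg i.1 i.2 n) hnk]
        exact h0 k _
    | zero =>
      intro k hk
      simp only [DirectSum.decompose_zero, DirectSum.zero_apply, ZeroMemClass.coe_zero]
      exact h0 k _
    | add a b _ _ ha hb =>
      intro k hk
      convert add_mem (ha k (by simp)) (hb k (by simp)) using 1
      rw [← map_add]
      congr 1
      apply HomogeneousLocalization.val_injective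
      rw [HomogeneousLocalization.val_add, Away.val_mk, Away.val_mk, Away.val_mk, Localization.add_mk_self]
      simp
    | neg a _ ha =>
      intro k hk
      convert neg_mem (ha k (by simp)) using 1
      rw [← map_neg]
      congr 1
      apply HomogeneousLocalization.val_injective
      rw [HomogeneousLocalization.val_neg, Away.val_mk, Away.val_mk, Localization.neg_mk]
      rw [DirectSum.decompose_neg]
      rfl
  obtain ⟨k, s, hs, rfl⟩ := Away.mk_surjective (𝒮.deg i.1 i.2) ht z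
  have h1 : s ∈ Subring.closure ((𝒮.deg i.1 i.2 0 : Set _) ∪ (𝒮.deg i.1 i.2 1 : Set _)) := by
    rw [hgen i.1 i.2]; exact Subring.mem_top s
  have h2 := hall s (Subring.mem_closure_iff.mp h1) k
  simp only [DirectSum.decompose_of_mem_same _ (by simpa using hs : s ∈ 𝒮.deg i.1 i.2 k)] at h2
  exact h2 hs

include hP hgen hft in
theorem data_isGood [QuasiCompact p] : (data 𝒮 p chart hP hgen hft).toLinSys.IsGood := by
  classical
  let T := data 𝒮 p chart hP hgen hft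
  let L := T.toLinSys
  refine L.isGood_of_local fun y => ?_
  obtain ⟨U, hU, hyU, -⟩ := exists_isAffineOpen_mem_and_subset (x := p y) (U := ⊤) trivial
  refine ⟨U, hU, hyU, ?_⟩
  let i : S.affineOpens := ⟨U, hU⟩
  obtain ⟨T₀, hT₀, hcov⟩ := exists_finset_cover 𝒮 hgen hft U hU
  obtain ⟨t, ht0, hyt⟩ := hcov ((chart U hU).hom ⟨y, hyU⟩)
  have ht : t ∈ 𝒮.deg i.1 i.2 1 := hT₀ t ht0
  have fam : ∀ (a : 𝒮.presheaf.obj (op i.1)) (ha : a ∈ 𝒮.deg i.1 i.2 1), ∃ s : L.alg U, s ∈ L.deg U 1 ∧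
      ∀ (c : Ix 𝒮) (k : S.affineOpens) (h₁ : IsBas c.1 k) (h₂ : IsBas i k) (O : P.Opens) (hO : O ≤ L.pc c U)
        (hk : O ≤ D 𝒮 p chart k (res 𝒮 h₁ c.2.1)),
        rs hO (PowerSeries.coeff 1 (s.1 c)) = q 𝒮 p chart (res_mem 𝒮 h₁ c.2.2) (res_mem 𝒮 h₂ ha) hk := by
    intro a ha
    obtain ⟨r, hr⟩ := rGn_span 𝒮 hft i ha
    have he : T.comb i (le_refl U) r ∈ L.E U := T.comb_mem_E _ r
    refine ⟨L.sec he, L.sec_mem_deg he, fun c k h₁ h₂ O hO hk => ?_⟩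
    show rs hO (PowerSeries.coeff 1 (L.mon _ c)) = _
    rw [L.coeff_mon, if_pos rfl]
    show rs hO (T.comb i (le_refl U) r c) = _
    rw [q_sum 𝒮 p chart (res_mem 𝒮 h₁ c.2.2) hk hP Finset.univ (fun n => rs h₂.le (r n))
      (fun n => res 𝒮 h₂ (rGn 𝒮 hft i n).1) (fun n => res_mem 𝒮 _ (rGn 𝒮 hft i n).2) _
      (res_mem 𝒮 h₂ ha) (by
        conv_lhs => rw [hr]
        show (𝒮.res i.2 k.2 h₂.le) (∑ n, _) = _
        rw [map_sum]
        refine Finset.sum_congr rfl fun n _ => ?_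
        rw [map_mul]
        exact congrArg (· * _) (res_str 𝒮 h₂ (r n)))]
    refine (map_sum (rs hO) _ _).trans (Finset.sum_congr rfl fun n _ => ?_)
    refine (map_mul (rs hO) _ _).trans ?_
    refine congrArg₂ (· * ·) ?_ ?_
    · exact (rs_appLE _ _ _ _).trans (appLE_rs _ _ _ _).symm
    · exact (rs_rs _ _ _).trans (ratio_spec 𝒮 p chart hP c i (rGn 𝒮 hft i n) k h₁ h₂ O _ hk)
  obtain ⟨e, he, hec⟩ := fam t ht
  have hloc : L.loc U 1 e = D 𝒮 p chart i t := by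
    refine TopologicalSpace.Opens.ext (Set.ext fun z => ?_)
    constructor
    · intro hz
      obtain ⟨(c : Ix 𝒮), hc⟩ := Opens.mem_iSup.mp hz
      have hzc : z ∈ L.pc c U := P.basicOpen_le _ hc
      obtain ⟨k, h₁, h₂, hzk⟩ := exists_isBas_inter (x := p z) (j := i) (D_le 𝒮 p chart c.1 _ hzc.1) hzc.2
      have hle : D 𝒮 p chart k (res 𝒮 h₁ c.2.1) ≤ L.pc c U := by
        rw [D_bas 𝒮 p chart hP]; exact inf_le_inf_left _ (p.preimage_mono h₂.le)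
      have hzD : z ∈ D 𝒮 p chart k (res 𝒮 h₁ c.2.1) := by rw [D_bas 𝒮 p chart hP]; exact ⟨hzc.1, hzk⟩
      have h3 : z ∈ P.basicOpen (rs hle (PowerSeries.coeff 1 (e.1 c))) := by
        rw [Scheme.basicOpen_res]; exact ⟨hzD, hc⟩
      rw [hec c k h₁ h₂ _ hle le_rfl, ← inf_D_eq_basicOpen 𝒮 p chart, D_bas 𝒮 p chart hP h₂] at h3
      exact h3.2.1
    · intro hz
      let c₀ : Ix 𝒮 := ⟨i, t, ht⟩
      refine Opens.mem_iSup.mpr ⟨c₀, ?_⟩
      have hle : D 𝒮 p chart i (res 𝒮 (IsBas.refl i) t) ≤ L.pc c₀ U := by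
        rw [D_bas 𝒮 p chart hP]; exact le_rfl
      have hzD : z ∈ D 𝒮 p chart i (res 𝒮 (IsBas.refl i) t) := by
        rw [D_bas 𝒮 p chart hP]; exact ⟨hz, D_le 𝒮 p chart i t hz⟩
      refine L.le_basicOpen_of_isUnit hle ?_ hzD
      rw [hec c₀ i (IsBas.refl i) (IsBas.refl i) _ hle le_rfl, q_self]
      exact isUnit_one
  have haff : IsAffineOpen (D 𝒮 p chart i t) :=
    ((Proj.isAffineOpen_basicOpen _ t ht one_pos).preimage (chart U hU).hom).image_of_isOpenImmersion _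
  have hbij : Function.Surjective (θ 𝒮 p chart ht one_pos (O := D 𝒮 p chart i t) le_rfl) := by
    set O := D 𝒮 p chart i t
    have hspec := θ_spec 𝒮 p chart ht one_pos (O := O) le_rfl
    set m := toSpecOf (O.topIso.inv.hom.comp (θ 𝒮 p chart ht one_pos (O := O) le_rfl))
    haveI : IsOpenImmersion (mor 𝒮 p chart i (D_le 𝒮 p chart i t) : O.toScheme ⟶ _) := by
      rw [mor]; infer_instance
    haveI : IsOpenImmersion (m ≫ Proj.awayι (𝒮.deg i.1 i.2) t ht one_pos) := by rw [hspec]; infer_instance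
    haveI : IsOpenImmersion m := IsOpenImmersion.of_comp m (Proj.awayι (𝒮.deg i.1 i.2) t ht one_pos)
    haveI : Surjective m := ⟨fun w => by
      have hw : Proj.awayι (𝒮.deg i.1 i.2) t ht one_pos w ∈ Proj.basicOpen (𝒮.deg i.1 i.2) t := by
        rw [← Proj.opensRange_awayι (𝒮.deg i.1 i.2) t ht one_pos]; exact ⟨w, rfl⟩
      let z : (p ⁻¹ᵁ U).toScheme := (chart U hU).inv (Proj.awayι (𝒮.deg i.1 i.2) t ht one_pos w)
      have hz : (chart U hU).hom z = Proj.awayι (𝒮.deg i.1 i.2) t ht one_pos w := by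
        rw [← Scheme.Hom.comp_apply, (chart U hU).inv_hom_id]; rfl
      have hzO : z.1 ∈ O := ⟨z, (show (chart U hU).hom z ∈ Proj.basicOpen (𝒮.deg i.1 i.2) t by rw [hz]; exact hw), rfl⟩
      refine ⟨⟨z.1, hzO⟩, (Proj.awayι (𝒮.deg i.1 i.2) t ht one_pos).isOpenEmbedding.injective ?_⟩
      rw [← Scheme.Hom.comp_apply, hspec, mor, Scheme.Hom.comp_apply,
        show P.homOfLE (D_le 𝒮 p chart i t) ⟨z.1, hzO⟩ = z from Subtype.ext (Scheme.homOfLE_apply _ _), hz]⟩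
    haveI : IsIso m := (isIso_iff_isOpenImmersion_and_surjective m).mpr ⟨inferInstance, inferInstance⟩
    haveI : IsAffine O.toScheme := haff
    have hm : IsIso m := inferInstance
    have h0 : IsIso (Spec.map (CommRingCat.ofHom (O.topIso.inv.hom.comp (θ 𝒮 p chart ht one_pos (O := O) le_rfl)))) :=
      @IsIso.of_isIso_comp_left _ _ _ _ _ O.toScheme.toSpecΓ _ _ hm
    have h2 := (isIso_SpecMap_iff.mp h0).2
    intro w
    obtain ⟨x, hx⟩ := h2 (O.topIso.inv w)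
    exact ⟨x, (ConcreteCategory.bijective_of_isIso O.topIso.inv).1 hx⟩
  refine ⟨e, he, by rw [hloc]; exact ⟨⟨y, hyU⟩, hyt, rfl⟩, hloc ▸ haff, ?_⟩
  refine L.gen_of_generators he {h | ∃ (a : 𝒮.presheaf.obj (op i.1)) (ha : a ∈ 𝒮.deg i.1 i.2 1),
    h = q 𝒮 p chart ht ha hloc.le} ?_ ?_
  · rw [eq_top_iff]
    intro h _
    obtain ⟨z, hz⟩ := hbij (rs hloc.ge h)
    have h1 := closure_q 𝒮 p chart hgen hft i ht z
    rw [hz] at h1
    have h2 : rs hloc.le (rs hloc.ge h) ∈ (Subring.closure {h | ∃ (a : 𝒮.presheaf.obj (op i.1)) (ha : a ∈ 𝒮.deg i.1 i.2 1),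
        h = q 𝒮 p chart ht ha (O := D 𝒮 p chart i t) le_rfl}).map (rs hloc.le) := Subring.mem_map.mpr ⟨_, h1, rfl⟩
    rw [RingHom.map_closure] at h2
    change rs hloc.le (rs hloc.ge h) ∈ _ at h2
    rw [rs_rs, rs_refl] at h2
    refine Subring.closure_mono ?_ h2
    rintro _ ⟨_, ⟨a, ha, rfl⟩, rfl⟩
    exact Or.inr ⟨a, ha, rs_q 𝒮 p chart ht ha _ _⟩
  · rintro h ⟨a, ha, rfl⟩
    obtain ⟨s, hs, hsc⟩ := fam a ha
    refine ⟨1, s, hs, fun c => ?_⟩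
    rw [pow_one]
    let B := P.basicOpen (PowerSeries.coeff 1 (e.1 c))
    have hB : B ≤ L.pc c U := P.basicOpen_le _
    show rs (L.loc_sub 1 e c) (q 𝒮 p chart ht ha hloc.le) * rs hB _ = rs hB _
    refine sub_eq_zero.mp (eq_zero_of_germ fun z hz => ?_)
    obtain ⟨k, h₁, h₂, hzk⟩ := exists_isBas_inter (x := p z) (i := (c : Ix 𝒮).1) (j := i)
      (D_le 𝒮 p chart _ _ (hB hz).1) (hB hz).2
    let O' : P.Opens := B ⊓ p ⁻¹ᵁ k.1
    have hOc : O' ≤ D 𝒮 p chart k (res 𝒮 h₁ (c : Ix 𝒮).2.1) := by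
      rw [D_bas 𝒮 p chart hP]; exact inf_le_inf_right _ (hB.trans inf_le_left)
    have hOt : O' ≤ D 𝒮 p chart k (res 𝒮 h₂ t) := by
      rw [D_bas 𝒮 p chart hP]; exact inf_le_inf_right _ ((L.loc_sub 1 e c).trans hloc.le)
    rw [← germ_rs (inf_le_left : O' ≤ B) _ z ⟨hz, hzk⟩, map_sub, map_mul, rs_rs, rs_rs, rs_rs, rs_q,
      hec c k h₁ h₂ O' _ hOc, hsc c k h₁ h₂ O' _ hOc, ← q_bas 𝒮 p chart hP h₂ ht ha hOt,
      mul_comm, ← q_chain 𝒮 p chart (res_mem 𝒮 h₁ (c : Ix 𝒮).2.2) (res_mem 𝒮 h₂ ht) (res_mem 𝒮 h₂ ha) hOc hOt,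
      sub_self, map_zero]

end LinSysLib.RelP

namespace LinSysLib

/-- a projective morphism has a good linear system -/
theorem exists_isGood_of_isProjective {X S : Scheme.{u}} {f : X ⟶ S} [QuasiCompact f] (hf : RelProj.IsProjective f) :
    ∃ T : LocData f, IsProper f ∧ (T.toLinSys).IsGood := by
  haveI hfp := RelProjLib.isProper_of_isProjective hf
  obtain ⟨𝒮, P, p, chart, e, hgen, hft, hP, hef⟩ := hf
  haveI : IsProper p := RelProjLib.isProper_of_isProjective ⟨𝒮, P, p, chart, Iso.refl P, hgen, hft, hP, Category.id_comp p⟩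
  let T := RelP.data 𝒮 p chart hP hgen hft
  have w : e.hom ≫ p = f ≫ 𝟙 S := by rw [hef, Category.comp_id]
  haveI : IsClosedImmersion (pullback.lift e.hom f w) := by
    have : IsClosedImmersion (pullback.lift e.hom f w ≫ pullback.fst p (𝟙 S)) := by
      rw [pullback.lift_fst]; infer_instance
    exact IsClosedImmersion.of_comp _ (pullback.fst p (𝟙 S))
  exact ⟨T.comap e.hom (𝟙 S) f w, hfp, T.comap_isGood e.hom (𝟙 S) f w (RelP.data_isGood 𝒮 p chart hP hgen hft)⟩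

end LinSysLib

end
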