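import Groth.Agent.LinSysLib.Criterion
import Groth.Agent.RpushLib.HBase

/-!
# Pulling back and multiplying linear systems
-/

set_option autoImplicit false
universe u

open CategoryTheory CategoryTheory.Limits AlgebraicGeometry TopologicalSpace Opposite

noncomputable section

namespace LinSysLib

lemma rs_appLE {X Y : Scheme.{u}} (h : Y ⟶ X) {U : X.Opens} {O O' : Y.Opens} (e : O ≤ h ⁻¹ᵁ U) (i : O' ≤ O)
    (a : Γ(X, U)) : rs i ((h.appLE U O e).hom a) = (h.appLE U O' (i.trans e)).hom a := by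
  rw [rs, ← CommRingCat.comp_apply, Scheme.Hom.appLE_map]

lemma appLE_rs {X Y : Scheme.{u}} (h : Y ⟶ X) {U V : X.Opens} (i : V ≤ U) {O : Y.Opens} (e : O ≤ h ⁻¹ᵁ V)
    (a : Γ(X, U)) : (h.appLE V O e).hom (rs i a) = (h.appLE U O (e.trans (h.preimage_mono i))).hom a := by
  rw [rs, ← CommRingCat.comp_apply, Scheme.Hom.map_appLE]

lemma appLE_comm {X S X' S' : Scheme.{u}} {f : X ⟶ S} {g : S' ⟶ S} {h : X' ⟶ X} {f' : X' ⟶ S'}
    (w : h ≫ f = f' ≫ g) {U : S.Opens} {P : X.Opens} {U' : S'.Opens} {O : X'.Opens} (hP : P ≤ f ⁻¹ᵁ U)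
    (hU : U' ≤ g ⁻¹ᵁ U) (hO : O ≤ h ⁻¹ᵁ P) (hO' : O ≤ f' ⁻¹ᵁ U') (r : Γ(S, U)) :
    (f'.appLE U' O hO').hom ((g.appLE U U' hU).hom r) = (h.appLE P O hO).hom ((f.appLE U P hP).hom r) := by
  rw [← CommRingCat.comp_apply, ← CommRingCat.comp_apply, Scheme.Hom.appLE_comp_appLE,
    Scheme.Hom.appLE_comp_appLE]
  simp only [w]

/-- functions on the trace of a product of affine opens on a closed subscheme of a fibre product -/
theorem affine_and_generated {X₁ X₂ S X' : Scheme.{u}} {f₁ : X₁ ⟶ S} {f₂ : X₂ ⟶ S} (h₁ : X' ⟶ X₁) (h₂ : X' ⟶ X₂)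
    (w : h₁ ≫ f₁ = h₂ ≫ f₂) [IsClosedImmersion (pullback.lift h₁ h₂ w)] {V : S.Opens} (hV : IsAffineOpen V)
    {Z₁ : X₁.Opens} (hZ₁ : IsAffineOpen Z₁) (e₁ : Z₁ ≤ f₁ ⁻¹ᵁ V)
    {Z₂ : X₂.Opens} (hZ₂ : IsAffineOpen Z₂) (e₂ : Z₂ ≤ f₂ ⁻¹ᵁ V) {O : X'.Opens} (hO : O = h₁ ⁻¹ᵁ Z₁ ⊓ h₂ ⁻¹ᵁ Z₂) :
    IsAffineOpen O ∧
      Subring.closure (Set.range (h₁.appLE Z₁ O (hO.le.trans inf_le_left)).hom ∪
        Set.range (h₂.appLE Z₂ O (hO.le.trans inf_le_right)).hom) = ⊤ := by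
  subst hO
  let k := pullback.lift h₁ h₂ w
  have H := IsPullback.of_hasPullback f₁ f₂
  have hQ := RpushLib.isAffineOpen_fibre H hV hZ₂ e₂ hZ₁ e₁
  have hP := RpushLib.isPushout_sections H hV hZ₂ e₂ hZ₁ e₁
  set Q := pullback.fst f₁ f₂ ⁻¹ᵁ Z₁ ⊓ pullback.snd f₁ f₂ ⁻¹ᵁ Z₂
  have hkQ : k ⁻¹ᵁ Q = h₁ ⁻¹ᵁ Z₁ ⊓ h₂ ⁻¹ᵁ Z₂ := by
    simp only [Q, Scheme.Hom.preimage_inf, ← Scheme.Hom.comp_preimage, k, pullback.lift_fst, pullback.lift_snd]
  refine ⟨hkQ ▸ hQ.preimage k, ?_⟩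
  set R := Subring.closure (Set.range (h₁.appLE Z₁ _ (inf_le_left : h₁ ⁻¹ᵁ Z₁ ⊓ h₂ ⁻¹ᵁ Z₂ ≤ _)).hom ∪
    Set.range (h₂.appLE Z₂ _ (inf_le_right : h₁ ⁻¹ᵁ Z₁ ⊓ h₂ ⁻¹ᵁ Z₂ ≤ _)).hom) with hR
  let ρ := k.appLE Q (h₁ ⁻¹ᵁ Z₁ ⊓ h₂ ⁻¹ᵁ Z₂) hkQ.ge
  have hρ : Function.Surjective ρ := by
    have h1 : IsIso (X'.presheaf.map (homOfLE hkQ.ge).op) := by
      have : IsIso (homOfLE hkQ.ge) := ⟨homOfLE hkQ.le, rfl, rfl⟩
      infer_instance
    simp only [ρ, Scheme.Hom.appLE, CommRingCat.hom_comp, RingHom.coe_comp]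
    exact (ConcreteCategory.bijective_of_isIso (X'.presheaf.map (homOfLE hkQ.ge).op)).2.comp (k.app_surjective Q hQ)
  let A := Subring.closure (Set.range ((pullback.fst f₁ f₂).appLE Z₁ Q inf_le_left).hom ∪
    Set.range ((pullback.snd f₁ f₂).appLE Z₂ Q inf_le_right).hom)
  have hA : A = ⊤ := by
    let i₁ : Γ(X₁, Z₁) ⟶ CommRingCat.of A := CommRingCat.ofHom
      (((pullback.fst f₁ f₂).appLE Z₁ Q inf_le_left).hom.codRestrict A fun x => Subring.subset_closure (Or.inl ⟨x, rfl⟩))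
    let i₂ : Γ(X₂, Z₂) ⟶ CommRingCat.of A := CommRingCat.ofHom
      (((pullback.snd f₁ f₂).appLE Z₂ Q inf_le_right).hom.codRestrict A fun x => Subring.subset_closure (Or.inr ⟨x, rfl⟩))
    have hcomm : f₁.appLE V Z₁ e₁ ≫ i₁ = f₂.appLE V Z₂ e₂ ≫ i₂ :=
      CommRingCat.hom_ext (RingHom.ext fun x => Subtype.ext (DFunLike.congr_fun (congrArg CommRingCat.Hom.hom hP.w) x))
    let l := hP.desc i₁ i₂ hcomm
    have hl : l ≫ CommRingCat.ofHom A.subtype = 𝟙 _ := by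
      refine hP.hom_ext ?_ ?_
      · rw [← Category.assoc, hP.inl_desc, Category.comp_id]; rfl
      · rw [← Category.assoc, hP.inr_desc, Category.comp_id]; rfl
    rw [eq_top_iff]
    intro x _
    have := DFunLike.congr_fun (congrArg CommRingCat.Hom.hom hl) x
    change (l x : A).1 = x at this
    exact this ▸ (l x : A).2
  rw [eq_top_iff]
  intro x _
  obtain ⟨q, rfl⟩ := hρ x
  have hq : q ∈ A := hA ▸ Subring.mem_top q
  have hle : A ≤ R.comap ρ.hom := by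
    refine Subring.closure_le.mpr ?_
    rintro _ (⟨a, rfl⟩ | ⟨a, rfl⟩)
    · refine Subring.subset_closure (Or.inl ⟨a, ?_⟩)
      show _ = ρ _
      rw [← CommRingCat.comp_apply, Scheme.Hom.appLE_comp_appLE]
      simp only [k, pullback.lift_fst]
    · refine Subring.subset_closure (Or.inr ⟨a, ?_⟩)
      show _ = ρ _
      rw [← CommRingCat.comp_apply, Scheme.Hom.appLE_comp_appLE]
      simp only [k, pullback.lift_snd]
  exact hle hq

namespace LinSys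

variable {X S X' S' : Scheme.{u}} {f : X ⟶ S} {f' : X' ⟶ S'}

/-- transporting sections of the algebra along a morphism, multiplied by a family -/
theorem exists_transfer (L : LinSys f) (L' : LinSys f') (h : X' ⟶ X) (g : S' ⟶ S) (w : h ≫ f = f' ≫ g)
    (σ : L'.ι → L.ι) (hσ : ∀ c, L'.D c ≤ h ⁻¹ᵁ L.D (σ c)) {U : S.Opens} {U' : S'.Opens} (hU : U' ≤ g ⁻¹ᵁ U)
    (μ : ∀ c, Γ(X', L'.pc c U'))
    (hE : ∀ (W : S.Opens) (W' : S'.Opens), W ≤ U → ∀ (hW' : W' ≤ U') (hg : W' ≤ g ⁻¹ᵁ W)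
      (e : ∀ c, Γ(X, L.pc c W)), e ∈ L.E W → ∀ (he : ∀ c, L'.pc c W' ≤ h ⁻¹ᵁ L.pc (σ c) W),
      (fun c => rs (L'.pc_mono c hW') (μ c) * (h.appLE (L.pc (σ c) W) (L'.pc c W') (he c)).hom (e (σ c))) ∈ L'.E W')
    {k : ℕ} {s : L.alg U} (hs : s ∈ L.deg U k) :
    ∃ s' : L'.alg U', s' ∈ L'.deg U' k ∧ ∀ (c : L'.ι) (hc : L'.pc c U' ≤ h ⁻¹ᵁ L.pc (σ c) U),
      PowerSeries.coeff k (s'.1 c) =
        μ c ^ k * (h.appLE (L.pc (σ c) U) (L'.pc c U') hc).hom (PowerSeries.coeff k (s.1 (σ c))) := by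
  classical
  have hpc : ∀ (W : S.Opens) (W' : S'.Opens), W' ≤ g ⁻¹ᵁ W → ∀ c, L'.pc c W' ≤ h ⁻¹ᵁ L.pc (σ c) W := by
    intro W W' hg c y hy
    refine ⟨hσ c (L'.pc_le c W' hy), ?_⟩
    show (h ≫ f) y ∈ W
    rw [w]
    exact hg (L'.pc_le_preimage c W' hy)
  let Ψ : ∀ (W : S.Opens) (W' : S'.Opens), W' ≤ U' → W' ≤ g ⁻¹ᵁ W → (L.Amb W →+* L'.Amb W') := fun W W' hW' hg =>
    Pi.ringHom fun c => ((PowerSeries.rescale (rs (L'.pc_mono c hW') (μ c))).comp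
      (PowerSeries.map (h.appLE (L.pc (σ c) W) (L'.pc c W') (hpc W W' hg c)).hom)).comp
      (Pi.evalRingHom (fun d => PowerSeries Γ(X, L.pc d W)) (σ c))
  have hcoeff : ∀ W W' hW' hg (z : L.Amb W) c j, PowerSeries.coeff j (Ψ W W' hW' hg z c) =
      rs (L'.pc_mono c hW') (μ c) ^ j * (h.appLE (L.pc (σ c) W) (L'.pc c W') (hpc W W' hg c)).hom
        (PowerSeries.coeff j (z (σ c))) := fun W W' hW' hg z c j => by
    show PowerSeries.coeff j (PowerSeries.rescale _ (PowerSeries.map _ (z (σ c)))) = _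
    rw [PowerSeries.coeff_rescale, PowerSeries.coeff_map]
  have hgen : ∀ W W' (hW : W ≤ U) hW' hg, L.gen W ≤ (L'.gen W').comap (Ψ W W' hW' hg) := by
    intro W W' hW hW' hg
    refine Subring.closure_le.mpr ?_
    rintro _ (⟨r, rfl⟩ | ⟨e, he, rfl⟩)
    · refine Subring.subset_closure (Or.inl ⟨(g.appLE W W' hg).hom r, L'.amb_ext fun c j => ?_⟩)
      rw [hcoeff W W' hW' hg, ambStr_apply, ambStr_apply, PowerSeries.coeff_C, PowerSeries.coeff_C]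
      split_ifs with hj
      · subst hj
        rw [pow_zero, one_mul]
        exact appLE_comm w (L.pc_le_preimage (σ c) W) hg (hpc W W' hg c) (L'.pc_le_preimage c W') r
      · rw [map_zero, mul_zero]
    · refine Subring.subset_closure (Or.inr ⟨_, hE W W' hW hW' hg e he (hpc W W' hg), L'.amb_ext fun c j => ?_⟩)
      rw [hcoeff W W' hW' hg, coeff_mon, coeff_mon]
      split_ifs with hj
      · subst hj; rw [pow_one]
      · rw [map_zero, mul_zero]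
  have hmem : Ψ U U' le_rfl hU s.1 ∈ L'.alg U' := by
    intro x hx
    obtain ⟨V, hV, hxV, hP⟩ := s.2 (g x) (hU hx)
    refine ⟨U' ⊓ g ⁻¹ᵁ V, inf_le_left, ⟨hx, hxV⟩, ?_⟩
    have h1 : Ψ V (U' ⊓ g ⁻¹ᵁ V) inf_le_left inf_le_right (L.ambRes hV s.1) =
        L'.ambRes inf_le_left (Ψ U U' le_rfl hU s.1) := by
      refine L'.amb_ext fun c j => ?_
      rw [hcoeff V _ inf_le_left inf_le_right, L.coeff_ambRes, L'.coeff_ambRes, hcoeff U U' le_rfl hU, map_mul, map_pow, rs_rs, rs_appLE, appLE_rs]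
    rw [← h1]
    exact hgen V _ hV inf_le_left inf_le_right hP
  refine ⟨⟨_, hmem⟩, fun c j hj => ?_, fun c hc => ?_⟩
  · show PowerSeries.coeff j (Ψ U U' le_rfl hU s.1 c) = 0
    rw [hcoeff U U' le_rfl hU, hs (σ c) j hj, map_zero, mul_zero]
  · show PowerSeries.coeff k (Ψ U U' le_rfl hU s.1 c) = _
    rw [hcoeff U U' le_rfl hU, rs_refl]

end LinSys

namespace LocData

variable {X S : Scheme.{u}} {f : X ⟶ S} (T : LocData f)

lemma isLoc_add {V : S.Opens} {e e' : T.Fam V} (he : T.IsLoc e) (he' : T.IsLoc e') :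
    T.IsLoc (fun c => e c + e' c) := by
  intro x hx
  obtain ⟨V₁, i₁, a, ha, hx₁, h₁⟩ := he x hx
  obtain ⟨V₂, i₂, b, hb, hx₂, r, hr⟩ := he' x hx
  choose Vj hja hjb rj hxj hj using fun j : Fin (T.n b) => T.overlap b a j x (hb hx₂) (ha hx₁)
  let V' : S.Opens := V₁ ⊓ V₂ ⊓ Finset.univ.inf Vj
  have hxV' : x ∈ V' := ⟨⟨hx₁, hx₂⟩, by
    rw [SetLike.mem_coe, ← SetLike.mem_coe, Opens.coe_finset_inf]
    simp only [Finset.inf_set_eq_iInter, Set.mem_iInter]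
    exact fun j _ => hxj j⟩
  have hV₁ : V' ≤ V₁ := inf_le_left.trans inf_le_left
  have hV₂ : V' ≤ V₂ := inf_le_left.trans inf_le_right
  refine ⟨V', hV₁.trans i₁, a, hV₁.trans ha, hxV', ?_⟩
  have h2 : T.InSpan a (hV₁.trans ha) (T.fres (hV₂.trans i₂) e') := by
    refine ⟨fun i' => ∑ j, rs hV₂ (r j) * rs (inf_le_right.trans (Finset.inf_le (Finset.mem_univ j))) (rj j i'), ?_⟩
    rw [← T.fres_fres hV₂ i₂, hr, T.fres_comb]
    funext c
    simp only [comb, map_sum, Finset.sum_mul]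
    rw [Finset.sum_comm]
    refine Finset.sum_congr rfl fun j _ => ?_
    have hq : V' ≤ Vj j := inf_le_right.trans (Finset.inf_le (Finset.mem_univ j))
    have h3 : T.fres hq (T.fres (hja j) (T.gn b j)) = T.fres hq (T.comb a (hjb j) (rj j)) :=
      congrArg (T.fres hq) (funext (hj j))
    rw [T.fres_fres, T.fres_comb] at h3
    rw [congrFun h3 c, comb, Finset.mul_sum]
    exact Finset.sum_congr rfl fun i' _ => by rw [map_mul, mul_assoc]
  have h1 : T.InSpan a (hV₁.trans ha) (T.fres (hV₁.trans i₁) e) := by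
    have := InSpan.res T h₁ hV₁
    rwa [T.fres_fres] at this
  have := InSpan.add T h1 h2
  simp only [fres, ← map_add] at this
  exact this

variable [QuasiCompact f]

lemma isLoc_coeff_one {V : S.Opens} (hV : IsAffineOpen V) {e : T.toLinSys.alg V} (he : e ∈ T.toLinSys.deg V 1) :
    T.IsLoc (V := V) (fun c => PowerSeries.coeff 1 (e.1 c)) := by
  classical
  obtain ⟨P, rfl⟩ := T.toLinSys.Φalg_surjective hV e
  let tg : Fin (T.toLinSys.nGen hV) → T.Fam V := T.toLinSys.tGen hV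
  have h1 : (fun c => PowerSeries.coeff 1 ((T.toLinSys.Φalg hV P).1 c) : T.Fam V) = fun c =>
      ∑ j, T.base.str c V ((MvPolynomial.homogeneousComponent 1 P).coeff (Finsupp.single j 1)) *
        tg j c := by
    funext c
    refine (T.toLinSys.coeff_Φ hV P c 1).trans ?_
    rw [LinSys.eq_sum_of_homogeneous_one (MvPolynomial.homogeneousComponent 1 P)
      (MvPolynomial.homogeneousComponent_isHomogeneous 1 P), map_sum]
    refine Finset.sum_congr rfl fun j _ => ?_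
    rw [map_mul, LinSys.evalC_C, LinSys.evalC_X, ← LinSys.eq_sum_of_homogeneous_one
      (MvPolynomial.homogeneousComponent 1 P) (MvPolynomial.homogeneousComponent_isHomogeneous 1 P)]
    rfl
  rw [h1]
  have key : ∀ (t : Finset (Fin (T.toLinSys.nGen hV))) (r : Fin (T.toLinSys.nGen hV) → Γ(S, V)),
      T.IsLoc (V := V) (fun c => ∑ j ∈ t, T.base.str c V (r j) * tg j c) := by
    intro t r
    induction t using Finset.induction_on with
    | empty =>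
      intro x hx
      obtain ⟨a, ha⟩ := T.coverS x
      refine ⟨V ⊓ T.W a, inf_le_left, a, inf_le_right, ⟨hx, ha⟩, fun _ => 0, funext fun c => ?_⟩
      simp [fres, comb]
    | insert j t hj ih =>
      simp only [Finset.sum_insert hj]
      refine T.isLoc_add ?_ ih
      intro x hx
      obtain ⟨V', i, a, ha, hxV', q, hq⟩ := (T.toLinSys.tGen_mem hV j : T.IsLoc (V := V) _) x hx
      refine ⟨V', i, a, ha, hxV', fun l => rs i (r j) * q l, ?_⟩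
      rw [← T.fsmul_comb, ← hq]
      exact T.fres_fsmul i (r j) _
  exact key Finset.univ _

end LocData

section comap

variable {X S X' S' : Scheme.{u}} {f : X ⟶ S} (T : LocData f) (h : X' ⟶ X) (g : S' ⟶ S) (f' : X' ⟶ S')
  (w : h ≫ f = f' ≫ g)

include w in
lemma preimage_le_preimage {V' : S'.Opens} {V : S.Opens} (i : V' ≤ g ⁻¹ᵁ V) :
    f' ⁻¹ᵁ V' ≤ h ⁻¹ᵁ (f ⁻¹ᵁ V) := by
  intro y hy
  show (h ≫ f) y ∈ V
  rw [w]
  exact i hy

/-- pulling back -/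
def LocData.comap : LocData f' where
  ι := T.ι
  D c := h ⁻¹ᵁ T.D c
  cover y := T.cover (h y)
  g c d := (h.appLE (T.D c ⊓ T.D d) (h ⁻¹ᵁ T.D c ⊓ h ⁻¹ᵁ T.D d) le_rfl).hom (T.g c d)
  κ := Σ a : T.κ, {V : S'.affineOpens // V.1 ≤ g ⁻¹ᵁ T.W a}
  W p := p.2.1.1
  affine p := p.2.1.2
  coverS x := by
    obtain ⟨a, ha⟩ := T.coverS (g x)
    obtain ⟨V, hV, hxV, hVle⟩ := Opens.isBasis_iff_nbhd.mp S'.isBasis_affineOpens (show x ∈ g ⁻¹ᵁ T.W a from ha)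
    exact ⟨⟨a, ⟨⟨V, hV⟩, hVle⟩⟩, hxV⟩
  n p := T.n p.1
  t p j c := (h.appLE (T.D c ⊓ f ⁻¹ᵁ T.W p.1) (h ⁻¹ᵁ T.D c ⊓ f' ⁻¹ᵁ p.2.1.1)
    (inf_le_inf_left _ (preimage_le_preimage h g f' w p.2.2))).hom (T.t p.1 j c)
  compat p j c d O hc hd := by
    have hO : O ≤ h ⁻¹ᵁ (T.D c ⊓ f ⁻¹ᵁ T.W p.1 ⊓ (T.D d ⊓ f ⁻¹ᵁ T.W p.1)) := le_inf
      (hc.trans (inf_le_inf_left _ (preimage_le_preimage h g f' w p.2.2)))
      (hd.trans (inf_le_inf_left _ (preimage_le_preimage h g f' w p.2.2)))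
    have h1 := congrArg (h.appLE _ O hO).hom
      (T.compat p.1 j c d (T.D c ⊓ f ⁻¹ᵁ T.W p.1 ⊓ (T.D d ⊓ f ⁻¹ᵁ T.W p.1)) inf_le_left inf_le_right)
    simp only [map_mul, appLE_rs] at h1
    simp only [rs_appLE]
    exact h1
  overlap p q j x hxp hxq := by
    obtain ⟨V₀, ha, hb, r, hxV₀, hr⟩ := T.overlap p.1 q.1 j (g x) (p.2.2 hxp) (q.2.2 hxq)
    let V : S'.Opens := p.2.1.1 ⊓ q.2.1.1 ⊓ g ⁻¹ᵁ V₀
    refine ⟨V, inf_le_left.trans inf_le_left, inf_le_left.trans inf_le_right,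
      fun i => (g.appLE V₀ V inf_le_right).hom (r i), ⟨⟨hxp, hxq⟩, hxV₀⟩, fun c => ?_⟩
    have hO : h ⁻¹ᵁ T.D c ⊓ f' ⁻¹ᵁ V ≤ h ⁻¹ᵁ (T.D c ⊓ f ⁻¹ᵁ V₀) :=
      inf_le_inf_left _ (preimage_le_preimage h g f' w inf_le_right)
    have h1 := congrArg (h.appLE _ _ hO).hom (hr c)
    simp only [map_sum, map_mul, appLE_rs] at h1
    simp only [rs_appLE]
    refine h1.trans (Finset.sum_congr rfl fun i _ => ?_)
    rw [appLE_comm w inf_le_right inf_le_right hO inf_le_right]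

theorem LocData.comap_isGood [QuasiCompact f] [QuasiCompact f'] [IsClosedImmersion (pullback.lift h f' w)]
    (hg : T.toLinSys.IsGood) : (T.comap h g f' w).toLinSys.IsGood := by
  refine LinSys.isGood_of_local _ fun y => ?_
  obtain ⟨U, hU, hyU, -⟩ := exists_isAffineOpen_mem_and_subset (x := f (h y)) (U := ⊤) trivial
  obtain ⟨V, hV, hyV, hVle⟩ := Opens.isBasis_iff_nbhd.mp S'.isBasis_affineOpens
    (show f' y ∈ g ⁻¹ᵁ U by
      show (f' ≫ g) y ∈ U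
      rw [← w]; exact hyU)
  refine ⟨V, hV, hyV, ?_⟩
  let T' := T.comap h g f' w
  let L := T.toLinSys
  let L' := T'.toLinSys
  have hpc : ∀ c, L'.pc c V ≤ h ⁻¹ᵁ L.pc c U := fun c => inf_le_inf_left _ (preimage_le_preimage h g f' w hVle)
  have tr : ∀ (k : ℕ) (s : L.alg U), s ∈ L.deg U k → ∃ s' : L'.alg V, s' ∈ L'.deg V k ∧ ∀ c,
      PowerSeries.coeff k (s'.1 c) = (h.appLE (L.pc c U) (L'.pc c V) (hpc c)).hom (PowerSeries.coeff k (s.1 c)) := by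
    intro k s hs
    obtain ⟨s', hs', hc⟩ := LinSys.exists_transfer L L' h g w (fun c => c) (fun c => le_rfl) hVle (fun _ => 1)
      (fun W W' _ hW' hgW e he hle => by
        intro x hx
        obtain ⟨V₀, i, a, ha, hxV₀, r, hr⟩ := (he : T.IsLoc (V := W) e) (g x) (hgW hx)
        obtain ⟨V₁, hV₁, hxV₁, hle₁⟩ := Opens.isBasis_iff_nbhd.mp S'.isBasis_affineOpens
          (show x ∈ W' ⊓ g ⁻¹ᵁ V₀ from ⟨hx, hxV₀⟩)
        have hV₁a : V₁ ≤ g ⁻¹ᵁ T.W a := (hle₁.trans inf_le_right).trans (g.preimage_mono ha)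
        refine ⟨V₁, hle₁.trans inf_le_left, ⟨a, ⟨⟨V₁, hV₁⟩, hV₁a⟩⟩, le_rfl, hxV₁,
          fun l => (g.appLE V₀ V₁ (hle₁.trans inf_le_right)).hom (r l), funext fun c => ?_⟩
        have hO : T'.base.pc c V₁ ≤ h ⁻¹ᵁ T.base.pc c V₀ :=
          inf_le_inf_left _ (preimage_le_preimage h g f' w (hle₁.trans inf_le_right))
        have h1 := congrArg (h.appLE (T.base.pc c V₀) _ hO).hom (congrFun hr c)
        simp only [LocData.fres, LocData.comb, map_sum, map_mul, appLE_rs, map_one, one_mul, rs_appLE] at h1 ⊢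
        refine (rs_appLE _ _ _ _).trans (h1.trans (Finset.sum_congr rfl fun l _ => ?_))
        refine congrArg₂ (· * ·) (appLE_comm w (T.base.pc_le_preimage c V₀) _ hO (T'.base.pc_le_preimage c V₁) _).symm ?_
        show _ = rs _ ((h.appLE _ _ _).hom (T.t a l c))
        rw [rs_appLE]
        rfl) hs
    exact ⟨s', hs', fun c => by rw [hc c (hpc c), one_pow, one_mul]⟩
  obtain ⟨e, he, hye, ha, hgen⟩ := hg U hU (h y) hyU
  obtain ⟨e', he', hec⟩ := tr 1 e he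
  have hbo : ∀ c, X'.basicOpen (PowerSeries.coeff 1 (e'.1 c)) =
      h ⁻¹ᵁ X.basicOpen (PowerSeries.coeff 1 (e.1 c)) ⊓ f' ⁻¹ᵁ V := by
    intro c
    rw [hec c, Scheme.basicOpen_appLE]
    refine TopologicalSpace.Opens.ext (Set.ext fun z => ?_)
    exact ⟨fun hz => ⟨hz.2, hz.1.2⟩, fun hz => ⟨⟨L.pc_le c U (X.basicOpen_le _ hz.1), hz.2⟩, hz.1⟩⟩
  have hloc : L'.loc V 1 e' = h ⁻¹ᵁ L.loc U 1 e ⊓ f' ⁻¹ᵁ V := by
    refine TopologicalSpace.Opens.ext (Set.ext fun z => ?_)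
    constructor
    · intro hz
      obtain ⟨c, hc⟩ := Opens.mem_iSup.mp hz
      rw [hbo] at hc
      exact ⟨Opens.mem_iSup.mpr ⟨c, hc.1⟩, hc.2⟩
    · rintro ⟨hz1, hz2⟩
      obtain ⟨c, hc⟩ := Opens.mem_iSup.mp hz1
      refine Opens.mem_iSup.mpr ⟨c, ?_⟩
      rw [hbo]
      exact ⟨hc, hz2⟩
  obtain ⟨haff, hclo⟩ := affine_and_generated (f₁ := f) (f₂ := g) h f' w hU ha (L.loc_le 1 e) hV hVle hloc
  refine ⟨e', he', by rw [hloc]; exact ⟨hye, hyV⟩, haff,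
    L'.gen_of_generators he' (Set.range (h.appLE (L.loc U 1 e) (L'.loc V 1 e') (hloc.le.trans inf_le_left)).hom)
      (by rw [Set.union_comm]; exact hclo) ?_⟩
  rintro _ ⟨z, rfl⟩
  obtain ⟨k, s, hs, hks0⟩ := hgen z
  have hks : ∀ c, rs (L.loc_sub 1 e c) z * rs (X.basicOpen_le _) (PowerSeries.coeff 1 (e.1 c)) ^ k =
      rs (X.basicOpen_le _) (PowerSeries.coeff k (s.1 c)) := hks0
  obtain ⟨s', hs', hsc⟩ := tr k s hs
  refine ⟨k, s', hs', fun c => ?_⟩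
  let B' := X'.basicOpen (PowerSeries.coeff 1 (e'.1 c))
  have hB' : B' ≤ L'.pc c V := X'.basicOpen_le _
  have hB : B' ≤ h ⁻¹ᵁ X.basicOpen (PowerSeries.coeff 1 (e.1 c)) := (hbo c).le.trans inf_le_left
  show rs (L'.loc_sub 1 e' c) _ * rs hB' (PowerSeries.coeff 1 (e'.1 c)) ^ k = rs hB' _
  have he1 : rs hB' (PowerSeries.coeff 1 (e'.1 c)) =
      (h.appLE (L.pc c U) B' (hB'.trans (hpc c))).hom (PowerSeries.coeff 1 (e.1 c)) := by
    rw [show rs hB' (PowerSeries.coeff 1 (e'.1 c)) =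
      rs hB' ((h.appLE (L.pc c U) (L'.pc c V) (hpc c)).hom (PowerSeries.coeff 1 (e.1 c))) from
        congrArg (rs hB') (hec c), rs_appLE]
  rw [he1, hsc c]
  have h1 := congrArg (h.appLE _ _ hB).hom (hks c)
  simp only [map_mul, map_pow, appLE_rs] at h1
  simp only [rs_appLE]
  exact h1

end comap

end LinSysLib

end
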