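import Groth.Agent.LinSysLib.Chart

/-!
# A universally closed morphism with a good linear system is projective
-/

set_option autoImplicit false
universe u

open CategoryTheory CategoryTheory.Limits AlgebraicGeometry TopologicalSpace Opposite
open RelProjLib ChowLib

noncomputable section

namespace LinSysLib.LinSys

variable {X S : Scheme.{u}} {f : X ⟶ S}

variable (L : LinSys f) in
/-- the structure map into degree zero -/
def strDeg (U : S.Opens) : Γ(S, U) →+* L.deg U 0 where
  toFun r := ⟨L.algStr U r, fun a k hk => by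
    rw [algStr_coe, ambStr_apply, PowerSeries.coeff_C, if_neg hk]⟩
  map_one' := Subtype.ext (map_one _)
  map_mul' x y := Subtype.ext (map_mul _ x y)
  map_zero' := Subtype.ext (map_zero _)
  map_add' x y := Subtype.ext (map_add _ x y)

variable [QuasiCompact f] (L : LinSys f) {U : S.Opens} (hU : IsAffineOpen U) (hg : L.IsGood)
variable [GradedRing (L.deg U)]

lemma chartHom_over :
    L.chartHom hU hg ≫ Proj.toSpecZero (L.deg U) ≫ Spec.map (CommRingCat.ofHom (L.strDeg U)) ≫ hU.fromSpec =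
      (f ⁻¹ᵁ U).ι ≫ f := by
  refine (L.cov hU hg).hom_ext _ _ fun j => ?_
  change X.homOfLE (L.Pj_le_preimage j) ≫ L.chartHom hU hg ≫ _ =
    X.homOfLE (L.Pj_le_preimage j) ≫ (f ⁻¹ᵁ U).ι ≫ f
  rw [← Category.assoc, L.Pj_chartHom, Scheme.homOfLE_ι_assoc, chartJ, pt,
    ← Category.assoc (ptG _ _ _ _ _), ptG_toSpecZero, toSpecOf, Category.assoc, ← Spec.map_comp_assoc,
    ← CommRingCat.ofHom_comp]
  have h : ((L.φ hU j.1.1 (L.Pj_le j)).comp (algebraMap (L.deg U 0) (L.alg U))).comp (L.strDeg U) =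
      (f.appLE U (L.Pj j) (L.Pj_le_preimage j) ≫ (L.Pj j).topIso.inv).hom := by
    refine RingHom.ext fun r => ?_
    rw [CommRingCat.hom_comp, RingHom.comp_apply, RingHom.comp_apply, RingHom.comp_apply]
    change L.φ hU j.1.1 (L.Pj_le j) (L.algStr U r) = _
    rw [L.φ_algStr]
    refine congrArg _ ?_
    rw [str, rs, ← CommRingCat.comp_apply, Scheme.Hom.appLE_map]
  rw [h, CommRingCat.ofHom_hom, Spec.map_comp, Category.assoc, ← Category.assoc (Scheme.toSpecΓ _)]
  refine (Scheme.Opens.toSpecΓ_SpecMap_appLE_assoc f U _ (L.Pj_le_preimage j) _).trans ?_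
  rw [IsAffineOpen.toSpecΓ_fromSpec, Scheme.Hom.resLE_comp_ι]

lemma chartHom_res {V : S.Opens} (hV : IsAffineOpen V) (i : V ≤ U) [GradedRing (L.deg V)]
    (ψ : L.deg U →+*ᵍ L.deg V) (hψ : ∀ s, ψ s = L.algRes i s)
    (hirr : HomogeneousIdeal.irrelevant (L.deg V) ≤ (HomogeneousIdeal.irrelevant (L.deg U)).map ψ) :
    X.homOfLE (f.preimage_mono i) ≫ L.chartHom hU hg = L.chartHom hV hg ≫ Proj.map ψ hirr := by
  refine Scheme.hom_ext_of_forall _ _ fun z => ?_
  obtain ⟨e, he, hye, -, -⟩ := hg V hV z.1 z.2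
  obtain ⟨e', he', hye', -, -⟩ := hg U hU z.1 (f.preimage_mono i z.2)
  obtain ⟨c, hc⟩ := Opens.mem_iSup.mp hye
  have hc' := (L.mem_loc_iff (L.pc_mono c i (X.basicOpen_le _ hc))).mp hye'
  let W : X.Opens := X.basicOpen (PowerSeries.coeff 1 (e.1 c)) ⊓ X.basicOpen (PowerSeries.coeff 1 (e'.1 c))
  have hW : W ≤ L.pc c V := inf_le_left.trans (X.basicOpen_le _)
  have hWV : W ≤ f ⁻¹ᵁ V := hW.trans (L.pc_le_preimage c V)
  have hu := L.isUnit_φ hV hW he inf_le_left
  have hu' := L.isUnit_φ hU (hW.trans (L.pc_mono c i)) he' inf_le_right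
  have hm : ψ e' ∈ L.deg V 1 := ψ.map_mem he'
  have hcomp : (L.φ hV c hW).comp (ψ : L.alg U →+* L.alg V) = L.φ hU c (hW.trans (L.pc_mono c i)) := by
    rw [← L.φ_res hU hV i c hW]
    refine RingHom.ext fun s => ?_
    rw [RingHom.comp_apply, RingHom.comp_apply]
    exact congrArg (L.φ hV c hW) (hψ s)
  have hu2 : IsUnit (((L.φ hV c hW).comp (ψ : L.alg U →+* L.alg V)) e') := by rw [hcomp]; exact hu'
  have hz : z.1 ∈ W := ⟨hc, hc'⟩
  refine ⟨(f ⁻¹ᵁ V).ι ⁻¹ᵁ W, hz, ?_⟩
  have key : X.homOfLE hWV ≫ X.homOfLE (f.preimage_mono i) ≫ L.chartHom hU hg =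
      X.homOfLE hWV ≫ L.chartHom hV hg ≫ Proj.map ψ hirr := by
    rw [← Category.assoc, ← Category.assoc, Scheme.homOfLE_homOfLE,
      L.homOfLE_chartHom hU hg (hW.trans (L.pc_mono c i)) he' hu',
      L.homOfLE_chartHom hV hg hW he hu, L.pt_congr hV c c hW hW he hm hu hu2]
    rw [pt, pt]
    erw [ptG_map (L.deg U) ψ hirr (L.φ hV c hW) he' one_pos hu2 hu2]
    congr 1
    exact hcomp.symm
  let t : ((f ⁻¹ᵁ V).ι ⁻¹ᵁ W).toScheme ⟶ W.toScheme :=
    IsOpenImmersion.lift W.ι (((f ⁻¹ᵁ V).ι ⁻¹ᵁ W).ι ≫ (f ⁻¹ᵁ V).ι) (by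
      rintro _ ⟨w, rfl⟩
      rw [Scheme.Opens.range_ι]
      exact w.2)
  have ht : t ≫ X.homOfLE hWV = ((f ⁻¹ᵁ V).ι ⁻¹ᵁ W).ι := by
    rw [← cancel_mono (f ⁻¹ᵁ V).ι, Category.assoc, Scheme.homOfLE_ι]
    exact IsOpenImmersion.lift_fac _ _ _
  rw [← ht, Category.assoc, Category.assoc]
  exact congrArg (t ≫ ·) key

include hU in
lemma bot_of_loc_eq_bot {x : L.alg U} {d : ℕ} (hx : x ∈ L.deg U d) (h : L.loc U d x = ⊥) :
    ∃ m, x ^ m = 0 := by
  classical
  obtain ⟨m, hm⟩ := L.exists_pow_mul_eq_zero hU (j := d) (k := 0) (fun c => PowerSeries.coeff d (x.1 c))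
    (fun _ => 1) (fun c c' O hc hd => L.isCompat_alg x.2 d c c' O hc hd) (fun c c' O hc hd => by simp)
    (fun c => eq_zero_of_germ fun y hy => False.elim
      (show y ∈ (⊥ : X.Opens) from h ▸ Opens.mem_iSup.mpr ⟨c, hy⟩))
  refine ⟨m, Subtype.ext (L.amb_ext fun c k => ?_)⟩
  have hp : x ^ m ∈ L.deg U (m • d) := SetLike.pow_mem_graded m hx
  by_cases hk : k = m • d
  · subst hk
    rw [← L.ev_of_mem hU c hp, map_pow, L.ev_of_mem hU c hx]
    have := hm m le_rfl c
    rw [mul_one] at this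
    rw [this]; simp
  · rw [hp c k hk]; simp

theorem surjective_chartHom [UniversallyClosed f] : Function.Surjective (L.chartHom hU hg) := by
  classical
  let q : Proj (L.deg U) ⟶ (U : Scheme.{u}) :=
    Proj.toSpecZero (L.deg U) ≫ Spec.map (CommRingCat.ofHom (L.strDeg U)) ≫ hU.isoSpec.inv
  have hq : L.chartHom hU hg ≫ q = f ∣_ U := by
    rw [← cancel_mono U.ι, Category.assoc, morphismRestrict_ι]
    simp only [q, Category.assoc, IsAffineOpen.isoSpec_inv_ι]
    exact L.chartHom_over hU hg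
  haveI : UniversallyClosed (L.chartHom hU hg ≫ q) := by
    rw [hq]; exact IsZariskiLocalAtTarget.restrict (P := @UniversallyClosed) (inferInstance : UniversallyClosed f) U
  haveI : IsSeparated q := inferInstance
  haveI : UniversallyClosed (L.chartHom hU hg) := UniversallyClosed.of_comp_of_isSeparated _ q
  intro y
  have hclosed : IsClosed (Set.range (L.chartHom hU hg)) := (L.chartHom hU hg).isClosedMap.isClosed_range
  by_contra hy
  obtain ⟨_, ⟨_, ⟨a, rfl⟩, rfl⟩, hya, hsub⟩ :=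
    (Proj.isBasis_basicOpen (L.deg U)).exists_subset_of_mem_open (show y ∈ (Set.range (L.chartHom hU hg))ᶜ from hy)
      hclosed.isOpen_compl
  have hya' : y ∈ Proj.basicOpen (L.deg U) a := hya
  rw [Proj.basicOpen_eq_iSup_proj, Opens.mem_iSup] at hya'
  obtain ⟨i, hi⟩ := hya'
  obtain ⟨t, ht0, hty⟩ : ∃ t, t ∈ (HomogeneousIdeal.irrelevant (L.deg U)).toIdeal ∧ t ∉ y.asHomogeneousIdeal.toIdeal :=
    SetLike.not_le_iff_exists.mp y.not_irrelevant_le
  obtain ⟨l, hl⟩ : ∃ l, GradedRing.proj (L.deg U) l t ∉ y.asHomogeneousIdeal.toIdeal := by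
    by_contra hne
    push_neg at hne
    apply hty
    rw [← DirectSum.sum_support_decompose (L.deg U) t]
    exact Ideal.sum_mem _ fun j _ => hne j
  have hl0 : 0 < l := by
    rcases Nat.eq_zero_or_pos l with rfl | h
    · exact absurd (by rw [(HomogeneousIdeal.mem_irrelevant_iff _ _).mp ht0]; exact zero_mem _) hl
    · exact h
  let x := GradedRing.proj (L.deg U) i a * GradedRing.proj (L.deg U) l t
  have hx : x ∈ L.deg U (i + l) := SetLike.mul_mem_graded (SetLike.coe_mem _) (SetLike.coe_mem _)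
  have hyx : y ∈ Proj.basicOpen (L.deg U) x := by
    rw [Proj.basicOpen_mul]; exact ⟨hi, hl⟩
  have hxa : Proj.basicOpen (L.deg U) x ≤ Proj.basicOpen (L.deg U) a := by
    rw [Proj.basicOpen_mul, Proj.basicOpen_eq_iSup_proj (L.deg U) a]
    exact inf_le_left.trans (le_iSup (fun i => Proj.basicOpen (L.deg U) (GradedRing.proj (L.deg U) i a)) i)
  have hloc : L.loc U (i + l) x = ⊥ := by
    refine eq_bot_iff.mpr fun w hw => ?_
    have hw' : (⟨w, L.loc_le _ _ hw⟩ : (f ⁻¹ᵁ U).toScheme) ∈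
        L.chartHom hU hg ⁻¹ᵁ Proj.basicOpen (L.deg U) x := by
      rw [L.chartHom_preimage hU hg hx (by omega)]; exact hw
    exact hsub (hxa hw') ⟨_, rfl⟩
  obtain ⟨m, hm⟩ := L.bot_of_loc_eq_bot hU hx hloc
  rw [← Proj.basicOpen_pow (L.deg U) x (m + 1) (Nat.succ_pos m), pow_succ, hm, zero_mul, Proj.basicOpen_zero] at hyx
  exact hyx

theorem isIso_chartHom_restrict {e : L.alg U} (he : e ∈ L.deg U 1)
    (ha : IsAffineOpen (L.loc U 1 e)) (hgen : L.Gen U e) :
    IsIso (L.chartHom hU hg ∣_ Proj.basicOpen (L.deg U) e) := by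
  classical
  let Z : X.Opens := L.loc U 1 e
  haveI : IsAffine Z.toScheme := ha
  let iU := X.homOfLE (L.loc_le (U := U) 1 e)
  have hr : Set.range (iU ≫ L.chartHom hU hg) ⊆ Set.range (Proj.awayι (L.deg U) e he one_pos) := by
    rw [← Scheme.Hom.coe_opensRange (Proj.awayι (L.deg U) e he one_pos), Proj.opensRange_awayι]
    rintro _ ⟨w, rfl⟩
    change iU w ∈ L.chartHom hU hg ⁻¹ᵁ Proj.basicOpen (L.deg U) e
    rw [L.chartHom_preimage hU hg he one_pos]
    change (iU w).1 ∈ Z
    rw [Scheme.homOfLE_apply]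
    exact w.2
  obtain ⟨θ, hθ⟩ := toSpecOf_surjective (IsOpenImmersion.lift (Proj.awayι (L.deg U) e he one_pos) _ hr)
  have hθ' : toSpecOf θ ≫ Proj.awayι (L.deg U) e he one_pos = iU ≫ L.chartHom hU hg := by
    rw [hθ]; exact IsOpenImmersion.lift_fac _ _ _
  let B : L.ι → X.Opens := fun c => X.basicOpen (PowerSeries.coeff 1 (e.1 c))
  have hB : ∀ c, B c ≤ L.pc c U := fun c => X.basicOpen_le _
  have hBZ : ∀ c, B c ≤ Z := fun c => le_iSup (fun c => X.basicOpen (PowerSeries.coeff 1 (e.1 c))) c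
  have hloc : ∀ c (k : ℕ) (s : L.alg U) (hs : s ∈ L.deg U (k • 1)),
      rs (hBZ c) (Z.topIso.hom (θ (HomogeneousLocalization.Away.mk (L.deg U) he k s hs))) *
          rs (hB c) (PowerSeries.coeff 1 (e.1 c)) ^ k = rs (hB c) (PowerSeries.coeff k (s.1 c)) := by
    intro c k s hs
    have hu := L.isUnit_φ hU (hB c) he le_rfl
    have h1 : (X.homOfLE (hBZ c)).appTop.hom.comp θ = awayLift (L.deg U) (L.φ hU c (hB c)) e hu := by
      apply toSpecOf_injective
      rw [← comp_toSpecOf, ← cancel_mono (Proj.awayι (L.deg U) e he one_pos), Category.assoc, hθ',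
        ← Category.assoc, Scheme.homOfLE_homOfLE, L.homOfLE_chartHom hU hg (hB c) he hu]
      rfl
    have h2 := awayLift_mk (L.deg U) (L.φ hU c (hB c)) he hu k s hs
    rw [← h1, L.φ_of_mem hU c (hB c) he,
      L.φ_of_mem hU c (hB c) (by simpa using hs : s ∈ L.deg U k)] at h2
    have h3 := congrArg (B c).topIso.hom h2
    rw [RingHom.comp_apply, map_mul, map_pow, ← CommRingCat.comp_apply (B c).topIso.inv,
      ← CommRingCat.comp_apply (B c).topIso.inv, Iso.inv_hom_id] at h3
    refine Eq.trans ?_ h3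
    refine congrArg (· * _) ?_
    have h4 : Z.topIso.hom ≫ X.presheaf.map (homOfLE (hBZ c)).op =
        (X.homOfLE (hBZ c)).appTop ≫ (B c).topIso.hom := by
      simp only [Scheme.Opens.topIso_hom, Scheme.homOfLE_appTop]
      erw [← Functor.map_comp, ← Functor.map_comp]
      rfl
    exact congrArg (fun g : Γ(Z.toScheme, ⊤) ⟶ Γ(X, B c) => g (θ _)) h4
  have hbij : Function.Bijective θ := by
    constructor
    · rw [injective_iff_map_eq_zero]
      intro w hw
      obtain ⟨k, s, hs, rfl⟩ := HomogeneousLocalization.Away.mk_surjective _ he w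
      have hs' : s ∈ L.deg U k := by simpa using hs
      obtain ⟨m, hm⟩ := L.exists_pow_mul_eq_zero hU (j := 1) (k := k) (fun c => PowerSeries.coeff 1 (e.1 c))
        (fun c => PowerSeries.coeff k (s.1 c)) (fun c c' O hc hd => L.isCompat_alg e.2 1 c c' O hc hd)
        (fun c c' O hc hd => L.isCompat_alg s.2 k c c' O hc hd)
        (fun c => by
          have h := hloc c k s hs
          rw [hw, map_zero, map_zero, zero_mul] at h
          exact h.symm)
      have hp : e ^ m * s ∈ L.deg U (m + k) := by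
        have := L.deg_mul_mem U (SetLike.pow_mem_graded m he) hs'
        simpa using this
      have hT : e ^ m * s = 0 := Subtype.ext (L.amb_ext fun c j => by
        by_cases hj : j = m + k
        · subst hj
          rw [← L.ev_of_mem hU c hp, map_mul, map_pow, L.ev_of_mem hU c he, L.ev_of_mem hU c hs', hm m le_rfl c]
          simp
        · rw [hp c j hj]; simp)
      apply HomogeneousLocalization.val_injective
      rw [HomogeneousLocalization.Away.val_mk, HomogeneousLocalization.val_zero,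
        Localization.mk_eq_mk', IsLocalization.mk'_eq_zero_iff]
      exact ⟨⟨_, m, rfl⟩, hT⟩
    · intro y
      obtain ⟨k, s, hs, hks⟩ := hgen (Z.topIso.hom y)
      refine ⟨HomogeneousLocalization.Away.mk (L.deg U) he k s (by simpa using hs), ?_⟩
      apply (ConcreteCategory.bijective_of_isIso Z.topIso.hom).1
      refine X.sheaf.eq_of_locally_eq' B Z (fun c => homOfLE (hBZ c)) le_rfl _ _ fun c => ?_
      have h := (hloc c k s (by simpa using hs)).trans (hks c).symm
      exact (((RingedSpace.isUnit_res_basicOpen X.toRingedSpace (PowerSeries.coeff 1 (e.1 c))).pow k).mul_left_inj).mp h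
  have : IsIso (CommRingCat.ofHom θ) := (ConcreteCategory.isIso_iff_bijective _).mpr hbij
  let g : Z.toScheme ⟶ Spec (CommRingCat.of _) := toSpecOf θ
  have hgi : IsIso g := by
    change IsIso (Z.toScheme.toSpecΓ ≫ Spec.map _)
    infer_instance
  refine restrict_of_isPullback (P := MorphismProperty.isomorphisms Scheme)
    (g := g ≫ (Proj.basicOpenIsoSpec (L.deg U) e he one_pos).inv) (iU := iU) ?_ (by
      change IsIso _; infer_instance)
  refine IsOpenImmersion.isPullback _ _ _ _ ?_ ?_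
  · rw [Category.assoc, Proj.basicOpenIsoSpec_inv_ι]
    exact hθ'.symm
  · rw [Scheme.Opens.opensRange_ι, L.chartHom_preimage hU hg he one_pos]
    ext z
    refine ⟨fun h => ⟨⟨z.1, h⟩, Subtype.ext (Scheme.homOfLE_apply _ _)⟩, ?_⟩
    rintro ⟨w, hw⟩
    change z.1 ∈ Z
    rw [← hw, Scheme.homOfLE_apply]
    exact w.2

theorem isIso_chartHom [UniversallyClosed f] : IsIso (L.chartHom hU hg) := by
  classical
  let K : Type u := {e : L.alg U // e ∈ L.deg U 1 ∧ IsAffineOpen (L.loc U 1 e) ∧ L.Gen U e}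
  have hcov : ⨆ e : K, Proj.basicOpen (L.deg U) e.1 = ⊤ := by
    refine eq_top_iff.mpr fun y _ => ?_
    obtain ⟨z, rfl⟩ := L.surjective_chartHom hU hg y
    obtain ⟨e, he, hye, ha, hgen⟩ := hg U hU z.1 z.2
    refine Opens.mem_iSup.mpr ⟨⟨e, he, ha, hgen⟩, ?_⟩
    change z ∈ L.chartHom hU hg ⁻¹ᵁ Proj.basicOpen (L.deg U) e
    rw [L.chartHom_preimage hU hg he one_pos]
    exact hye
  refine IsZariskiLocalAtTarget.of_iSup_eq_top (P := MorphismProperty.isomorphisms Scheme) _ hcov ?_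
  rintro ⟨e, he, ha, hgen⟩
  exact L.isIso_chartHom_restrict hU hg he ha hgen

end LinSysLib.LinSys

namespace LinSysLib

variable {X S : Scheme.{u}} {f : X ⟶ S} [UniversallyClosed f] (L : LinSys f)

/-- a universally closed morphism with a good linear system is projective -/
theorem isProjective_of_isGood (hg : L.IsGood) : RelProj.IsProjective f := by
  refine ⟨L.coordAlg, X, f, fun U hU => letI := L.gradedRing hU
    @asIso _ _ _ _ (L.chartHom hU hg) (L.isIso_chartHom hU hg), Iso.refl X, L.coordAlg_isGenDegOne,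
    L.coordAlg_isFTDeg, ⟨fun U hU => ?_, fun U hU r => ?_⟩, Category.id_comp f⟩
  · letI := L.gradedRing hU
    exact L.chartHom_over hU hg
  · letI := L.gradedRing hU
    letI := L.gradedRing (hU.basicOpen r)
    exact L.chartHom_res hU hg (hU.basicOpen r) (S.basicOpen_le r) _ (fun _ => rfl) _

end LinSysLib

end
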