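import Groth.Agent.LinSysLib.Ops
import Groth.Agent.RelProjLib.PtGraded
import Groth.Prelude.Def_RelProj

/-!
# Fractions as functions on a relative Proj
-/

set_option autoImplicit false
universe u

open CategoryTheory CategoryTheory.Limits AlgebraicGeometry TopologicalSpace Opposite HomogeneousLocalization
open RelProjLib ChowLib

noncomputable section

namespace LinSysLib.RelP

variable {S P : Scheme.{u}} (𝒮 : RelProj.QCGrAlg S) (p : P ⟶ S)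
  (chart : ∀ (U : S.Opens) (hU : IsAffineOpen U), (((p ⁻¹ᵁ U : P.Opens) : Scheme.{u}) ≅ Proj (𝒮.deg U hU)))

/-- the open of `P` where a section is invertible -/
def D (i : S.affineOpens) (s : 𝒮.presheaf.obj (op i.1)) : P.Opens :=
  (p ⁻¹ᵁ i.1).ι ''ᵁ ((chart i.1 i.2).hom ⁻¹ᵁ Proj.basicOpen (𝒮.deg i.1 i.2) s)

lemma D_le (i : S.affineOpens) (s : 𝒮.presheaf.obj (op i.1)) : D 𝒮 p chart i s ≤ p ⁻¹ᵁ i.1 :=
  Scheme.Opens.ι_image_le _ _

/-- the chart on an open -/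
def mor (i : S.affineOpens) {O : P.Opens} (h : O ≤ p ⁻¹ᵁ i.1) : O.toScheme ⟶ Proj (𝒮.deg i.1 i.2) :=
  P.homOfLE h ≫ (chart i.1 i.2).hom

lemma mor_preimage (i : S.affineOpens) {O : P.Opens} (h : O ≤ p ⁻¹ᵁ i.1) (s : 𝒮.presheaf.obj (op i.1)) :
    mor 𝒮 p chart i h ⁻¹ᵁ Proj.basicOpen (𝒮.deg i.1 i.2) s = O.ι ⁻¹ᵁ D 𝒮 p chart i s := by
  rw [mor, Scheme.Hom.comp_preimage]
  ext z
  constructor
  · intro hz
    exact ⟨P.homOfLE h z, hz, Scheme.homOfLE_apply _ _⟩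
  · rintro ⟨w, hw, hwz⟩
    have : P.homOfLE h z = w := Subtype.ext ((Scheme.homOfLE_apply _ _).trans hwz.symm)
    change P.homOfLE h z ∈ (chart i.1 i.2).hom ⁻¹ᵁ Proj.basicOpen (𝒮.deg i.1 i.2) s
    rw [this]
    exact hw

lemma D_mul (i : S.affineOpens) (s t : 𝒮.presheaf.obj (op i.1)) :
    D 𝒮 p chart i (s * t) = D 𝒮 p chart i s ⊓ D 𝒮 p chart i t := by
  rw [D, D, D, Proj.basicOpen_mul, Scheme.Hom.preimage_inf]
  exact TopologicalSpace.Opens.ext (Set.image_inter (Scheme.Hom.isOpenEmbedding (p ⁻¹ᵁ i.1).ι).injective)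

variable {i : S.affineOpens} {s : 𝒮.presheaf.obj (op i.1)} {d : ℕ} (hs : s ∈ 𝒮.deg i.1 i.2 d) (hd : 0 < d)
  {O : P.Opens} (hO : O ≤ D 𝒮 p chart i s)

include hs hd hO in
lemma exists_θ : ∃ θ : Away (𝒮.deg i.1 i.2) s →+* Γ(O.toScheme, ⊤),
    toSpecOf θ ≫ Proj.awayι (𝒮.deg i.1 i.2) s hs hd = mor 𝒮 p chart i (hO.trans (D_le 𝒮 p chart i s)) := by
  have hr : Set.range (mor 𝒮 p chart i (hO.trans (D_le 𝒮 p chart i s))) ⊆
      Set.range (Proj.awayι (𝒮.deg i.1 i.2) s hs hd) := by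
    rw [← Scheme.Hom.coe_opensRange (Proj.awayι (𝒮.deg i.1 i.2) s hs hd), Proj.opensRange_awayι]
    rintro _ ⟨w, rfl⟩
    change w ∈ mor 𝒮 p chart i _ ⁻¹ᵁ Proj.basicOpen (𝒮.deg i.1 i.2) s
    rw [mor_preimage]
    exact hO w.2
  obtain ⟨θ, hθ⟩ := toSpecOf_surjective (IsOpenImmersion.lift (Proj.awayι (𝒮.deg i.1 i.2) s hs hd) _ hr)
  exact ⟨θ, by rw [hθ]; exact IsOpenImmersion.lift_fac _ _ _⟩

/-- fractions as functions -/
def θ : Away (𝒮.deg i.1 i.2) s →+* Γ(P, O) :=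
  O.topIso.hom.hom.comp (exists_θ 𝒮 p chart hs hd hO).choose

lemma θ_spec : toSpecOf (O.topIso.inv.hom.comp (θ 𝒮 p chart hs hd hO)) ≫ Proj.awayι (𝒮.deg i.1 i.2) s hs hd =
    mor 𝒮 p chart i (hO.trans (D_le 𝒮 p chart i s)) := by
  have : O.topIso.inv.hom.comp (θ 𝒮 p chart hs hd hO) = (exists_θ 𝒮 p chart hs hd hO).choose := by
    rw [θ, ← RingHom.comp_assoc, ← CommRingCat.hom_comp, Iso.hom_inv_id, CommRingCat.hom_id, RingHom.id_comp]
  rw [this]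
  exact (exists_θ 𝒮 p chart hs hd hO).choose_spec

lemma θ_unique (ξ : Away (𝒮.deg i.1 i.2) s →+* Γ(P, O))
    (h : toSpecOf (O.topIso.inv.hom.comp ξ) ≫ Proj.awayι (𝒮.deg i.1 i.2) s hs hd =
      mor 𝒮 p chart i (hO.trans (D_le 𝒮 p chart i s))) : ξ = θ 𝒮 p chart hs hd hO := by
  have h1 : O.topIso.inv.hom.comp ξ = O.topIso.inv.hom.comp (θ 𝒮 p chart hs hd hO) :=
    toSpecOf_injective ((cancel_mono _).mp (h.trans (θ_spec 𝒮 p chart hs hd hO).symm))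
  refine RingHom.ext fun x => (ConcreteCategory.bijective_of_isIso O.topIso.inv).1 ?_
  exact DFunLike.congr_fun h1 x

lemma topIso_inv_comp {O O' : P.Opens} (h : O' ≤ O) {A : Type u} [CommRing A] (ξ : A →+* Γ(P, O)) :
    (P.homOfLE h).appTop.hom.comp (O.topIso.inv.hom.comp ξ) = O'.topIso.inv.hom.comp ((rs h).comp ξ) := by
  rw [← RingHom.comp_assoc, ← RingHom.comp_assoc, ← CommRingCat.hom_comp, ← CommRingCat.hom_comp]
  congr 2
  simp only [Scheme.Opens.topIso_inv, Scheme.homOfLE_appTop]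
  erw [← Functor.map_comp, ← Functor.map_comp]
  rfl

lemma rs_comp_θ {O' : P.Opens} (h : O' ≤ O) :
    (rs h).comp (θ 𝒮 p chart hs hd hO) = θ 𝒮 p chart hs hd (h.trans hO) := by
  refine θ_unique 𝒮 p chart hs hd (h.trans hO) _ ?_
  rw [← topIso_inv_comp, ← comp_toSpecOf, Category.assoc, θ_spec, mor, mor, ← Category.assoc,
    Scheme.homOfLE_homOfLE]

lemma rs_θ {O' : P.Opens} (h : O' ≤ O) (z : Away (𝒮.deg i.1 i.2) s) :
    rs h (θ 𝒮 p chart hs hd hO z) = θ 𝒮 p chart hs hd (h.trans hO) z :=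
  DFunLike.congr_fun (rs_comp_θ 𝒮 p chart hs hd hO h) z

lemma θ_comp_awayMap {t x : 𝒮.presheaf.obj (op i.1)} {e : ℕ} (ht : t ∈ 𝒮.deg i.1 i.2 e) (hx : x = s * t)
    (hxd : x ∈ 𝒮.deg i.1 i.2 (d + e)) (hOx : O ≤ D 𝒮 p chart i x) :
    (θ 𝒮 p chart hxd (hd.trans_le (Nat.le_add_right d e)) hOx).comp (awayMap (𝒮.deg i.1 i.2) ht hx) =
      θ 𝒮 p chart hs hd hO := by
  refine θ_unique 𝒮 p chart hs hd hO _ ?_
  rw [← RingHom.comp_assoc, toSpecOf, Category.assoc, CommRingCat.ofHom_comp, Spec.map_comp, Category.assoc,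
    Proj.SpecMap_awayMap_awayι (𝒮.deg i.1 i.2) hs hd ht hx, ← Category.assoc (Scheme.toSpecΓ _)]
  exact θ_spec 𝒮 p chart hxd _ hOx

/-- the fraction of two sections of degree one -/
def q {t a : 𝒮.presheaf.obj (op i.1)} (ht : t ∈ 𝒮.deg i.1 i.2 1) (ha : a ∈ 𝒮.deg i.1 i.2 1) {O : P.Opens}
    (hO : O ≤ D 𝒮 p chart i t) : Γ(P, O) :=
  θ 𝒮 p chart ht one_pos hO (Away.mk (𝒮.deg i.1 i.2) ht 1 a (by simpa using ha))

variable {t t' a : 𝒮.presheaf.obj (op i.1)} (ht : t ∈ 𝒮.deg i.1 i.2 1) (ht' : t' ∈ 𝒮.deg i.1 i.2 1)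
  (ha : a ∈ 𝒮.deg i.1 i.2 1) {O : P.Opens} (hO : O ≤ D 𝒮 p chart i t)

lemma rs_q {O' : P.Opens} (h : O' ≤ O) :
    rs h (q 𝒮 p chart ht ha hO) = q 𝒮 p chart ht ha (h.trans hO) := rs_θ 𝒮 p chart ht one_pos hO h _

lemma q_self : q 𝒮 p chart ht ht hO = 1 := by
  rw [q, ← map_one (θ 𝒮 p chart ht one_pos hO)]
  congr 1
  apply HomogeneousLocalization.val_injective
  rw [Away.val_mk, HomogeneousLocalization.val_one, Localization.mk_eq_mk',
    IsLocalization.mk'_eq_iff_eq_mul, one_mul]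
  exact congrArg (algebraMap _ _) (pow_one t).symm

lemma q_chain (hO' : O ≤ D 𝒮 p chart i t') :
    q 𝒮 p chart ht ha hO = q 𝒮 p chart ht ht' hO * q 𝒮 p chart ht' ha hO' := by
  have hx : t * t' ∈ 𝒮.deg i.1 i.2 (1 + 1) := SetLike.mul_mem_graded ht ht'
  have hOx : O ≤ D 𝒮 p chart i (t * t') := by rw [D_mul]; exact le_inf hO hO'
  have h1 := θ_comp_awayMap 𝒮 p chart ht one_pos hO ht' rfl hx hOx
  have h2 := θ_comp_awayMap 𝒮 p chart ht' one_pos hO' ht (mul_comm t t') hx hOx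
  rw [q, q, q, ← h1, ← h2]
  simp only [RingHom.comp_apply]
  rw [← map_mul]
  congr 1
  apply HomogeneousLocalization.val_injective
  rw [HomogeneousLocalization.val_mul, awayMap_mk, awayMap_mk, awayMap_mk, Away.val_mk, Away.val_mk, Away.val_mk,
    Localization.mk_mul, Localization.mk_eq_mk_iff, Localization.r_iff_exists]
  refine ⟨1, ?_⟩
  simp only [pow_one, Submonoid.coe_mul, OneMemClass.coe_one, one_mul]
  ring

lemma inf_D_eq_basicOpen : O ⊓ D 𝒮 p chart i t' = P.basicOpen (q 𝒮 p chart ht ht' hO) := by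
  have h1 : mor 𝒮 p chart i (hO.trans (D_le 𝒮 p chart i t)) ⁻¹ᵁ Proj.basicOpen (𝒮.deg i.1 i.2) t' =
      O.toScheme.basicOpen (O.topIso.inv (q 𝒮 p chart ht ht' hO)) := by
    rw [← θ_spec 𝒮 p chart ht one_pos hO, Scheme.Hom.comp_preimage,
      Proj.awayι_preimage_basicOpen (𝒮.deg i.1 i.2) ht one_pos ht' one_pos, toSpecOf, Scheme.Hom.comp_preimage]
    erw [show Spec.map (CommRingCat.ofHom (O.topIso.inv.hom.comp (θ 𝒮 p chart ht one_pos hO))) ⁻¹ᵁ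
      PrimeSpectrum.basicOpen (Away.isLocalizationElem ht ht') =
      PrimeSpectrum.basicOpen (O.topIso.inv.hom.comp (θ 𝒮 p chart ht one_pos hO)
        (Away.isLocalizationElem ht ht')) from rfl]
    erw [Scheme.toSpecΓ_preimage_basicOpen]
    rw [RingHom.comp_apply, q]
    congr 3
    apply HomogeneousLocalization.val_injective
    simp [Away.isLocalizationElem]
  rw [mor_preimage] at h1
  rw [← Scheme.Opens.ι_image_basicOpen_topIso_inv, ← h1, Scheme.Hom.image_preimage_eq_opensRange_inf,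
    Scheme.Opens.opensRange_ι]

variable (hP : RelProj.IsRelProj 𝒮 p chart)

include hP in
lemma θ_zero (r : Γ(S, i.1)) :
    θ 𝒮 p chart hs hd (O := D 𝒮 p chart i s) le_rfl
        (fromZeroRingHom (𝒮.deg i.1 i.2) _ ((𝒮.strZero i.1 i.2).hom r)) =
      (p.appLE i.1 _ (D_le 𝒮 p chart i s)).hom r := by
  set O' := D 𝒮 p chart i s
  let ξ : Γ(S, i.1) →+* Γ(P, O') :=
    ((θ 𝒮 p chart hs hd (O := O') le_rfl).comp (fromZeroRingHom (𝒮.deg i.1 i.2) _)).comp (𝒮.strZero i.1 i.2).hom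
  have h : toSpecOf (O'.topIso.inv.hom.comp ξ) ≫ i.2.fromSpec =
      toSpecOf (O'.topIso.inv.hom.comp (p.appLE i.1 O' (D_le 𝒮 p chart i s)).hom) ≫ i.2.fromSpec := by
    have hl : toSpecOf (O'.topIso.inv.hom.comp ξ) ≫ i.2.fromSpec = O'.ι ≫ p := by
      have h1 : toSpecOf (O'.topIso.inv.hom.comp ξ) = toSpecOf (O'.topIso.inv.hom.comp (θ 𝒮 p chart hs hd (O := O') le_rfl)) ≫
          Proj.awayι (𝒮.deg i.1 i.2) s hs hd ≫ Proj.toSpecZero (𝒮.deg i.1 i.2) ≫ Spec.map (𝒮.strZero i.1 i.2) := by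
        rw [Proj.awayι_toSpecZero_assoc, ← Spec.map_comp, toSpecOf, toSpecOf, Category.assoc, ← Spec.map_comp]
        rfl
      rw [h1, Category.assoc, Category.assoc, Category.assoc, ← Category.assoc (toSpecOf _), θ_spec, mor,
        Category.assoc, hP.chart_over i.1 i.2, ← Category.assoc, Scheme.homOfLE_ι]
    rw [hl, toSpecOf, CommRingCat.ofHom_comp, CommRingCat.ofHom_hom, CommRingCat.ofHom_hom, Spec.map_comp,
      Category.assoc, Category.assoc, ← Category.assoc (Scheme.toSpecΓ _)]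
    refine Eq.trans ?_ (Scheme.Opens.toSpecΓ_SpecMap_appLE_assoc p i.1 _ (D_le 𝒮 p chart i s) _).symm
    rw [IsAffineOpen.toSpecΓ_fromSpec, Scheme.Hom.resLE_comp_ι]
  have h2 := DFunLike.congr_fun (toSpecOf_injective ((cancel_mono _).mp h)) r
  exact (ConcreteCategory.bijective_of_isIso O'.topIso.inv).1 h2

include hP in
lemma q_str_mul (r : Γ(S, i.1)) (hra : (𝒮.str.app (op i.1)).hom r * a ∈ 𝒮.deg i.1 i.2 1) :
    q 𝒮 p chart ht hra hO =
      (p.appLE i.1 O (hO.trans (D_le 𝒮 p chart i t))).hom r * q 𝒮 p chart ht ha hO := by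
  have h0 : θ 𝒮 p chart ht one_pos hO (fromZeroRingHom (𝒮.deg i.1 i.2) _ ((𝒮.strZero i.1 i.2).hom r)) =
      (p.appLE i.1 O (hO.trans (D_le 𝒮 p chart i t))).hom r := by
    rw [← rs_θ 𝒮 p chart ht one_pos le_rfl hO, θ_zero 𝒮 p chart ht one_pos hP, rs_appLE]
  rw [← h0, q, q, ← map_mul]
  congr 1
  apply HomogeneousLocalization.val_injective
  rw [HomogeneousLocalization.val_mul, Away.val_mk, Away.val_mk]
  show _ = Localization.mk _ ⟨1, _⟩ * _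
  rw [Localization.mk_mul]
  congr 1
  exact Subtype.ext (one_mul _).symm

lemma q_add {b : 𝒮.presheaf.obj (op i.1)} (hb : b ∈ 𝒮.deg i.1 i.2 1) :
    q 𝒮 p chart ht (add_mem ha hb) hO = q 𝒮 p chart ht ha hO + q 𝒮 p chart ht hb hO := by
  rw [q, q, q, ← map_add]
  congr 1
  apply HomogeneousLocalization.val_injective
  rw [HomogeneousLocalization.val_add, Away.val_mk, Away.val_mk, Away.val_mk, Localization.add_mk_self]

lemma q_zero : q 𝒮 p chart ht (zero_mem (𝒮.deg i.1 i.2 1)) hO = 0 := by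
  rw [q, ← map_zero (θ 𝒮 p chart ht one_pos hO)]
  congr 1
  apply HomogeneousLocalization.val_injective
  rw [Away.val_mk, HomogeneousLocalization.val_zero, Localization.mk_zero]

include hP in
lemma q_sum {κ : Type*} (T : Finset κ) (r : κ → Γ(S, i.1)) (b : κ → 𝒮.presheaf.obj (op i.1))
    (hb : ∀ k, b k ∈ 𝒮.deg i.1 i.2 1) (x : 𝒮.presheaf.obj (op i.1)) (hx : x ∈ 𝒮.deg i.1 i.2 1)
    (h : x = ∑ k ∈ T, (𝒮.str.app (op i.1)).hom (r k) * b k) :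
    q 𝒮 p chart ht hx hO =
      ∑ k ∈ T, (p.appLE i.1 O (hO.trans (D_le 𝒮 p chart i t))).hom (r k) * q 𝒮 p chart ht (hb k) hO := by
  classical
  induction T using Finset.induction_on generalizing x with
  | empty =>
    obtain rfl : x = 0 := by simpa using h
    rw [Finset.sum_empty]
    exact q_zero 𝒮 p chart ht hO
  | insert k T hk ih =>
    rw [Finset.sum_insert hk] at h
    have h1 : (𝒮.str.app (op i.1)).hom (r k) * b k ∈ 𝒮.deg i.1 i.2 1 := by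
      simpa using SetLike.mul_mem_graded (𝒮.str_mem i.1 i.2 (r k)) (hb k)
    have h2 : (∑ l ∈ T, (𝒮.str.app (op i.1)).hom (r l) * b l) ∈ 𝒮.deg i.1 i.2 1 :=
      sum_mem fun l _ => by simpa using SetLike.mul_mem_graded (𝒮.str_mem i.1 i.2 (r l)) (hb l)
    rw [Finset.sum_insert hk, ← ih _ h2 rfl, ← q_str_mul 𝒮 p chart ht (hb k) hO hP (r k) h1]
    subst h
    exact q_add 𝒮 p chart ht h1 hO h2

section basic

variable (r₀ : Γ(S, i.1))

/-- a basic open as an affine open -/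
abbrev bas : S.affineOpens := ⟨S.basicOpen r₀, i.2.basicOpen r₀⟩

/-- restriction to a basic open -/
abbrev ψ := 𝒮.res i.2 (i.2.basicOpen r₀) (S.basicOpen_le r₀)

include hP in
lemma mor_res {O : P.Opens} (h : O ≤ p ⁻¹ᵁ S.basicOpen r₀) :
    mor 𝒮 p chart (bas r₀) h ≫ Proj.map (ψ 𝒮 r₀) (𝒮.irrelevant_le_map i.1 i.2 r₀) =
      mor 𝒮 p chart i (h.trans (p.preimage_mono (S.basicOpen_le r₀))) := by
  rw [mor, mor, Category.assoc, ← hP.chart_res i.1 i.2 r₀, ← Category.assoc, Scheme.homOfLE_homOfLE]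

include hP in
lemma D_res (s : 𝒮.presheaf.obj (op i.1)) :
    D 𝒮 p chart (bas r₀) (ψ 𝒮 r₀ s) = D 𝒮 p chart i s ⊓ p ⁻¹ᵁ S.basicOpen r₀ := by
  have h1 : (p ⁻¹ᵁ S.basicOpen r₀).ι ⁻¹ᵁ D 𝒮 p chart (bas r₀) (ψ 𝒮 r₀ s) =
      (p ⁻¹ᵁ S.basicOpen r₀).ι ⁻¹ᵁ D 𝒮 p chart i s := by
    rw [← mor_preimage 𝒮 p chart (bas r₀) (O := p ⁻¹ᵁ S.basicOpen r₀) le_rfl (ψ 𝒮 r₀ s),
      ← mor_preimage 𝒮 p chart i (O := p ⁻¹ᵁ S.basicOpen r₀) (p.preimage_mono (S.basicOpen_le r₀)) s,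
      ← mor_res 𝒮 p chart hP r₀ le_rfl, Scheme.Hom.comp_preimage, Proj.map_preimage_basicOpen]
  have h2 := congrArg ((p ⁻¹ᵁ S.basicOpen r₀).ι ''ᵁ ·) h1
  simp only [Scheme.Hom.image_preimage_eq_opensRange_inf, Scheme.Opens.opensRange_ι] at h2
  exact (inf_eq_right.mpr (D_le 𝒮 p chart (bas r₀) (ψ 𝒮 r₀ s))).symm.trans (h2.trans (inf_comm _ _))

include hP hs hd in
lemma θ_res {O : P.Opens} (hO : O ≤ D 𝒮 p chart (bas r₀) (ψ 𝒮 r₀ s)) (hO' : O ≤ D 𝒮 p chart i s) :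
    (θ 𝒮 p chart ((ψ 𝒮 r₀).map_mem hs) hd hO).comp (Away.map (ψ 𝒮 r₀) s) = θ 𝒮 p chart hs hd hO' := by
  refine θ_unique 𝒮 p chart hs hd hO' _ ?_
  rw [← RingHom.comp_assoc, toSpecOf, Category.assoc, CommRingCat.ofHom_comp, Spec.map_comp, Category.assoc]
  erw [← Proj.awayι_comp_map (ψ 𝒮 r₀) (𝒮.irrelevant_le_map i.1 i.2 r₀) hd s hs]
  rw [← Category.assoc (Spec.map _), ← Category.assoc (Scheme.toSpecΓ _)]
  refine (congrArg (· ≫ Proj.map (ψ 𝒮 r₀) (𝒮.irrelevant_le_map i.1 i.2 r₀))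
    ((Category.assoc _ _ _).symm.trans (θ_spec 𝒮 p chart ((ψ 𝒮 r₀).map_mem hs) hd hO))).trans ?_
  exact mor_res 𝒮 p chart hP r₀ _

include hP in
lemma q_res {O : P.Opens} (hO : O ≤ D 𝒮 p chart (bas r₀) (ψ 𝒮 r₀ t)) (hO' : O ≤ D 𝒮 p chart i t) :
    q 𝒮 p chart ((ψ 𝒮 r₀).map_mem ht) ((ψ 𝒮 r₀).map_mem ha) hO = q 𝒮 p chart ht ha hO' := by
  rw [q, q, ← θ_res 𝒮 p chart ht one_pos hP r₀ hO hO', RingHom.comp_apply, Away.map_mk]
  rfl

end basic

end LinSysLib.RelP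

end
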